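import Cfsg.Agent.Lib.Cert.Sch

/-! Upper bounds for Schur multipliers from Sylow subgroups and fusion. -/

set_option autoImplicit false
set_option linter.unusedSectionVars false

namespace Cfsg.Agent.Ct

open Cfsg.Agent.PC Cfsg.Agent.Fi Cfsg.Agent.Schur MulAction Subgroup

universe u

section
variable {G X : Type*} [Group G] [MulAction G X] {pt : ℕ → X} {N m : ℕ} {B : List ℕ} {g q : ℕ → G} {T Q : ℕ → ℕ → ℕ}

theorem Md.words' (M : Md pt N B g T m) {W : ℕ → List ℕ} {r : ℕ} (h : lin (fun j => lettE m (W j)) (nat_lit 0) r = 0) :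
    Md pt N B (fun j => ev g (W j)) (fun j => trF T (W j)) r :=
  ⟨M.inj, M.lt, M.base, fun j hj => M.rw (lin_zero h j hj)⟩

/-- rules valid in the group -/
structure Rv (q : ℕ → G) (I Ru : ℕ → ℕ) (K : ℕ) : Prop where
  q0 : q 0 = 1
  r0 : Ru 0 = 0
  K0 : 0 < K
  idx : ∀ x < 4096, I x < K
  len : ∀ k < K, ruR (Ru k) < 64 ^ ruB (Ru k)
  rule : ∀ k < K, ev q (ruU (Ru k)) = ev q (ruV (Ru k))

noncomputable def rvE (Q : ℕ → ℕ → ℕ) (B : List ℕ) (m : ℕ) (Ru : ℕ → ℕ) (k : ℕ) : ℕ :=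
  force (Ru k) fun e => Nat.add (ltE (ruR e) (Nat.pow (nat_lit 64) (ruB e))) (eqE Q B m (ruU e) (ruV e))

theorem Md.rv (M : Md pt N B q Q m) {I Ru : ℕ → ℕ} {K : ℕ} (h0 : q 0 = 1) (h1 : Ru 0 = 0 ∧ 0 < K)
    (h2 : ∀ x < 4096, ltE (I x) K = 0) (h3 : ∀ k < K, rvE Q B m Ru k = 0) : Rv q I Ru K :=
  ⟨h0, h1.1, h1.2, fun x hx => ltE_zero (h2 x hx), fun k hk => ltE_zero (add_eq_zero' (h3 k hk)).1,
    fun k hk => M.eq (add_eq_zero' (h3 k hk)).2⟩

theorem dl_lt (f : ℕ) : ∀ n, ∀ a ∈ dl f n, a < 64 := by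
  induction f with
  | zero => exact fun _ _ h => by cases h
  | succ f ih => exact fun n a h => (List.mem_cons.mp h).elim (fun e => e ▸ Nat.mod_lt _ (by norm_num)) (ih _ a)

theorem dr_lt (f : ℕ) : ∀ n l, (∀ a ∈ l, a < 64) → ∀ a ∈ dr f n l, a < 64 := by
  induction f with
  | zero => exact fun _ _ h => h
  | succ f ih =>
    exact fun n l h => ih _ _ fun a ha => (List.mem_cons.mp ha).elim (fun e => e ▸ Nat.mod_lt _ (by norm_num)) (h a)

theorem evR_rep (h0 : g 0 = 1) {a : ℕ} (ha : a < 64) (p : ℕ) : evR g (pw (List.replicate p a)) = g a ^ p := by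
  induction p with
  | zero => simp [pw, evR]
  | succ p ih =>
    have e : pw (List.replicate (p + 1) a) = a + pw (List.replicate p a) * 64 := congrArg (a + ·) (Nat.shiftLeft_eq _ 6)
    rw [e, evR_eq h0, show (a + pw (List.replicate p a) * 64) / 64 = pw (List.replicate p a) by omega,
      show (a + pw (List.replicate p a) * 64) % 64 = a by omega, ih, pow_succ']

theorem evN_mem (h0 : g 0 = 1) {f n i : ℕ} (hn : n < 64 ^ f) (h : lettE (Nat.add i (nat_lit 1)) (dl f n) = 0) :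
    evN g n ∈ gen (fun j => g (j + 1)) i := by
  rw [← ev_dl h0 f n hn]
  refine ev_mem fun a ha => ?_
  rcases a with _ | a
  · rw [h0]; exact one_mem _
  · exact mem_gen (fun j => g (j + 1)) (Nat.lt_of_succ_lt_succ (lettE_zero h _ ha))

theorem chain_le [Finite G] {P : Subgroup G} {p r : ℕ} (hp : p.Prime) (h : Nat.card P ∣ p ^ r) (s : ℕ) (h1 : gen g s ≤ P)
    (h2 : ∀ i < s, g i ∉ gen g i) : p ^ s ∣ Nat.card (gen g s) := by
  induction s with
  | zero => simp
  | succ s ih =>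
    have h3 := gen_mono g (Nat.le_succ s)
    obtain ⟨a, -, h4⟩ := (Nat.dvd_prime_pow hp).mp ((card_dvd_of_le h1).trans h)
    have h5 := ih (h3.trans h1) fun i hi => h2 i (by omega)
    rw [h4]
    refine pow_dvd_pow p (Nat.succ_le_of_lt (Nat.lt_of_not_le fun e => h2 s (by omega) ?_))
    rw [eq_of_le_of_card_ge h3 (h4 ▸ (Nat.pow_le_pow_right hp.pos e).trans (Nat.le_of_dvd Nat.card_pos h5))]
    exact mem_gen g (by omega)

/-- the letters `o + i` are words in the letters `1, …, r` and generate a strictly increasing chain -/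
noncomputable def chE (Q : ℕ → ℕ → ℕ) (B : List ℕ) (N m r o : ℕ) (Y O : ℕ → List ℕ) (i : ℕ) : ℕ :=
  Nat.add (Nat.add (lettE (Nat.add r (nat_lit 1)) (Y i)) (eqE Q B m [Nat.add o i] (Y i))) (strE (fun j => Q (Nat.add o j)) N O i)

theorem Md.syl [Finite G] (M : Md pt N B q Q m) {p r o : ℕ} (hp : p.Prime) (h0 : q 0 = 1) (ho : o + r ≤ m) {Y O : ℕ → List ℕ}
    (h : ∀ i < r, chE Q B N m r o Y O i = 0) (hd : Nat.card (gen (fun i => q (i + 1)) r) ∣ p ^ r) :
    p ^ r ≤ Nat.card (gen (fun i => q (i + 1)) r) := by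
  have h1 : gen (fun i => q (o + i)) r ≤ gen (fun i => q (i + 1)) r := gen_le fun i hi => by
    obtain ⟨a1, a2⟩ := add_eq_zero' (add_eq_zero' (h i hi)).1
    rw [show q (o + i) = ev q (Y i) by simpa using M.eq a2]
    refine ev_mem fun a ha => ?_
    rcases a with _ | a
    · rw [h0]; exact one_mem _
    · exact mem_gen (fun j => q (j + 1)) (Nat.lt_of_succ_lt_succ (lettE_zero a1 _ ha))
  exact (Nat.le_of_dvd Nat.card_pos (chain_le hp hd r h1 (strE_main (fun j hj => M.reps _ (by omega)) M.inj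
    fun i hi => (add_eq_zero' (h i hi)).2))).trans (card_le_of_le h1)

end

/-- the rule for the pair `j ≤ i` holds for the corrected lifts -/
noncomputable def tgE (I Ru : ℕ → ℕ) (K p q : ℕ) (C D : ℕ → ℕ) (J : ℕ) (La : ℕ → ℕ) (i j : ℕ) : ℕ :=
  force (Nat.add i (nat_lit 1)) fun a => force (Nat.add a (Nat.mul (nat_lit 64) (Nat.add j (nat_lit 1)))) fun x =>
  force (I x) fun k => force (Ru k) fun e =>
    Nat.add (Nat.rec (Nat.add (Nat.xor (ruL e) (pw (List.replicate p a))) (lettE a (ruV e)))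
      (fun _ _ => Nat.add (Nat.add (Nat.xor (ruL e) x) (Nat.xor (Nat.mod (ruR e) (nat_lit 64)) a))
        (lettE a (dl (ruB e) (Nat.div (ruR e) (nat_lit 64))))) (Nat.xor j i))
      (zE q K (Nat.add (Nat.add (Nat.add (Nat.shiftLeft (nat_lit 1) (Nat.mul (nat_lit 32) k)) (smL C (ruU e)))
        (Nat.mul (Nat.sub q (nat_lit 1)) (smL C (ruV e)))) (cmb D J (La (Nat.add (Nat.mul (nat_lit 32) i) j)))))

noncomputable def tgR (I Ru : ℕ → ℕ) (K p q : ℕ) (C D : ℕ → ℕ) (J : ℕ) (La : ℕ → ℕ) (i : ℕ) : ℕ :=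
  lin (tgE I Ru K p q C D J La i) (nat_lit 0) (Nat.add i (nat_lit 1))

/-- the extra vectors have bounded orders -/
noncomputable def exE (K q : ℕ) (D : ℕ → ℕ) (J : ℕ) (e L : ℕ → ℕ) (i : ℕ) : ℕ :=
  Nat.add (Nat.add (bdE (msk (nat_lit 255) K) (D (Nat.add J i))) (ltE (e i) (nat_lit 256)))
    (zE q K (Nat.add (Nat.mul (e i) (D (Nat.add J i))) (cmb D J (L i))))

section
variable {Γ G : Type*} [Group Γ] [Group G] {σ : Γ →* G}

theorem ev_cen {A : Type*} [CommGroup A] {ι : A →* Γ} (hc : ∀ a x, x * ι a = ι a * x) (l : ℕ → Γ) (c : ℕ → A) (w : List ℕ) :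
    ev (fun a => ι (c a) * l a) w = ι (w.map c).prod * ev l w := by
  induction w with
  | nil => simp
  | cons a w ih =>
    rw [ev_cons, ev_cons, ih, List.map_cons, List.prod_cons, mul_comm (c a), map_mul, mul_assoc, mul_assoc,
      ← mul_assoc (ev l w), hc, mul_assoc]

theorem ker_le [Finite Γ] (hσ : IsStemExtension σ) {l : ℕ → Γ} {p r : ℕ} {T : Subgroup Γ} (hT : T ≤ σ.ker)
    (hc : p ^ r ≤ Nat.card (gen (fun i => σ (l i)) r)) [T.Normal] (h : Pc (fun i => QuotientGroup.mk' T (l i)) p r)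
    (hp : 0 < p) {z : Γ} (hz : z ∈ σ.ker) : z ^ (gen (fun i => σ (l i)) r).index ∈ T := by
  have h1 := pow_index_mem (H := (gen (fun i => σ (l i)) r).comap σ) (z := z)
    (by rw [mem_comap, show σ z = 1 from hz]; exact one_mem _) (hσ.2.1 hz) (hσ.2.2 hz)
  rw [index_comap_of_surjective _ hσ.1] at h1
  have h2 : ⁅(gen (fun i => σ (l i)) r).comap σ, (gen (fun i => σ (l i)) r).comap σ⁆ ≤ gen l r := by
    rw [commutator_le]
    intro a ha b hb
    rw [mem_comap, ← gen_map] at ha hb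
    obtain ⟨a', h3, h4⟩ := ha
    obtain ⟨b', h5, h6⟩ := hb
    rw [← comm_congr hσ.2.1 h4 h6]
    exact mul_mem (mul_mem (mul_mem h3 h5) (inv_mem h3)) (inv_mem h5)
  let τ := QuotientGroup.lift T σ hT
  have h3 : (gen (fun i => QuotientGroup.mk' T (l i)) r).map τ = gen (fun i => σ (l i)) r := gen_map _ _ _
  have h4 := Nat.le_of_dvd (by simpa using Nat.pow_pos hp) (pc_card (e := fun _ => p) h.1 h.2)
  simp only [List.map_const', List.length_range, List.prod_replicate] at h4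
  have h5 : Function.Injective (τ.subgroupMap (gen (fun i => QuotientGroup.mk' T (l i)) r)) :=
    ((Nat.bijective_iff_surjective_and_card _).mpr ⟨τ.subgroupMap_surjective _, le_antisymm (by rw [h3]; exact h4.trans hc)
      (Nat.card_le_card_of_surjective _ (τ.subgroupMap_surjective _))⟩).1
  have h6 := (injective_iff_map_eq_one _).mp h5 ⟨QuotientGroup.mk' T _, (gen_map _ l r).le ⟨_, h2 h1, rfl⟩⟩
    (Subtype.ext (show σ _ = 1 from pow_mem hz _))
  exact (QuotientGroup.eq_one_iff _).mp (congrArg Subtype.val h6)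

theorem card_quo {A : Type*} [CommGroup A] [Finite A] {p k : ℕ} (hp : p.Prime) (h : p ^ k ∣ Nat.card A) :
    p ^ k ∣ Nat.card (A ⧸ (powMonoidHom (p ^ k) : A →* A).range) := by
  have := Fact.mk hp
  obtain ⟨S, hS⟩ := Sylow.exists_subgroup_card_pow_prime p h
  have h1 : S ≤ (powMonoidHom (p ^ k) : A →* A).ker := fun x hx => by
    have := pow_card_eq_one' (x := (⟨x, hx⟩ : S))
    rw [hS] at this
    exact congrArg Subtype.val this
  have h2 := (powMonoidHom (p ^ k) : A →* A).range.index_mul_card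
  rw [← Subgroup.index_ker, ← (powMonoidHom (p ^ k) : A →* A).ker.card_mul_index] at h2
  rw [← index_eq_card, Nat.eq_of_mul_eq_mul_right (Nat.pos_of_ne_zero index_ne_zero_of_finite) h2]
  exact hS.symm.dvd.trans (card_dvd_of_le h1)

theorem Rv.core [Finite Γ] (hσ : IsStemExtension σ) {q : ℕ → G} {I Ru : ℕ → ℕ} {K : ℕ} (R : Rv q I Ru K) {p r k n : ℕ}
    (hp : p.Prime) (hc : Nat.card (gen (fun i => q (i + 1)) r) ∣ p ^ r → p ^ r ≤ Nat.card (gen (fun i => q (i + 1)) r)) (hs : ¬ p ^ (r + 1) ∣ Nat.card G)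
    {D e L C La : ℕ → ℕ} {J s J' : ℕ} {U V W : ℕ → List ℕ}
    (hn : n = p ^ k ∧ n ≤ 256 ∧ J' = J + s ∧ J' ≤ 10000 ∧ r < 32 ∧ C 0 = 0 ∧ ¬ n ∣ ((List.range s).map e).prod)
    (h1 : ∀ j < J, rlE I Ru K n (U j) (V j) (W j) (D j) = 0) (h2 : ∀ i < s, exE K n D J e L i = 0)
    (h3 : ∀ a < 64, bdE (msk (nat_lit 255) K) (C a) = 0) (h4 : ∀ i < r, tgR I Ru K p n C D J' La i = 0) :
    ¬ p ^ k ∣ Nat.card σ.ker := by
  obtain ⟨rfl, n1, rfl, n2, n3, n4, n5⟩ := hn
  intro hd
  letI : CommGroup σ.ker := { (inferInstance : Group σ.ker) with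
    mul_comm := fun a b => Subtype.ext (cent_comm hσ.2.1 b.2 a) }
  have cen : ∀ (a : σ.ker) x, x * σ.ker.subtype a = σ.ker.subtype a * x := fun a x => cent_comm hσ.2.1 a.2 x
  choose sec hsec using hσ.1
  let l : ℕ → Γ := fun a => if a = 0 then 1 else sec (q a)
  have hl : ∀ a, σ (l a) = q a := fun a => by
    simp only [l]; split_ifs with e
    · rw [e, R.q0, map_one]
    · exact hsec _
  have hl' : ∀ w, σ (ev l w) = ev q w := fun w => by rw [ev_map]; simp only [hl]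
  let t : ℕ → σ.ker := fun k => if h : k < K then ⟨ev l (ruU (Ru k)) * (ev l (ruV (Ru k)))⁻¹, by
    rw [MonoidHom.mem_ker, map_mul, map_inv, hl', hl', R.rule k h, mul_inv_cancel]⟩ else 1
  have H : Tl σ.ker.subtype t l I Ru K := ⟨cen, rfl, by
    simp only [t, dif_pos R.K0, R.r0]
    exact Subtype.ext (show ev l [0, 0, 0, 0, 0, 0, 0, 0] * (ev l [])⁻¹ = 1 by simp [l]), R.K0, R.idx, R.len, fun k hk => by
      simp [t, dif_pos hk]⟩
  let f := QuotientGroup.mk' (powMonoidHom (p ^ k) : σ.ker →* σ.ker).range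
  have hq : ∀ a : σ.ker ⧸ (powMonoidHom (p ^ k) : σ.ker →* σ.ker).range, a ^ p ^ k = 1 := fun a => by
    obtain ⟨a, rfl⟩ := QuotientGroup.mk_surjective a
    exact (QuotientGroup.eq_one_iff (a ^ p ^ k)).mpr ⟨a, rfl⟩
  have n0 : 0 < p ^ k := Nat.pow_pos hp.pos
  have t0 : f (t 0) = 1 := by rw [H.t0, map_one]
  have a1 : ∀ j < J, Pk (fun i => f (t i)) K (D j) 1 255 := fun j hj =>
    H.rl Subtype.val_injective f hq ⟨n0, n1⟩ (h1 j hj)
  have a2 : ∀ i, ∃ z, i < s → Pk (fun i => f (t i)) K (D (J + i)) z 255 ∧ z ^ e i = 1 := fun i => by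
    by_cases hi : i < s
    · obtain ⟨b1, b2⟩ := add_eq_zero' (h2 i hi)
      obtain ⟨b1, b3⟩ := add_eq_zero' b1
      obtain ⟨z, b4⟩ := Pk.of (t := fun i => f (t i)) (by norm_num) b1
      obtain ⟨y, b5, b6⟩ := Pk.cmb (T := ⊥) (L i) J fun j hj => ⟨1, one_mem _, a1 j hj⟩
      have := ((b4.mul (e i)).add b6).z (lt_of_le_of_lt (Nat.add_le_add
        (Nat.mul_le_mul_right _ (show e i ≤ 256 from (ltE_zero b3).le)) (Nat.mul_le_mul_right _ (show J ≤ 10000 by omega)))
        (by norm_num)) t0 hq n1 b2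
      exact ⟨z, fun _ => ⟨b4, by rwa [mem_bot.mp b5, mul_one] at this⟩⟩
    · exact ⟨1, fun h => absurd h hi⟩
  choose z hz using a2
  have a3 : ∀ a, ∃ c, a < 64 → Pk t K (C a) c 255 ∧ (a = 0 → c = 1) := fun a => by
    by_cases ha : a < 64
    · rcases a with _ | a
      · exact ⟨1, fun _ => ⟨by rw [n4]; exact Pk.zero.mono (by norm_num), fun _ => rfl⟩⟩
      · obtain ⟨c, hc⟩ := Pk.of (t := t) (by norm_num) (h3 _ ha)
        exact ⟨c, fun _ => ⟨hc, fun h => by cases h⟩⟩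
    · exact ⟨1, fun h => absurd h ha⟩
  choose c hc' using a3
  let T := ((gen z s).comap f).map σ.ker.subtype
  have hT : T ≤ σ.ker := map_subtype_le _
  haveI : T.Normal := ⟨fun x hx y => by rw [cent_comm hσ.2.1 (hT hx) y, mul_inv_cancel_right]; exact hx⟩
  let l' : ℕ → Γ := fun a => σ.ker.subtype (c a) * l a
  let l2 : ℕ → Γ ⧸ T := fun a => QuotientGroup.mk' T (l' a)
  have l0 : l2 0 = 1 := by simp [l2, l', (hc' 0 (by norm_num)).2 rfl, l]
  have a4 : ∀ k' < K, ∀ y, zE (p ^ k) K (Nat.shiftLeft 1 (Nat.mul 32 k') + smL C (ruU (Ru k')) + (p ^ k - 1) * smL C (ruV (Ru k')) +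
      cmb D (J + s) y) = 0 → evR l2 (ruL (Ru k')) = evN l2 (ruR (Ru k')) := fun k' hk y h => by
    obtain ⟨w, b1, b2⟩ := Pk.cmb (T := gen z s) (t := fun i => f (t i)) (K := K) (D := D) y (J + s) fun j hj => by
      by_cases e : j < J
      · exact ⟨1, one_mem _, a1 j e⟩
      · obtain ⟨i, rfl⟩ := Nat.exists_eq_add_of_le (Nat.le_of_not_lt e)
        exact ⟨_, mem_gen z (by omega), (hz i (by omega)).1⟩
    have b3 := Pk.smL (fun a ha => (hc' a ha).1) (ruU (Ru k')) (dr_lt _ _ _ fun _ h => by cases h)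
    have b4 := Pk.smL (fun a ha => (hc' a ha).1) (ruV (Ru k')) (dl_lt _ _)
    have b5 := (((((Pk.one hk).add b3).map f).add ((b4.map f).mul (p ^ k - 1))).add b2).z (by
      rw [ruU, ruV, dr_len, dl_len]
      have := Nat.mul_le_mul (show p ^ k - 1 ≤ 256 by omega) (Nat.mul_le_mul_right 255 (show ruB (Ru k') ≤ 64 from
        (Nat.mod_lt _ (by norm_num)).le))
      simp only [List.length_nil]
      omega) t0 hq n1 h
    rw [← ev_dl l0 _ _ (R.len k' hk), ← one_mul (evR _ _), ← ev_nil l2, ← ev_dr l0 8 (ruL _) (Nat.mod_lt _ (by norm_num)),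
      ← ev_map, ← ev_map, QuotientGroup.mk'_apply, QuotientGroup.mk'_apply, eq_comm, QuotientGroup.eq, ev_cen cen, ev_cen cen]
    refine ⟨t k' * ((ruU (Ru k')).map c).prod * ((ruV (Ru k')).map c).prod⁻¹, ?_, ?_⟩
    · rw [SetLike.mem_coe, mem_comap, map_mul, map_inv, ← inv_mem_iff (H := gen z s)]
      convert b1 using 1
      have := (pow_sub_one_mul n0.ne' _).trans (hq (f ((ruV (Ru k')).map c).prod))
      rw [eq_inv_of_mul_eq_one_left this] at b5
      exact inv_eq_of_mul_eq_one_right b5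
    · have := H.rule k' hk
      rw [ruU, ruV] at this
      rw [ruU, ruV, this, eq_inv_mul_iff_mul_eq, cen, ← mul_assoc, ← mul_assoc, ← map_mul, ← map_mul, inv_mul_cancel_right,
        mul_comm (t k')]
  have a5 : ∀ i < r, ∀ j ≤ i, if j = i then l2 (i + 1) ^ p ∈ gen (fun i => l2 (i + 1)) i else
      l2 (i + 1) * l2 (j + 1) * (l2 (i + 1))⁻¹ ∈ gen (fun i => l2 (i + 1)) i := fun i hi j hj => by
    obtain ⟨b1, b2⟩ := add_eq_zero' (lin_zero (h4 i hi) j (Nat.lt_succ_of_le hj))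
    have b3 : I (i + 1 + 64 * (j + 1)) < K := R.idx _ (by omega)
    have b4 := a4 _ b3 _ b2
    rw [rec_xor] at b1
    split_ifs with e
    · rw [if_pos e] at b1
      obtain ⟨b1, b5⟩ := add_eq_zero' b1
      have b7 : ruL (Ru (I (i + 1 + 64 * (j + 1)))) = pw (List.replicate p (i + 1)) := xor_eq_zero' b1
      rw [← evR_rep l0 (by omega), ← b7, b4]
      exact evN_mem l0 (R.len _ b3) b5
    · rw [if_neg e] at b1
      obtain ⟨b1, b5⟩ := add_eq_zero' b1
      obtain ⟨b1, b6⟩ := add_eq_zero' b1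
      have b7 : ruL (Ru (I (i + 1 + 64 * (j + 1)))) = i + 1 + 64 * (j + 1) := xor_eq_zero' b1
      have b8 : ruR (Ru (I (i + 1 + 64 * (j + 1)))) % 64 = i + 1 := xor_eq_zero' b6
      rw [b7, evR_eq l0, evR_eq l0 (_ / _), evN_eq l0, b8, show (i + 1 + 64 * (j + 1)) % 64 = i + 1 by omega,
        show (i + 1 + 64 * (j + 1)) / 64 % 64 = j + 1 by omega, show (i + 1 + 64 * (j + 1)) / 64 / 64 = 0 by omega,
        show evR l2 0 = 1 by simp [evR], mul_one] at b4
      rw [b4, mul_inv_cancel_right]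
      exact evN_mem l0 ((Nat.div_le_self _ _).trans_lt (R.len _ b3)) b5
  have a5' : Pc (fun i => l2 (i + 1)) p r :=
    ⟨fun i hi => by simpa using a5 i hi i le_rfl, fun i hi j hj => by simpa [hj.ne] using a5 i hi j hj.le⟩
  have a6 : (fun i => σ (l' (i + 1))) = fun i => q (i + 1) := funext fun i => by
    simp only [l', map_mul, hl]; rw [show σ (σ.ker.subtype (c (i + 1))) = 1 from (c _).2, one_mul]
  have a8 : ∀ i, QuotientGroup.lift T σ hT (l2 (i + 1)) = q (i + 1) := congrFun a6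
  have : Finite G := Finite.of_surjective σ fun x => ⟨_, hsec x⟩
  have b4 := pc_card (e := fun _ => p) (g := fun i => q (i + 1)) (r := r) (fun i hi => by
    have := mem_map_of_mem (QuotientGroup.lift T σ hT) (a5'.1 i hi)
    rwa [gen_map, map_pow, a8, funext a8] at this) fun i hi j hj => by
    have := mem_map_of_mem (QuotientGroup.lift T σ hT) (a5'.2 i hi j hj)
    rwa [gen_map, map_mul, map_mul, map_inv, a8, a8, funext a8] at this
  simp only [List.map_const', List.length_range, List.prod_replicate] at b4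
  replace hc := hc b4
  have a7 : gen z s = ⊤ := by
    rw [eq_top_iff]
    intro x _
    obtain ⟨x, rfl⟩ := QuotientGroup.mk'_surjective _ x
    obtain ⟨y, b1, b2⟩ := ker_le hσ (l := fun i => l' (i + 1)) hT (by rw [a6]; exact hc) a5' hp.pos x.2
    rw [a6] at b2
    have b3 : (gen (fun i => q (i + 1)) r).index.Coprime (p ^ k) := Nat.Coprime.pow_right _ (Nat.Coprime.symm
      (hp.coprime_iff_not_dvd.mpr fun h => hs (by
        rw [← (gen (fun i => q (i + 1)) r).index_mul_card, le_antisymm (Nat.le_of_dvd (Nat.pow_pos hp.pos) b4) hc, pow_succ']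
        exact Nat.mul_dvd_mul_right h _)))
    obtain ⟨m, hm⟩ := exists_pow_eq_self_of_coprime (b3.coprime_dvd_right (orderOf_dvd_of_pow_eq_one (hq (f x))))
    rw [← hm, ← map_pow, show x ^ _ = y from Subtype.ext b2.symm]
    exact pow_mem b1 m
  have a8 := pc_card (g := z) (e := e) (r := s) (fun i hi => (hz i hi).2 ▸ one_mem _) fun i _ j hj => by
    rw [mul_inv_cancel_comm]; exact mem_gen z hj
  rw [a7, card_top] at a8
  exact n5 ((card_quo hp hd).trans a8)

theorem nop_cyc [Finite Γ] (hσ : IsStemExtension σ) {p : ℕ} (hp : p.Prime) (h : ¬ p ^ 2 ∣ Nat.card G) :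
    ¬ p ∣ Nat.card σ.ker := by
  intro hd
  have := Fact.mk hp
  have : Finite G := Finite.of_surjective σ hσ.1
  obtain ⟨z, hz⟩ := exists_prime_orderOf_dvd_card' p hd
  let P : Sylow p G := default
  obtain ⟨a, ha⟩ := IsPGroup.iff_card.mp P.isPGroup'
  have h1 : IsCyclic (P : Subgroup G) := by
    rcases a with _ | _ | a
    · have := (Nat.card_eq_one_iff_unique.mp ha).1; infer_instance
    · exact isCyclic_of_prime_card (p := p) (by simpa using ha)
    · exact absurd ((pow_dvd_pow p (by omega)).trans (ha ▸ card_subgroup_dvd_card _)) h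
  have h2 := pow_index_mem (H := (P : Subgroup G).comap σ) (z := z)
    (by rw [mem_comap, show σ z = 1 from z.2]; exact one_mem _) (hσ.2.1 z.2) (hσ.2.2 z.2)
  rw [index_comap_of_surjective _ hσ.1, (commutator_eq_bot_iff_le_centralizer).mpr fun a ha b hb => congrArg Subtype.val
    (commutative_of_cyclic_center_quotient (resCE σ P) (res_CE (stem_CE hσ) P).cent ⟨b, hb⟩ ⟨a, ha⟩), mem_bot] at h2
  exact P.not_dvd_index (hz.symm.dvd.trans (orderOf_dvd_of_pow_eq_one (Subtype.ext h2)))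

/-- no stem extension has a kernel of order divisible by `n` -/
def NoK (G : Type u) [Group G] (n : ℕ) : Prop :=
  ∀ (Γ : Type u) [Group Γ] [Finite Γ] (σ : Γ →* G), IsStemExtension σ → ¬ n ∣ Nat.card σ.ker

end

theorem schur_of {G : Type u} [Group G] [Finite G] {A : Type*} [CommGroup A] [Finite A] {N n : ℕ} (hN : Nat.card G = N)
    (hA : Nat.card A = n) (h1 : ∃ (Γ : Type u) (_ : Group Γ) (_ : Finite Γ) (σ : Γ →* G), IsStemExtension σ ∧ Nonempty (σ.ker ≃* A))
    (l : List ℕ) (h2 : N ∣ l.prod ^ 64 ∧ 0 < n)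
    (h3 : ∀ p ∈ l, p.Prime ∧ (¬ p ^ 2 ∣ N ∨ ∃ k, p ^ k ∣ n ∧ NoK G (p ^ (k + 1)))) : HasSchurMultiplier G A := by
  obtain ⟨Γ, i1, i2, σ, β, hc⟩ := exists_cover G
  obtain ⟨Γ', j1, j2, σ', h4, ⟨e'⟩⟩ := h1
  obtain ⟨e⟩ := hc.equiv
  obtain ⟨f, hf⟩ := stem_surj h4
  have h5 : Nat.card σ.ker ∣ n := (Nat.dvd_iff_prime_pow_dvd_dvd _ _).mpr fun p k hp hk => by
    rcases k with _ | k
    · simp
    have h6 := (dvd_pow_self p (Nat.succ_ne_zero k)).trans hk
    by_cases h7 : p ^ 2 ∣ Nat.card G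
    · rw [hN] at h7
      obtain ⟨a, ha, h8⟩ := (Prime.dvd_prod_iff hp.prime).mp
        (hp.dvd_of_dvd_pow (((dvd_pow_self p two_ne_zero).trans h7).trans h2.1))
      obtain ⟨h9, h10⟩ := h3 a ha
      obtain rfl := (Nat.prime_dvd_prime_iff_eq hp h9).mp h8
      obtain ⟨j, h11, h12⟩ := h10.resolve_left (not_not.mpr h7)
      exact (pow_dvd_pow p (Nat.le_of_not_lt fun h => h12 Γ σ hc.stem ((pow_dvd_pow p h).trans hk))).trans h11
    · exact absurd h6 (nop_cyc hc.stem hp h7)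
  have h6 := e'.surjective.comp hf
  exact hasSchur_iff.mpr ⟨MulEquiv.ofBijective (e'.toMonoidHom.comp f) ((Nat.bijective_iff_surjective_and_card _).mpr ⟨h6,
    le_antisymm (by rw [Nat.card_congr e.toEquiv, hA]; exact Nat.le_of_dvd h2.2 h5) (Nat.card_le_card_of_surjective _ h6)⟩)⟩

theorem stem_one (G : Type u) [Group G] [Finite G] : ∃ (Γ : Type u) (_ : Group Γ) (_ : Finite Γ) (σ : Γ →* G),
    IsStemExtension σ ∧ Nonempty (σ.ker ≃* Multiplicative (ZMod 1)) := by
  haveI : Unique (Multiplicative (ZMod 1)) := inferInstanceAs (Unique (ZMod 1))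
  have e : (MonoidHom.id G).ker = ⊥ := MonoidHom.ker_id
  exact ⟨G, inferInstance, inferInstance, MonoidHom.id G, ⟨Function.surjective_id, e ▸ bot_le, e ▸ bot_le⟩,
    ⟨(MulEquiv.subgroupCongr e).trans MulEquiv.ofUnique⟩⟩

end Cfsg.Agent.Ct
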