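import Cfsg.Agent.Lib.Cert.Sch2

/-! Transport of Schur multipliers. -/

set_option autoImplicit false

namespace Cfsg.Agent.Ct

open Subgroup

universe u

theorem stem_congr {Γ G H : Type*} [Group Γ] [Group G] [Group H] (e : G ≃* H) {σ : Γ →* G} (h : IsStemExtension σ) :
    IsStemExtension (e.toMonoidHom.comp σ) ∧ (e.toMonoidHom.comp σ).ker = σ.ker :=
  have t : (e.toMonoidHom.comp σ).ker = σ.ker := MonoidHom.ker_comp_of_injective _ _ e.injective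
  ⟨⟨e.surjective.comp h.1, t ▸ h.2.1, t ▸ h.2.2⟩, t⟩

theorem schur_congr {G H : Type u} [Group G] [Group H] {A : Type*} [CommGroup A] (e : G ≃* H) (h : HasSchurMultiplier G A) :
    HasSchurMultiplier H A := by
  obtain ⟨⟨Γ, i1, i2, σ, h1, h2⟩, h3⟩ := h
  exact ⟨⟨Γ, i1, i2, _, (stem_congr e h1).1, (stem_congr e h1).2 ▸ h2⟩, fun Γ _ _ σ h =>
    (stem_congr e.symm h).2 ▸ h3 Γ _ (stem_congr e.symm h).1⟩

theorem schur_one {G : Type u} [Group G] {N : ℕ} (hN : Nat.card G = N) (l : List ℕ) (h2 : N ∣ l.prod ^ 64 ∧ N ≠ 0)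
    (h3 : ∀ p ∈ l, p.Prime ∧ (¬ p ^ 2 ∣ N ∨ NoK G (p ^ (0 + 1)))) : HasCyclicSchurMultiplier G 1 :=
  have := Nat.finite_of_card_ne_zero (hN ▸ h2.2)
  schur_of hN (by simp) (stem_one G) l ⟨h2.1, Nat.one_pos⟩ fun p hp => ⟨(h3 p hp).1, (h3 p hp).2.imp id fun h => ⟨0, by simp, h⟩⟩

end Cfsg.Agent.Ct
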