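import Cfsg.Agent.Lib.Cert.Out

/-! Bounds for the automorphism group by running through a whole conjugacy class. -/

set_option autoImplicit false
set_option linter.unusedSectionVars false

namespace Cfsg.Agent.Ct

open Cfsg.Agent.PC Cfsg.Agent.Fi MulAction Subgroup

variable {G X : Type*} [Group G] [MulAction G X] {pt : ℕ → X} {N m : ℕ} {B : List ℕ} {g q : ℕ → G} {T Q : ℕ → ℕ → ℕ}
  [Finite G] {σ σ' V : ℕ → ℕ} {z n : ℕ}

/-- the class of `q z` is listed by the table `V` -/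
def Cl (q : ℕ → G) (σ : ℕ → ℕ) (z : ℕ) (V : ℕ → ℕ) (n : ℕ) : Prop :=
  ∀ k : G, ∃ c < n, k * q z * k⁻¹ = cjw (fun d => q (σ d)) (q z) (V c &&& 31) (V c >>> 5)

/-- the class of `x` is invariant under all automorphisms -/
def Au (x : G) : Prop := ∀ α : MulAut G, ∃ k : G, k * x * k⁻¹ = α x

theorem Md.sg (M : Md pt N B q Q m) {K : List ℕ} (h1 : clS Q B σ σ' N m z K = 0) (l v : ℕ) {x : G} {f : ℕ → ℕ}
    (h : Rep pt N x f) : Rep pt N (cjw (fun d => q (σ d)) x l v) (cjT (fun d => Q (σ d)) (fun d => Q (σ' d)) f l v) := by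
  refine rep_cjw (fun d hd => ?_) h _ _
  have s1 := lin_zero (add_eq_zero' h1).1 d hd
  have s2 := lettE_zero (add_eq_zero' (add_eq_zero' s1).1).1
  have s3 : q (σ' d) * q (σ d) = 1 := by simpa using M.eq s1
  exact ⟨M.reps _ (s2 _ (by simp)), eq_inv_of_mul_eq_one_left s3 ▸ M.reps _ (s2 _ (by simp))⟩

theorem Md.cl (M : Md pt N B q Q m) {K : List ℕ} (h1 : clS Q B σ σ' N m z K = 0)
    (h2 : ∀ c < n, clE Q σ σ' N z K V c = 0) {k : ℕ} (h3 : k ∣ Nat.card (centralizer {q z})) (h4 : Nat.card G < (n + 2) * k) :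
    Cl q σ z V (n + 1) := by
  obtain ⟨t2, t3⟩ := add_eq_zero' (add_eq_zero' h1).2
  let y : ℕ → G := fun c => cjw (fun d => q (σ d)) (q z) (V c &&& 31) (V c >>> 5)
  have t4 := fun l v => M.sg h1 l v (M.reps z (ltE_zero t2))
  have t5 : Inj y (n + 1) := Inj.of_key (clK Q σ σ' N z K V) (fun i _ j _ e => keyE_eq M.inj
    (fun b hb => ltE_zero (allE_zero t3 b hb)) (t4 _ _) (show Rep pt N (y i) _ from e ▸ t4 _ _))
    fun i hi => ltE_zero (h2 i (by omega))
  have e2 : stabilizer G (show Cj G from q z) = centralizer {q z} := Subgroup.ext fun g =>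
    (conj_eq_iff (G := G)).trans mem_centralizer_singleton_iff.symm
  let O : Set G := (orbit G (show Cj G from q z) : Set (Cj G))
  have h5 : O.ncard * Nat.card (centralizer {q z}) = Nat.card G := by
    rw [← e2, ← (stabilizer G (show Cj G from q z)).index_mul_card, index_stabilizer]; rfl
  have h6 : y '' Set.Iio (n + 1) = O := Set.eq_of_subset_of_ncard_le (by
    rintro _ ⟨c, -, rfl⟩
    obtain ⟨k, -, e⟩ := cjw_conj (L := ⊤) (fun _ _ => trivial) (q z) (V c &&& 31) (V c >>> 5)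
    exact ⟨k, e⟩) (by
    rw [t5.ncard_Iio]
    exact Nat.le_of_lt_succ (Nat.lt_of_mul_lt_mul_right
      (h5 ▸ h4.trans_le (Nat.mul_le_mul_left _ (Nat.le_of_dvd Nat.card_pos h3))))) (Set.toFinite _)
  intro k
  obtain ⟨c, hc, e⟩ := h6.ge ⟨k, rfl⟩
  exact ⟨c, hc, e.symm⟩

theorem Cl.top (C : Cl q σ z V n) (A : Au (q z)) {k : ℕ} (hk : CardLE (Fx q [z]) k) : Nat.card (MulAut G) ≤ n * k := by
  classical
  have := (Fx.step (l := []) ((Finset.range n).image fun c => cjw (fun d => q (σ d)) (q z) (V c &&& 31) (V c >>> 5))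
    (fun α _ => by
      obtain ⟨a, ha⟩ := A α
      obtain ⟨c, hc, e⟩ := C a
      exact Finset.mem_image.mpr ⟨c, Finset.mem_range.mpr hc, e ▸ ha⟩) hk).2
  rw [show Fx q [] = ⊤ from eq_top_iff.mpr fun _ _ _ h => (nomatch h), card_top] at this
  exact this.trans (Nat.mul_le_mul_right _ (Finset.card_image_le.trans (Finset.card_range n).le))

theorem Fx.ev {l w : List ℕ} (hw : allE (fun j => memE j (m :: l)) w = 0) {α : MulAut G} (ha : α ∈ Fx q l) (x : G) :
    α (ev (xt q m x) w) = ev (xt q m (α x)) w := (ev_map α.toMonoidHom _ w).trans (ev_congr fun j hj => by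
  unfold xt
  rw [rec_xor, rec_xor]
  split_ifs with e
  exacts [rfl, ha j ((List.mem_cons.mp (memE_zero (allE_zero hw j hj))).resolve_left e)])

/-- `y` is conjugate to `z`; the words `W i` are trivial at `y` for `i < k0`, and not trivial for `64 ≤ i < 64 + k1` -/
noncomputable def lcS (Q : ℕ → ℕ → ℕ) (B : List ℕ) (m : ℕ) (l : List ℕ) (z y : ℕ) (aw : List ℕ) (W : ℕ → List ℕ)
    (k0 k1 : ℕ) : ℕ :=
  Nat.add (Nat.add (eqE Q B m (aw ++ [y]) (z :: aw)) (lettE m l))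
    (Nat.add (lin (fun i => Nat.add (allE (fun j => memE j (m :: l)) (W i)) (agF B (trF (xt Q m (Q y)) (W i)) fun x => x))
        (nat_lit 0) k0)
      (lin (fun i => Nat.add (allE (fun j => memE j (m :: l)) (W (Nat.add (nat_lit 64) i)))
        (tsE Q B m (Q y) (W (Nat.add (nat_lit 64) i)))) (nat_lit 0) k1))

noncomputable def lcE (Q : ℕ → ℕ → ℕ) (B : List ℕ) (N m : ℕ) (σ σ' : ℕ → ℕ) (z : ℕ) (V : ℕ → ℕ) (W : ℕ → List ℕ)
    (k0 k1 : ℕ) (Z : ℕ → ℕ) (c : ℕ) : ℕ :=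
  Nat.rec (nat_lit 0) (fun v _ => force (V c) fun u => force (Nat.land u (nat_lit 31)) fun l =>
    force (Nat.shiftRight u (nat_lit 5)) fun n => force (Nat.land v (nat_lit 63)) fun i =>
      Nat.rec (Nat.add (ltE i k1) (agF B (trF (xt Q m (cjT (fun d => Q (σ d)) (fun d => Q (σ' d)) (Q z) l n))
          (W (Nat.add (nat_lit 64) i))) fun x => x))
        (fun b _ => Nat.add (Nat.add (ltE i k0) (ltE b N))
          (eqI (trF (xt Q m (cjT (fun d => Q (σ d)) (fun d => Q (σ' d)) (Q z) l n)) (W i) b) b))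
        (Nat.shiftRight v (nat_lit 6))) (Z c)

theorem Md.lvc (M : Md pt N B q Q m) {K : List ℕ} (h1 : clS Q B σ σ' N m z K = 0) (C : Cl q σ z V n) (A : Au (q z))
    {l aw : List ℕ} {y k0 k1 : ℕ} {W : ℕ → List ℕ} {Z : ℕ → ℕ} (h2 : lcS Q B m l z y aw W k0 k1 = 0)
    (h3 : ∀ c < n, lcE Q B N m σ σ' z V W k0 k1 Z c = 0) {a k : ℕ} (h4 : cnt Z (nat_lit 0) n = a)
    (hk : CardLE (Fx q (y :: l)) k) : CardLE (Fx q l) (a * k) := by
  classical
  obtain ⟨t1, t3⟩ := add_eq_zero' h2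
  obtain ⟨t1, t2⟩ := add_eq_zero' t1
  obtain ⟨t3, t4⟩ := add_eq_zero' t3
  have ry := M.reps y (lettE_zero (add_eq_zero' (add_eq_zero' t1).1).1 y (by simp))
  have e1 := M.eq t1
  simp only [ev_append, ev_cons, ev_nil, one_mul] at e1
  refine (Fx.step (((Finset.range n).filter fun c => Z c = 0).image
    fun c => cjw (fun d => q (σ d)) (q z) (V c &&& 31) (V c >>> 5)) (fun α hα => ?_) hk).mono
    (Nat.mul_le_mul_right _ (Finset.card_image_le.trans (by rw [← cnt_eq]; exact h4.le)))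
  obtain ⟨b, hb⟩ := A α
  obtain ⟨c, hc, e⟩ := C (α (ev q aw) * b)
  replace e : _ = α (q y) := e.symm.trans (by rw [eq_mul_inv_of_mul_eq e1, map_mul, map_mul, ← hb, map_inv]; group)
  refine Finset.mem_image.mpr ⟨c, Finset.mem_filter.mpr ⟨Finset.mem_range.mpr hc, ?_⟩, e⟩
  have e8 := h3 c hc
  unfold lcE at e8
  rcases hz : Z c with _ | v
  · rfl
  exfalso
  rw [hz] at e8
  have r := M.sg h1 (V c &&& 31) (V c >>> 5) (M.reps z (ltE_zero (add_eq_zero' (add_eq_zero' h1).2).1))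
  rw [e] at r
  have w1 : ∀ {w : List ℕ}, allE (fun j => memE j (m :: l)) w = 0 → ∀ j ∈ w, j < m + 1 := fun h j hj =>
    (List.mem_cons.mp (memE_zero (allE_zero h j hj))).elim (fun e => by omega) fun e => (lettE_zero t2 j e).trans (by omega)
  change Nat.rec (motive := fun _ => ℕ) _ _ (v >>> 6) = 0 at e8
  rcases hv : v >>> 6 with _ | b <;> rw [hv] at e8
  · obtain ⟨a1, a2⟩ := add_eq_zero' e8
    obtain ⟨a3, a4⟩ := add_eq_zero' (lin_zero t4 _ (ltE_zero a1))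
    have := M.ts (lettE_zero t2) (fun j hj => memE_zero (allE_zero a3 j hj)) hα ry r
    cases (congrArg (eqI · (nat_lit 0)) a2).symm.trans (this.trans a4)
  · obtain ⟨a1, a2⟩ := add_eq_zero' e8
    obtain ⟨a1, a5⟩ := add_eq_zero' a1
    obtain ⟨a3, a4⟩ := add_eq_zero' (lin_zero t3 _ (ltE_zero a1))
    rw [trF_eq] at a2 a4
    have a6 := Fx.ev a3 hα (q y)
    rw [(M.eqF ((M.xt ry).reps.ev (w1 a3)) Rep.one).mp a4, map_one] at a6
    have a7 := (M.xt r).reps.ev (w1 a3) b (ltE_zero a5)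
    rw [← a6, one_smul] at a7
    rw [eqI_eq, if_pos (by simpa using M.inj _ a7.1 _ (ltE_zero a5) a7.2.symm)] at a2
    cases a2

theorem Md.outer3 (M : Md pt N B g T m) {π : ℕ → ℕ} {x : ℕ} {α : MulAut G}
    (h : ∀ c : G, MulAut.conj c = α → ∀ a : G, ∀ i < N, a • pt x = pt i → c • pt i = pt (π i)) {ws : List (List ℕ)} {y : ℕ}
    (h1 : allE (lettE m) ws = 0 ∧ ws.map (fun w => trF T w x) = y :: B ∧ x < N ∧ π y < N ∧ π y ≠ y) (hB : ∀ b ∈ B, π b = b)
    (c : G) : MulAut.conj c ≠ α := fun e => by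
  have k : ∀ i ∈ y :: B, i < N ∧ c • pt i = pt (π i) := fun i hi => by
    obtain ⟨w, hw, rfl⟩ := List.mem_map.mp (h1.2.1 ▸ hi)
    have := M.rw (allE_zero h1.1 w hw) x h1.2.2.1
    exact ⟨this.1, h c e _ _ this.1 this.2⟩
  have := k y List.mem_cons_self
  rw [M.base c fun b hb => by rw [(k b (List.mem_cons_of_mem _ hb)).2, hB b hb], one_smul] at this
  exact h1.2.2.2.2 (M.inj _ h1.2.2.2.1 _ this.1 this.2.symm)

/-- restriction to an invariant set of labels -/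
theorem Md.rl (M : Md pt N B g T m) (top : gen g m = ⊤) (e e' : ℕ → ℕ) (N' : ℕ) (B' : List ℕ)
    (h1 : ∀ c < N', e c < N ∧ e' (e c) = c ∧ ∀ j < m, e' (T j (e c)) < N' ∧ e (e' (T j (e c))) = T j (e c))
    (h2 : ∀ b ∈ B, (e' b ∈ B' ∧ e (e' b) = b) ∨ ∀ j < m, T j b = b) (h3 : ∀ b ∈ B', b < N') :
    Md (fun c => pt (e c)) N' B' g (fun j c => e' (T j (e c))) m := by
  refine ⟨fun i hi j hj h => ?_, h3, fun a ha => M.base a fun b hb => (h2 b hb).elim (fun h => h.2 ▸ ha _ h.1) fun h => ?_,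
    fun j hj c hc => ⟨((h1 c hc).2.2 j hj).1, ?_⟩⟩
  · rw [← (h1 i hi).2.1, M.inj _ (h1 i hi).1 _ (h1 j hj).1 h, (h1 j hj).2.1]
  · exact gen_le (H := stabilizer G (pt b)) (fun j hj => (M.reps j hj).smul_eq (M.lt b hb) (h j hj)) (top ▸ mem_top a)
  · rw [((h1 c hc).2.2 j hj).2]; exact (M.reps j hj _ (h1 c hc).1).2

end Cfsg.Agent.Ct
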