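import Cfsg.Agent.Lib.Cert.Md
import Cfsg.Agent.Lib.Spor.M12

/-! Models of the Mathieu groups on the 24 points. -/

set_option autoImplicit false

namespace Cfsg.Agent.Ct

open Cfsg.Agent.PC Cfsg.Agent.Spor MulAction
open scoped Pointwise

theorem ctr_bot {G : Type*} [Group G] [IsSimpleGroup G] {n : ℕ} (e : Nat.card G = n) (h : ¬ n.Prime) (h0 : n ≠ 0) :
    Subgroup.center G = ⊥ := (Subgroup.Normal.eq_bot_or_eq_top inferInstance).resolve_right fun t => h (by
  have := Nat.finite_of_card_ne_zero (e ▸ h0)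
  letI := Group.commGroupOfCenterEqTop t
  exact e ▸ IsSimpleGroup.prime_card)

def B24 : List ℕ := [nat_lit 17, nat_lit 1, nat_lit 16, nat_lit 14, nat_lit 12, nat_lit 0, nat_lit 23]

theorem mdF {C : ℕ → ℕ} {m : ℕ} (h : FamOK C m) : Md gp 24 B24 (fam C) (TP C) m :=
  ⟨gp_inj, by decide, fun a ha => eq_one_of_prop prop24 8605699 (Nat.eq_of_beq_eq_true (by decide +kernel)) fun p hp => by
    obtain ⟨i, hi, rfl⟩ := exists_gp p
    exact ha i ((by decide : ∀ i < 24, Nat.testBit 8605699 i = true → i ∈ B24) i hi ((gp_mem_bset hi).mp hp)), h.repsP⟩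

abbrev G23 : Subgroup M24 := stabilizer M24 (gp 23)
abbrev G22 : Subgroup M24 := stabilizer M24 (gp 23) ⊓ stabilizer M24 (gp 0)
abbrev G12 : Subgroup M24 := stabilizer M24 (bset 340831)
abbrev G11 : Subgroup M24 := stabilizer M24 (bset 340831) ⊓ stabilizer M24 (gp 0)

theorem md24 : Md gp 24 B24 (fam c24) (TP c24) 8 := mdF c24_ok
theorem md23 : Md gp 24 B24 (sub G23 (fam c24)) (TP c24) 7 := md24.sub (by decide) gen23.le
theorem md22 : Md gp 24 B24 (sub G22 (fam c24)) (TP c24) 6 := md24.sub (by decide) gen22.le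
theorem md12 : Md gp 24 B24 (sub G12 (fam c12)) (TP c12) 6 := (mdF c12_ok).sub (by decide) gen12.le
theorem md11 : Md gp 24 B24 (sub G11 (fam c12)) (TP c12) 5 := (mdF c12_ok).sub (by decide) gen11.le
theorem card12 : Nat.card G12 = 95040 := card_stab_dod d0_mem
theorem ctr24 : Subgroup.center M24 = ⊥ := have := simple24; ctr_bot card_M24 (by norm_num) (by decide)
theorem ctr23 : Subgroup.center G23 = ⊥ := have := simple23; ctr_bot card23 (by norm_num) (by decide)
theorem ctr22 : Subgroup.center G22 = ⊥ := have := simple22; ctr_bot card22 (by norm_num) (by decide)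
theorem ctr12 : Subgroup.center G12 = ⊥ := have := simple12; ctr_bot card12 (by norm_num) (by decide)
theorem ctr11 : Subgroup.center G11 = ⊥ := have := simple11; ctr_bot card11 (by norm_num) (by decide)

end Cfsg.Agent.Ct
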