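import Cfsg.Agent.Lib.Cert.Mod

/-! More on models. -/

set_option autoImplicit false
set_option linter.unusedSectionVars false

namespace Cfsg.Agent.Ct

open Cfsg.Agent.PC Cfsg.Agent.Fi MulAction Subgroup

variable {G X : Type*} [Group G] [MulAction G X] {pt : ℕ → X} {N m : ℕ} {B : List ℕ} {g q : ℕ → G} {T Q : ℕ → ℕ → ℕ}

theorem top_words (top : gen g m = ⊤) {W : ℕ → List ℕ} {b : ℕ} (h : ∀ j < m, ∃ i < b, W i = [j]) :
    gen (fun j => ev g (W j)) b = ⊤ := eq_top_iff.mpr (top ▸ gen_le fun j hj => by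
  obtain ⟨i, hi, e⟩ := h j hj
  simpa [e] using mem_gen (fun j => ev g (W j)) hi)

end Cfsg.Agent.Ct
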