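import Cfsg.Agent.Lib.Cert.Sch5
import Cfsg.Agent.Lib.Cert.Mat
import Cfsg.Agent.Lib.Cert.Mod2

/-! Identifying a permutation model with a group given otherwise. -/

set_option autoImplicit false

namespace Cfsg.Agent.Ct

open Cfsg.Agent.PC Cfsg.Agent.Fi Cfsg.Agent.Schur Subgroup commutatorElement

universe u v

theorem cardLE_sub {G : Type*} [Group G] {H : Subgroup G} {n : ℕ} (h : CardLE H n) : CardLE (⊤ : Subgroup H) n :=
  have := h.1; ⟨inferInstance, by rw [card_top]; exact h.2⟩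

theorem ev_sub {G : Type*} [Group G] {g : ℕ → G} {m : ℕ} {w : List ℕ} (h : ∀ j ∈ w, j < m) :
    ((ev (PC.sub (gen g m) g) w : gen g m) : G) = ev g w :=
  (ev_map (gen g m).subtype _ w).trans (ev_congr fun j hj => coe_sub (mem_gen g (h j hj)))

theorem rels_sub {G : Type*} [Group G] {g : ℕ → G} {m : ℕ} {rels : List (List ℕ)} (h : ∀ w ∈ rels, ∀ j ∈ w, j < m)
    (hr : ∀ w ∈ rels, ev g w = 1) : ∀ w ∈ rels, ev (PC.sub (gen g m) g) w = 1 :=
  fun w hw => Subtype.ext ((ev_sub (h w hw)).trans (hr w hw))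

theorem sm_surj {G : Type u} {H : Type v} [Group G] [Group H] (e : G ≃* H) : ∃ f : SM H →* SM G, Function.Surjective f := by
  have t : (e.toMonoidHom.comp (uπ G)).ker = (uπ G).ker := MonoidHom.ker_comp_of_injective _ _ e.injective
  have := exists_mul_surj (ξ := e.toMonoidHom.comp (uπ G)) ⟨e.surjective.comp (uπ_CE G).surj, t ▸ (uπ_CE G).cent⟩
  rwa [MM, t] at this

theorem schur_congr' {G : Type u} {H : Type v} [Group G] [Group H] [Finite G] {A : Type*} [CommGroup A] (e : G ≃* H)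
    (h : HasSchurMultiplier G A) : HasSchurMultiplier H A := by
  have := Finite.of_equiv _ e.toEquiv
  obtain ⟨f, hf⟩ := sm_surj e
  obtain ⟨g, hg⟩ := sm_surj e.symm
  exact hasSchur_iff.2 ⟨(MulEquiv.ofBijective f (equiv_of_surj hf hg)).trans (hasSchur_iff.1 h).some⟩

variable {P : Type} [Group P] [Finite P] {g : ℕ → P} {inv : ℕ → ℕ} {rels : List (List ℕ)} {m : ℕ}

theorem hom_ub (top : gen g m = ⊤) (ub : Ub inv rels m (Nat.card P)) (hi : InvOK g inv m) (hr : ∀ w ∈ rels, ev g w = 1)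
    (hl : ∀ w ∈ rels, ∀ j ∈ w, j < m) {G : Type u} [Group G] [Finite G] {h : ℕ → G} (hi' : ∀ j < m, ev h [j, inv j] = 1)
    (hr' : ∀ w ∈ rels, ev h w = 1) : ∃ φ : P →* G, ∀ j < m, φ (g j) = h j := by
  let e := Shrink.mulEquiv.{0} (α := G)
  let k : ℕ → P × Shrink.{0} G := fun j => (g j, e.symm (h j))
  let x := PC.sub (gen k m) k
  have ex : ∀ w : List ℕ, (∀ j ∈ w, j < m) → ev g w = 1 → ev h w = 1 → ev x w = 1 := fun w hw h1 h2 => Subtype.ext (by
    rw [ev_sub hw, ev_prod, h1, ← show _ = ev (fun j => e.symm (h j)) w from ev_map e.symm.toMonoidHom h w, h2, map_one]; rfl)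
  obtain ⟨f1, f2⟩ := ub _ x (fun j hj => ⟨(hi j hj).1, eq_inv_of_mul_eq_one_left (by
      simpa using ex [j, inv j] (by simp [hj, (hi j hj).1]) (by simp [(hi j hj).2]) (hi' j hj))⟩)
    fun w hw => ex w (hl w hw) (hr w hw) (hr' w hw)
  rw [gen_sub_top rfl] at f1 f2
  rw [card_top] at f2
  have : Finite (gen k m) := .of_equiv _ topEquiv.toEquiv
  let ξ : gen k m →* P := (MonoidHom.fst _ _).comp (gen k m).subtype
  have hx : ∀ j < m, (x j : P × Shrink.{0} G) = k j := fun j hj => coe_sub (mem_gen k hj)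
  have hs : Function.Surjective ξ := MonoidHom.range_eq_top.mp (eq_top_iff.mpr (top ▸ gen_le fun j hj =>
    ⟨x j, congrArg Prod.fst (hx j hj)⟩))
  let ε := MulEquiv.ofBijective ξ ((Nat.bijective_iff_surjective_and_card _).mpr
    ⟨hs, le_antisymm f2 (Nat.card_le_card_of_surjective _ hs)⟩)
  refine ⟨e.toMonoidHom.comp (((MonoidHom.snd _ _).comp (gen k m).subtype).comp ε.symm.toMonoidHom), fun j hj => ?_⟩
  have : ε.symm (g j) = x j := ε.symm_apply_eq.mpr (congrArg Prod.fst (hx j hj)).symm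
  show e (ε.symm (g j) : P × Shrink.{0} G).2 = _
  rw [this, hx j hj]
  exact e.apply_symm_apply _

theorem inj_simple [IsSimpleGroup P] {G : Type*} [Group G] {φ : P →* G} {x : P} (h : φ x ≠ 1) : Function.Injective φ :=
  φ.ker_eq_bot_iff.mp (φ.normal_ker.eq_bot_or_eq_top.resolve_right fun t => h (t.ge (mem_top x)))

theorem comm_top [IsSimpleGroup P] (c : center P = ⊥) : commutator P = ⊤ :=
  (commutator_normal ⊤ ⊤).eq_bot_or_eq_top.resolve_left fun t =>
    bot_ne_top (c.symm.trans ((commutator_eq_bot_iff_center_eq_top P).mp t))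

theorem range_le [IsSimpleGroup P] (c : center P = ⊥) {G : Type*} [Group G] (φ : P →* G) : φ.range ≤ commutator G := by
  rw [MonoidHom.range_eq_map, ← comm_top c, map_commutator_eq]
  exact commutator_mono le_top le_top

theorem emb_proj [IsSimpleGroup P] (c : center P = ⊥) (top : gen g m = ⊤) (ub : Ub inv rels m (Nat.card P))
    (hi : InvOK g inv m) (hr : ∀ w ∈ rels, ev g w = 1) (hl : ∀ w ∈ rels, ∀ j ∈ w, j < m) {H D : Type*} [Group H] [Finite H]
    [Group D] {ι : D →* H} (hι : Function.Injective ι) (hc : commutator H ≤ ι.range) {h : ℕ → H}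
    (hi' : ∀ j < m, ev h [j, inv j] ∈ center H) (hr' : ∀ w ∈ rels, ev h w ∈ center H) {j : ℕ} (hj : j < m) (hn : h j ∉ center H) :
    ∃ φ : P →* D ⧸ center D, Function.Injective φ := by
  let π := QuotientGroup.mk' (center H)
  obtain ⟨φ, hφ⟩ := hom_ub top ub hi hr hl (h := fun j => π (h j))
    (fun j hj => (ev_map π h _).symm.trans ((QuotientGroup.eq_one_iff _).mpr (hi' j hj)))
    fun w hw => (ev_map π h _).symm.trans ((QuotientGroup.eq_one_iff _).mpr (hr' w hw))
  have i1 : Function.Injective φ := inj_simple (x := g j) fun t => hn ((QuotientGroup.eq_one_iff _).mp ((hφ j hj).symm.trans t))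
  have r : φ.range ≤ (π.comp ι).range := by
    refine (range_le c φ).trans ?_
    rw [MonoidHom.range_comp]
    refine le_trans ?_ (map_mono hc)
    rw [map_commutator_eq, MonoidHom.range_eq_top.2 (QuotientGroup.mk'_surjective _)]; rfl
  let θ := (π.comp ι).rangeRestrict.liftOfSurjective (π.comp ι).rangeRestrict_surjective ⟨QuotientGroup.mk' (center D), fun d hd => by
    rw [MonoidHom.ker_rangeRestrict] at hd
    refine (QuotientGroup.eq_one_iff _).mpr (mem_center_iff.mpr fun a => hι ?_)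
    rw [map_mul, map_mul]
    exact mem_center_iff.mp ((QuotientGroup.eq_one_iff _).mp hd) _⟩
  let ψ : P →* (π.comp ι).range := φ.codRestrict _ fun x => r ⟨x, rfl⟩
  refine ⟨θ.comp ψ, (θ.comp ψ).ker_eq_bot_iff.mp ((θ.comp ψ).normal_ker.eq_bot_or_eq_top.resolve_right fun t => ?_)⟩
  refine bot_ne_top (c.symm.trans (eq_top_iff.mpr fun x _ => mem_center_iff.mpr fun y => i1 ?_))
  obtain ⟨a, ha⟩ := r ⟨x, rfl⟩
  obtain ⟨b, hb⟩ := r ⟨y, rfl⟩
  have e : θ (ψ x) = 1 := t.ge (mem_top x)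
  rw [show ψ x = (π.comp ι).rangeRestrict a from Subtype.ext ha.symm, MonoidHom.liftOfRightInverse_comp_apply] at e
  rw [map_mul, map_mul, ← ha, ← hb, ← map_mul, ← map_mul, mem_center_iff.mp ((QuotientGroup.eq_one_iff _).mp e) b]

theorem iso_card {G : Type*} [Group G] (h : ∃ φ : P →* G, Function.Injective φ) {n : ℕ} (h1 : Nat.card P = n)
    (h2 : Nat.card G = n) : Nonempty (P ≃* G) :=
  let ⟨φ, hφ⟩ := h
  have := Nat.finite_of_card_ne_zero (h2 ▸ h1 ▸ Nat.card_pos.ne' : Nat.card G ≠ 0)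
  ⟨.ofBijective φ ((Nat.bijective_iff_injective_and_card _).mpr ⟨hφ, h1.trans h2.symm⟩)⟩

theorem iso_quot {D : Type*} [Group D] (h : ∃ φ : P →* D ⧸ center D, Function.Injective φ) {n : ℕ} (h1 : Nat.card P = n)
    (h2 : Nat.card D = n) : Nonempty (P ≃* D) := by
  have := Nat.finite_of_card_ne_zero (h2 ▸ h1 ▸ Nat.card_pos.ne' : Nat.card D ≠ 0)
  have s := QuotientGroup.mk'_surjective (center D)
  obtain ⟨φ, hφ⟩ := id h
  have e := le_antisymm (h1 ▸ Nat.card_le_card_of_injective _ hφ) (h2 ▸ Nat.card_le_card_of_surjective _ s)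
  exact ⟨(iso_card h h1 e.symm).some.trans
    (MulEquiv.ofBijective _ ((Nat.bijective_iff_surjective_and_card _).mpr ⟨s, h2.trans e⟩)).symm⟩

end Cfsg.Agent.Ct
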