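import Cfsg.Agent.Lib.Cert.Out2
import Cfsg.Agent.Lib.PermCert.Simple

/-! Models from stabilizer chains; primitivity and simplicity. -/

set_option autoImplicit false
set_option linter.unusedSectionVars false

namespace Cfsg.Agent.Ct

open Cfsg.Agent.PC Cfsg.Agent.Fi MulAction Subgroup

variable {G X : Type*} [Group G] [MulAction G X] {pt : ℕ → X} {N m : ℕ} {B : List ℕ} {g q : ℕ → G} {T Q : ℕ → ℕ → ℕ}

theorem tw.{u} {Γ : Type u} [Group Γ] {g : ℕ → Γ} {inv : ℕ → ℕ} {n : ℕ} {rels : List (List ℕ)} (h1 : InvOK g inv n)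
    (h2 : ∀ w ∈ rels, ev g w = 1) {rs : List (List ℕ)} {m mh N k : ℕ} {T : ℕ → ℕ → ℕ} {inv' : ℕ → ℕ}
    (h : ClosesT.{u} inv' rs m mh N T) (hs : m ≤ n ∧ 0 < N ∧ (∀ j < m, inv' j = inv j ∧ inv j < m) ∧ ∀ w ∈ rs, w ∈ rels)
    (hk : CardLE (gen g mh) k) : CardLE (gen g m) (N * k) :=
  have i : InvOK g inv' m := fun j hj => by
    rw [(hs.2.2.1 j hj).1]; exact ⟨(hs.2.2.1 j hj).2, (h1 j (hj.trans_le hs.1)).2⟩
  (h.closes i fun w hw => h2 w (hs.2.2.2 w hw)).card i hs.2.1 hk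

/-- the Coxeter relations at the point `c` -/
noncomputable def cxE (T L : ℕ → ℕ → ℕ) (n c : ℕ) : ℕ :=
  lin (fun a => lin (fun b => Nat.xor (itF (fun x => force (T b x) (T a)) (L a b) c) c) (nat_lit 0) n) (nat_lit 0) n

theorem cx_pts [FaithfulSMul G X] (hs : ∀ x, ∃ i < N, pt i = x) (R : Reps pt N g T m) {L : ℕ → ℕ → ℕ}
    (hL : ∀ a < m, L a a = 1) (h : ∀ c < N, cxE T L m c = 0) : Cx g m L := by
  have k : ∀ a < m, ∀ b < m, (g a * g b) ^ L a b = 1 := fun a ha b hb =>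
    Rep.eq_of_faithful hs (((R a ha).mul (R b hb)).itF _) Rep.one fun c hc =>
      xor_eq_zero' (lin_zero (lin_zero (h c hc) a ha) b hb)
  exact fun a ha => ⟨by simpa [hL a ha] using k a ha a ha, fun b hb _ => k a ha b hb⟩

theorem reps_hom {P : Type*} [Group P] (φ : P →* G) {a : ℕ → P} (R : Reps pt N g T m) (h : ∀ j < m, φ (a j) = g j) :
    letI := MulAction.compHom X φ; Reps pt N a T m := fun j hj c hc => ⟨(R j hj c hc).1, by
  rw [← (R j hj c hc).2, ← h j hj]; rfl⟩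

theorem rel_iff {a x : G} (h : a * a = 1) : a * x⁻¹ = 1 ↔ x * a = 1 := by
  rw [mul_inv_eq_one, mul_eq_one_iff_eq_inv, inv_eq_of_mul_eq_one_left h, eq_comm]

theorem cp_lift {α : Type} [DecidableEq α] {E : List (α × ℕ × α)} {Y : List (FreeGroup α)} {l : ℕ → α} {i : α → ℕ}
    (h : ∀ x, l (i x) = x) : ∀ r ∈ Y, FreeGroup.lift (fun x => cpg E Y l (i x)) r = 1 := fun r hr => by
  rw [← cp_extra (E := E) hr]
  congr 1
  ext x
  rw [FreeGroup.lift_apply_of, cpg, h]; rfl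

/-- a model with a checked stabilizer chain in the letters `q` -/
structure Ch (pt : ℕ → X) (N : ℕ) (q : ℕ → G) (Q : ℕ → ℕ → ℕ) (r M : ℕ) (t : List Lev) : Prop where
  inj : Inj pt N
  reps : Reps pt N q Q r
  chain : chainE Q N M t r = 0
  le : CardLE (⊤ : Subgroup G) (chainN t)

variable {r M : ℕ} {t : List Lev}

theorem chain_lt (R : Reps pt N q Q r) (h : chainE Q N M t r = 0) : ∀ b ∈ t.map Lev.β, b < N := by
  induction t generalizing r with
  | nil => simp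
  | cons l t ih =>
    obtain ⟨-, h2, h3, -, h5⟩ := chain_cons R h
    exact List.forall_mem_cons.mpr ⟨h2, ih (R.mono h3) h5⟩

theorem Ch.md (C : Ch pt N q Q r M t) (R : Reps pt N g T m) (hB : t.map Lev.β = B) : Md pt N B g T m :=
  hB ▸ ⟨C.inj, chain_lt C.reps C.chain, fun _ ha => eq_one_of_chain C.inj C.reps C.chain le_top C.le trivial ha, R⟩

theorem Ch.card (C : Ch pt N q Q r M t) : Nat.card G = chainN t := by
  rw [← card_top, (chain_gen_eq C.inj C.reps C.chain le_top C.le).2]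

theorem Ch.fin (C : Ch pt N q Q r M t) : Finite G := have := C.le.1; .of_equiv _ topEquiv.toEquiv

theorem Ch.top (C : Ch pt N q Q r M t) : gen q r = ⊤ := (chain_gen_eq C.inj C.reps C.chain le_top C.le).1

theorem Ch.stab {l : Lev} (C : Ch pt N q Q r M (l :: t)) :
    gen q l.m' = stabilizer G (pt l.β) ∧ Nat.card (stabilizer G (pt l.β)) = chainN t := by
  have := chain_stab C.inj C.reps C.chain le_top C.le
  rw [top_inf_eq] at this
  exact ⟨this.1, this.2.1⟩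

theorem Ch.orb {l : Lev} (C : Ch pt N q Q r M (l :: t)) (h : l.n = N) : orbit G (pt l.β) = pt '' Set.Iio N := by
  have h1 := (chain_stab C.inj C.reps C.chain le_top C.le).2.2
  have h2 : orbit (⊤ : Subgroup G) (pt l.β) = orbit G (pt l.β) :=
    Set.ext fun _ => ⟨fun ⟨a, e⟩ => ⟨a, e⟩, fun ⟨a, e⟩ => ⟨⟨a, trivial⟩, e⟩⟩
  refine Set.eq_of_subset_of_ncard_le ?_ (by rw [← h2, h1, C.inj.ncard_Iio, h]) ((Set.finite_Iio N).image _)
  rintro _ ⟨a, rfl⟩
  obtain ⟨d, hd, e⟩ := C.reps.orbit_sub C.inj (chain_cons C.reps C.chain).2.1 (a := a) (C.top ▸ mem_top a)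
  exact ⟨d, hd, e.symm⟩

/-- suborbits: classes `1 ≤ O c ≤ k` with descent to their roots -/
noncomputable def soE (Q : ℕ → ℕ → ℕ) (m N M k : ℕ) (V O rt : ℕ → ℕ) (c : ℕ) : ℕ :=
  Nat.add (Nat.add (descT Q m N M V O rt c) (invE Q m O c)) (Nat.add (ltE (nat_lit 0) (O c)) (Nat.sub (O c) k))

theorem Ch.sub {l : Lev} (C : Ch pt N q Q r M (l :: t)) {k : ℕ} {V O rt : ℕ → ℕ}
    (h : ∀ c < N, soE Q l.m' N M k V O rt c = 0) {c : ℕ} (hc : c < N) :
    orbit (stabilizer G (pt l.β)) (pt c) = pt '' {d | d < N ∧ O d = O c} :=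
  C.stab.1 ▸ orbit_eq_class (C.reps.mono (chain_cons C.reps C.chain).2.2.1) C.inj
    (fun c hc => (add_eq_zero' (add_eq_zero' (h c hc)).1).1) (fun c hc => (add_eq_zero' (add_eq_zero' (h c hc)).1).2) hc
    (ltE_zero (add_eq_zero' (add_eq_zero' (h c hc)).2).1).ne'

theorem Ch.coatom {l : Lev} (C : Ch pt N q Q r M (l :: t)) (hn : l.n = N ∧ 1 < N) {k : ℕ} {V O rt : ℕ → ℕ}
    (h : ∀ c < N, soE Q l.m' N M k V O rt c = 0) (s : ℕ → ℕ) (hs : ∀ i ≤ k, 1 ≤ i → cnt O i N = s i) {k0 : ℕ}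
    (h0 : O l.β = k0)
    (h' : ∀ S ∈ (Finset.Icc 1 k).powerset, k0 ∈ S → (∑ i ∈ S, s i) ∣ N → S = {k0} ∨ S = Finset.Icc 1 k) :
    IsCoatom (stabilizer G (pt l.β)) :=
  isCoatom_stabilizer (O := O) (r := k) C.inj (chain_cons C.reps C.chain).2.1 hn.2 (C.orb hn.1)
    (fun c hc => have := add_eq_zero' (add_eq_zero' (h c hc)).2; ⟨ltE_zero this.1, sub_eq_zero' this.2⟩)
    (fun c hc d hd e => by
      obtain ⟨a, ha⟩ := (C.sub h hc).ge ⟨d, ⟨hd, e.symm⟩, rfl⟩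
      exact ⟨a, a.2, ha⟩) (h0 ▸ subsetOK_of_list s (fun i a b => hs i b a) h')

theorem Md.ncl {m0 : ℕ} (M0 : Md pt N B g T m0) (top : gen g m0 = ⊤) (M : Md pt N B q Q m) {x y : ℕ} (aw : List ℕ)
    (V : ℕ → List ℕ) (h : Nat.beq (Nat.add (eqE Q B m (aw ++ [y]) (x :: aw)) (upTo (enE T Q B m [x, y] V) m0)) (nat_lit 0) = true) :
    normalClosure {q x} = ⊤ := by
  obtain ⟨h1, h2⟩ := add_eq_zero' (Nat.eq_of_beq_eq_true h)
  have e1 := M.eq h1
  simp only [ev_append, ev_cons, ev_nil, one_mul] at e1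
  have e0 : q x ∈ normalClosure {q x} := subset_normalClosure rfl
  refine eq_top_iff.mpr (top ▸ gen_le fun j hj => ?_)
  obtain ⟨h1, h2⟩ := add_eq_zero' (upTo_zero h2 j hj)
  obtain ⟨h1, h3⟩ := add_eq_zero' h1
  rw [(M.eqF (M0.reps j hj) (M.rw h1)).mp h2]
  have : ∀ w : List ℕ, (∀ i ∈ w, i ∈ [x, y]) → ev q w ∈ normalClosure {q x} := fun w => by
    induction w with
    | nil => exact fun _ => one_mem _
    | cons i w ih =>
      intro hw
      refine mul_mem (ih fun i hi => hw i (List.mem_cons_of_mem _ hi)) ?_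
      rcases List.mem_pair.mp (hw i List.mem_cons_self) with rfl | rfl
      exacts [e0, eq_mul_inv_of_mul_eq e1 ▸ normalClosure_normal.conj_mem _ e0 _]
  exact this _ fun i hi => memE_zero (allE_zero h3 i hi)

theorem Ch.simple {l : Lev} (C : Ch pt N q Q r M (l :: t)) (hn : l.n = N) (h : IsCoatom (stabilizer G (pt l.β))) {x : G}
    {p : ℕ} (hx : x ^ p = 1) (hp : p.Coprime (chainN t)) (hg : normalClosure {x} = ⊤) : IsSimpleGroup G := by
  have := C.fin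
  refine simple_of_coprime h (eq_bot_iff.mpr fun a ha => (C.md C.reps rfl).base a fun b hb => ?_) x
    (C.stab.2 ▸ hp.coprime_dvd_left (orderOf_dvd_of_pow_eq_one hx)) hg
  obtain ⟨k, hk⟩ := (C.orb hn).ge ⟨b, (C.md C.reps rfl).lt b hb, rfl⟩
  have := normalCore_le _ ((normalCore_normal _).conj_mem a ha k⁻¹)
  rw [mem_stabilizer_iff, inv_inv, mul_smul, mul_smul, inv_smul_eq_iff] at this
  rwa [← show k • pt l.β = pt b from hk]

theorem orbit_quot (x : X) (y : G ⧸ stabilizer G x) :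
    ofQuotientStabilizer G x '' orbit (stabilizer G x) y = orbit (stabilizer G x) (ofQuotientStabilizer G x y) :=
  Set.ext fun _ => ⟨fun ⟨_, ⟨a, e⟩, e'⟩ => ⟨a, by rw [← e', ← e]; exact (ofQuotientStabilizer_smul G x a y).symm⟩,
    fun ⟨a, e⟩ => ⟨_, ⟨a, rfl⟩, by rw [← e]; exact ofQuotientStabilizer_smul G x a y⟩⟩

theorem Ch.quot {l : Lev} (C : Ch pt N q Q r M (l :: t)) (hn : l.n = N) {k : ℕ} {V O rt : ℕ → ℕ}
    (h : ∀ c < N, soE Q l.m' N M k V O rt c = 0) {H : Subgroup G} (hH : H = stabilizer G (pt l.β)) :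
    H.index = N ∧ ∃ y : ℕ → G ⧸ H, ∀ c < N, (orbit H (y c)).ncard = cnt O (O c) N ∧
      ∀ d < N, orbit H (y c) = orbit H (y d) → O c = O d := by
  subst hH
  have : ∀ c, ∃ y, c < N → ofQuotientStabilizer G (pt l.β) y = pt c := fun c => by
    by_cases hc : c < N
    · obtain ⟨a, e⟩ := (C.orb hn).ge ⟨c, hc, rfl⟩
      exact ⟨a, fun _ => e⟩
    · exact ⟨(1 : G), fun h => absurd h hc⟩
  choose y hy using this
  have k : ∀ c < N, _ '' orbit _ (y c) = _ := fun c hc => (orbit_quot _ (y c)).trans (hy c hc ▸ C.sub h hc)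
  refine ⟨by rw [index_stabilizer, C.orb hn, C.inj.ncard_Iio], y, fun c hc => ⟨?_, fun d hd e => ?_⟩⟩
  · rw [← C.inj.ncard_class, ← k c hc, Set.ncard_image_of_injective _ (injective_ofQuotientStabilizer G _)]
  · obtain ⟨b, ⟨hb, e1⟩, e2⟩ := ((k c hc).symm.trans (e ▸ k d hd)).le ⟨c, ⟨hc, rfl⟩, rfl⟩
    rw [← e1, C.inj _ hb _ hc e2]

theorem gen_words {W : ℕ → List ℕ} {a b : ℕ} (h : lin (fun j => lettE a (W j)) (nat_lit 0) b = 0) :
    gen (fun j => ev g (W j)) b ≤ gen g a := gen_le fun j hj => ev_mem_gen g (lettE_zero (lin_zero h j hj))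

theorem gen_fix (R : Reps pt N g T m) {a x : ℕ} (h : a ≤ m ∧ x < N ∧ ∀ j < a, T j x = x) : gen g a ≤ stabilizer G (pt x) :=
  gen_le fun j hj => (R j (hj.trans_le h.1)).smul_eq h.2.1 (h.2.2 j hj)

end Cfsg.Agent.Ct
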