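import Cfsg.Agent.Lib.Cert.Sch3
import Cfsg.Agent.Lib.Cert.Mod

/-! Lower bounds for Schur multipliers from presentations and projective actions. -/

set_option autoImplicit false
set_option linter.unusedSectionVars false

namespace Cfsg.Agent.Ct

open Cfsg.Agent.PC Cfsg.Agent.Fi Cfsg.Agent.Schur Subgroup commutatorElement

universe u

/-- the multiplier has an element of order divisible by `n` -/
def LoK (G : Type u) [Group G] (n : ℕ) : Prop := n ∣ Monoid.exponent (SM G)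

theorem lok_of {G : Type u} [Group G] {X : Type*} [Group X] {ξ : X →* G} (h : CE ξ) {x : X} (hx : x ∈ MM ξ) {n : ℕ}
    (hn : n ∣ orderOf x) : LoK G n := by
  obtain ⟨f, hf⟩ := exists_mul_surj h
  obtain ⟨e, he⟩ := hf ⟨x, hx⟩
  refine hn.trans ?_
  rw [← orderOf_mk x hx, ← he]
  exact (orderOf_map_dvd f e).trans (Monoid.order_dvd_exponent e)

/-- every group with these relations has order at most `n` -/
def Ub (inv : ℕ → ℕ) (rels : List (List ℕ)) (m n : ℕ) : Prop :=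
  ∀ (Γ : Type) [Group Γ] (u : ℕ → Γ), InvOK u inv m → (∀ w ∈ rels, ev u w = 1) → CardLE (gen u m) n

theorem lok_ub {G E : Type} [Group G] [Finite G] [Group E] {g : ℕ → G} {inv : ℕ → ℕ} {rels : List (List ℕ)} {m : ℕ}
    (top : gen g m = ⊤) (ub : Ub inv rels m (Nat.card G)) (hi : InvOK g inv m) (hr : ∀ w ∈ rels, ev g w = 1) {e : ℕ → E}
    (hl : ∀ w ∈ rels, ∀ j ∈ w, j < m) (hc : ∀ w ∈ rels, ∀ j < m, Commute (ev e w) (e j))
    (hc' : ∀ i < m, ∀ j < m, Commute (ev e [i, inv i]) (e j)) {u v : List ℕ} (hu : (∀ j ∈ u, j < m) ∧ ∀ j ∈ v, j < m)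
    (h1 : ev g (u ++ v) = ev g (v ++ u)) {n : ℕ} (h2 : n ∣ orderOf ⁅ev e u, ev e v⁆) : LoK G n := by
  let k : ℕ → G × E := fun j => (g j, e j)
  let X := gen k m
  let x : ℕ → X := PC.sub X k
  have tx : gen x m = ⊤ := gen_sub_top rfl
  have ex : ∀ w : List ℕ, (∀ j ∈ w, j < m) → ((ev x w : X) : G × E) = (ev g w, ev e w) := fun w hw => by
    rw [← ev_prod]
    exact (ev_map X.subtype x w).trans (ev_congr fun j hj => coe_sub (mem_gen k (hw j hj)))
  let ξ : X →* G := (MonoidHom.fst G E).comp X.subtype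
  let Z := center X ⊓ ξ.ker
  have hz : ∀ w : List ℕ, (∀ j ∈ w, j < m) → ev g w = 1 → (∀ j < m, Commute (ev e w) (e j)) →
      ev (fun j => QuotientGroup.mk' Z (x j)) w = 1 := fun w hw h h' => by
    rw [← ev_map]
    refine (QuotientGroup.eq_one_iff _).mpr ⟨mem_center_iff.mpr fun y => ?_, (congrArg Prod.fst (ex w hw)).trans h⟩
    refine (mem_centralizer_singleton_iff.mp (gen_le (g := x) (m := m) (H := centralizer {ev x w}) (fun j hj =>
      mem_centralizer_singleton_iff.mpr (Subtype.ext (Eq.symm ?_))) (tx ▸ mem_top y)))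
    have := ex [j] (by simpa using hj)
    simp only [ev_cons, ev_nil, one_mul] at this
    rw [coe_mul, coe_mul, ex w hw, this, h]
    exact Prod.ext (by simp) (h' j hj)
  have hs : Function.Surjective ξ := MonoidHom.range_eq_top.mp (eq_top_iff.mpr (top ▸ gen_le fun j hj =>
    ⟨x j, congrArg Prod.fst (coe_sub (mem_gen k hj))⟩))
  obtain ⟨f1, f2⟩ := ub _ (fun j => QuotientGroup.mk' Z (x j)) (fun j hj => ⟨(hi j hj).1, eq_inv_of_mul_eq_one_left (by
      simpa using hz [j, inv j] (by simp [hj, (hi j hj).1]) (by simp [(hi j hj).2]) (hc' j hj))⟩)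
    fun w hw => hz w (hl w hw) (hr w hw) (hc w hw)
  rw [← gen_map, tx, map_top_of_surjective _ (QuotientGroup.mk'_surjective Z)] at f1 f2
  rw [card_top] at f2
  have : Finite (X ⧸ Z) := .of_equiv _ topEquiv.toEquiv
  have hs' := QuotientGroup.lift_surjective_of_surjective Z ξ hs inf_le_right
  have hj := ((Nat.bijective_iff_surjective_and_card _).mpr ⟨hs', le_antisymm f2 (Nat.card_le_card_of_surjective _ hs')⟩).1
  refine lok_of (x := ⁅ev x u, ev x v⁆) ⟨hs, fun y hy => ((QuotientGroup.eq_one_iff y).mp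
    ((injective_iff_map_eq_one _).mp hj y hy)).1⟩ ⟨?_, commutator_mem_commutator (mem_top _) (mem_top _)⟩ (h2.trans ?_)
  · show ξ _ = 1
    rw [map_commutatorElement, commutatorElement_eq_one_iff_mul_comm]
    rw [ev_append, ev_append] at h1
    rw [show ξ (ev x u) = ev g u from congrArg Prod.fst (ex u hu.1), show ξ (ev x v) = ev g v from congrArg Prod.fst (ex v hu.2), h1]
  · have := orderOf_map_dvd ((MonoidHom.snd G E).comp X.subtype) ⁅ev x u, ev x v⁆
    rwa [map_commutatorElement, show (MonoidHom.snd G E).comp X.subtype (ev x u) = ev e u from congrArg Prod.snd (ex u hu.1),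
      show (MonoidHom.snd G E).comp X.subtype (ev x v) = ev e v from congrArg Prod.snd (ex v hu.2)] at this

/-- monomial tables: the entry `E j x` is `n * image + twist` -/
noncomputable def mT (E : ℕ → ℕ → ℕ) (n j c : ℕ) : ℕ :=
  force (E j (Nat.div c n)) fun e => force (Nat.mod e n) fun a =>
    Nat.add (Nat.sub e a) (Nat.mod (Nat.add a (Nat.mod c n)) n)

theorem mT_eq (E : ℕ → ℕ → ℕ) {n : ℕ} (j x : ℕ) {i : ℕ} (hi : i < n) :
    mT E n j (n * x + i) = n * (E j x / n) + (E j x + i) % n := by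
  have h1 : (n * x + i) / n = x := by rw [Nat.mul_add_div (by omega), Nat.div_eq_of_lt hi, add_zero]
  have h2 : (n * x + i) % n = i := by rw [Nat.mul_add_mod, Nat.mod_eq_of_lt hi]
  show E j ((n * x + i) / n) - E j ((n * x + i) / n) % n + (E j ((n * x + i) / n) % n + (n * x + i) % n) % n = _
  rw [h1, h2, Nat.mod_add_mod, Nat.mul_div_self_eq_mod_sub_self]

theorem tr_mT (E : ℕ → ℕ → ℕ) {n : ℕ} (hn : 0 < n) (w : List ℕ) : ∀ x a i y b, a < n → b < n →
    trF (mT E n) w (n * x + a) = n * y + b → trF (mT E n) w (n * x + (a + i) % n) = n * y + (b + i) % n := by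
  induction w with
  | nil =>
    intro x a i y b ha hb h
    have h : n * x + a = n * y + b := h
    have h1 := congrArg (· % n) h
    simp only [Nat.mul_add_mod, Nat.mod_eq_of_lt ha, Nat.mod_eq_of_lt hb] at h1
    rw [h1] at h ⊢
    rw [Nat.add_right_cancel h]; rfl
  | cons j w ih =>
    intro x a i y b ha hb h
    change trF (mT E n) w (mT E n j _) = _ at h ⊢
    rw [mT_eq E j x ha] at h
    rw [mT_eq E j x (Nat.mod_lt _ hn), ← ih _ _ i _ _ (Nat.mod_lt _ hn) hb h, Nat.add_mod_mod, Nat.mod_add_mod, add_assoc]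

/-- the words of the list act as scalars at the point `x` -/
noncomputable def scE (E : ℕ → ℕ → ℕ) (n : ℕ) (ws : List (List ℕ × ℕ)) (x : ℕ) : ℕ :=
  force (Nat.mul n x) fun c => allE (fun w => Nat.xor (trF (mT E n) w.1 c) (Nat.add c w.2)) ws

theorem sc_comm {X : Type*} {n N m : ℕ} (L : Lab X (n * N)) {E : ℕ → ℕ → ℕ} {e : ℕ → Equiv.Perm X}
    (R : Reps L.pt (n * N) e (mT E n) m) {ws : List (List ℕ × ℕ)} (h : ∀ x < N, scE E n ws x = 0) {w : List ℕ × ℕ} (hw : w ∈ ws)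
    (hl : lettE m w.1 = 0 ∧ w.2 < n) : ∀ j < m, Commute (ev e w.1) (e j) := by
  have hn : 0 < n := by omega
  have r : Rep L.pt (n * N) (ev e w.1) (trF (mT E n) w.1) := trF_eq _ _ ▸ R.ev (lettE_zero hl.1)
  have k : ∀ x < N, ∀ i < n, trF (mT E n) w.1 (n * x + i) = n * x + (w.2 + i) % n := fun x hx i hi => by
    have := tr_mT E hn w.1 x 0 i x w.2 hn hl.2 (xor_eq_zero' (allE_zero (h x hx) w hw))
    rwa [zero_add, Nat.mod_eq_of_lt hi] at this
  refine fun j hj => Rep.eq_of_faithful L.surj (r.mul (R j hj)) ((R j hj).mul r) fun c hc => ?_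
  have h1 := Nat.mod_lt c hn
  have h2 : c / n < N := Nat.div_lt_of_lt_mul hc
  have h3 := (R j hj c hc).1
  rw [← Nat.div_add_mod c n] at h3 ⊢
  rw [mT_eq E j _ h1] at h3
  show trF _ _ _ = mT E n j _
  rw [k _ h2 _ h1, mT_eq E j _ h1, mT_eq E j _ (Nat.mod_lt _ hn),
    k _ (Nat.lt_of_mul_lt_mul_left ((Nat.le_add_right _ _).trans_lt h3)) _ (Nat.mod_lt _ hn), Nat.add_mod_mod, Nat.add_mod_mod,
    add_left_comm]

theorem lok_mono {G : Type} [Group G] [Finite G] {g : ℕ → G} {inv inv' : ℕ → ℕ} {rels : List (List ℕ)} {m m' n N M : ℕ}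
    (top : gen g m = ⊤) (ub : Ub inv rels m (Nat.card G)) (hi : InvOK g inv m) (hr : ∀ w ∈ rels, ev g w = 1)
    {E : ℕ → ℕ → ℕ} (hM : M + 1 = n * N) (h1 : invlE inv' m' = 0) (h2 : ∀ c < M + 1, permE (mT E n) inv' (M + 1) m' c = 0)
    {ws : List (List ℕ × ℕ)} (h3 : ∀ x < N, scE E n ws x = 0) {u v : List ℕ}
    (h4 : m ≤ m' ∧ 1 < n ∧ (∀ w ∈ ws, lettE m' w.1 = 0 ∧ w.2 < n) ∧ (∀ w ∈ rels, lettE m w = 0 ∧ w ∈ ws.map Prod.fst) ∧
      (∀ i < m, [i, inv i] ∈ ws.map Prod.fst) ∧ lettE m u = 0 ∧ lettE m v = 0 ∧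
      lettE m' (invw inv' v ++ invw inv' u ++ v ++ u) = 0 ∧ trF (mT E n) (invw inv' v ++ invw inv' u ++ v ++ u) 0 = 1)
    (h5 : ev g (u ++ v) = ev g (v ++ u)) : LoK G n := by
  obtain ⟨a1, a2, a3, a4, a5, a6, a7, a8, a9⟩ := h4
  let L : Lab (Fin (M + 1)) (n * N) := hM ▸ finLab M
  obtain ⟨R, iv⟩ := L.reps_fam h1 (hM ▸ h2)
  have k : ∀ w ∈ ws.map Prod.fst, ∀ j < m, Commute (ev (L.fam (mT E n) inv') w) (L.fam (mT E n) inv' j) := fun w hw j hj => by
    obtain ⟨w, hw', rfl⟩ := List.mem_map.mp hw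
    exact sc_comm L R h3 hw' (a3 w hw') j (by omega)
  refine lok_ub top ub hi hr (fun w hw => lettE_zero (a4 w hw).1) (fun w hw => k w (a4 w hw).2) (fun i hi => k _ (a5 i hi))
    ⟨lettE_zero a6, lettE_zero a7⟩ h5 ?_
  have N0 : 0 < N := Nat.pos_of_mul_pos_left (a := n) (by omega)
  have b4 : n * 1 ≤ n * N := Nat.mul_le_mul_left _ N0
  have b1 : ∀ i < n, _ • L.pt i = L.pt ((1 + i) % n) := fun i hi => by
    have := tr_mT E (by omega) _ 0 0 i 0 1 (by omega) a2 a9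
    simp only [mul_zero, zero_add, Nat.mod_eq_of_lt hi, trF_eq] at this
    rw [← this]
    exact (R.ev (lettE_zero a8) i (by omega)).2
  have iw : ∀ w, lettE m w = 0 → _ := fun w h =>
    ev_invw (g := L.fam (mT E n) inv') (w := w) fun j hj => (iv j ((lettE_zero h j hj).trans_le a1)).2
  simp only [ev_append, iw u a6, iw v a7, ← mul_assoc, ← commutatorElement_def] at b1
  generalize ⁅ev (L.fam (mT E n) inv') u, ev (L.fam (mT E n) inv') v⁆ = z at b1
  have b2 : ∀ k, z ^ k • L.pt 0 = L.pt (k % n) := fun k => by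
    induction k with
    | zero => simp
    | succ k ih => rw [pow_succ', mul_smul, ih, b1 _ (Nat.mod_lt _ (by omega)), Nat.add_mod_mod, add_comm 1]
  have b3 := b2 (orderOf z)
  rw [pow_orderOf_eq_one, one_smul] at b3
  have b5 := Nat.mod_lt (orderOf z) (show 0 < n by omega)
  exact Nat.dvd_of_mod_eq_zero (by have := L.inj _ (by omega) _ (by omega) b3; omega)

theorem schur_cyc {G : Type u} [Group G] {N n a b : ℕ} (hN : Nat.card G = N) (h1 : LoK G a) (h1' : LoK G b)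
    (l : List ℕ) (h2 : N ∣ l.prod ^ 64 ∧ N ≠ 0 ∧ 0 < n ∧ n = a * b ∧ a.Coprime b)
    (h3 : ∀ p ∈ l, p.Prime ∧ (¬ p ^ 2 ∣ N ∨ ∃ k, p ^ k ∣ n ∧ NoK G (p ^ (k + 1)))) : HasCyclicSchurMultiplier G n := by
  have := Nat.finite_of_card_ne_zero (hN ▸ h2.2.1)
  obtain ⟨Γ, i1, i2, σ, β, hc⟩ := exists_cover G
  obtain ⟨e⟩ := hc.equiv
  have h5 : Nat.card σ.ker ∣ n := (Nat.dvd_iff_prime_pow_dvd_dvd _ _).mpr fun p k hp hk => by
    rcases k with _ | k
    · simp
    have h6 := (dvd_pow_self p (Nat.succ_ne_zero k)).trans hk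
    by_cases h7 : p ^ 2 ∣ Nat.card G
    · rw [hN] at h7
      obtain ⟨a, ha, h8⟩ := (Prime.dvd_prod_iff hp.prime).mp
        (hp.dvd_of_dvd_pow (((dvd_pow_self p two_ne_zero).trans h7).trans h2.1))
      obtain ⟨h9, h10⟩ := h3 a ha
      obtain rfl := (Nat.prime_dvd_prime_iff_eq hp h9).mp h8
      obtain ⟨j, h11, h12⟩ := h10.resolve_left (not_not.mpr h7)
      exact (pow_dvd_pow p (Nat.le_of_not_lt fun h => h12 Γ σ hc.stem ((pow_dvd_pow p h).trans hk))).trans h11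
    · exact absurd h6 (nop_cyc hc.stem hp h7)
  rw [← Nat.card_congr e.toEquiv] at h5
  have h6 : n ∣ Monoid.exponent (SM G) := h2.2.2.2.1 ▸ h2.2.2.2.2.mul_dvd_of_dvd_of_dvd h1 h1'
  have h7 := Nat.dvd_antisymm h5 (h6.trans Group.exponent_dvd_nat_card)
  letI : CommGroup (SM G) := { (inferInstance : Group (SM G)) with
    mul_comm := fun a b => Subtype.ext (cent_comm (uπ_CE G).cent b.2.1 a) }
  haveI : IsCyclic (SM G) := IsCyclic.of_exponent_eq_card (Nat.dvd_antisymm Group.exponent_dvd_nat_card (h7 ▸ h6))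
  haveI : NeZero n := ⟨h2.2.2.1.ne'⟩
  exact hasSchur_iff.2 ⟨mulEquivOfCyclicCardEq (by rw [h7]; simp)⟩

end Cfsg.Agent.Ct
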