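import Cfsg.Agent.Lib.Cert.A6s.S2
import Cfsg.Agent.Lib.Cert.A6s.S3
import Cfsg.Agent.Lib.Cert.A6s.C2
import Cfsg.Agent.Lib.Cert.A6s.C3
import Cfsg.Agent.Lib.Cert.A7s.S2
import Cfsg.Agent.Lib.Cert.A7s.S3
import Cfsg.Agent.Lib.Cert.A7s.C2
import Cfsg.Agent.Lib.Cert.A7s.C3

set_option autoImplicit false
set_option maxHeartbeats 400000

namespace Cfsg.Agent.Ct.A67

theorem alt {n k : ℕ} {H : Subgroup (Equiv.Perm (Fin n))} (h : Nat.card H = k) (e : n.factorial = 2 * k) : H = alternatingGroup (Fin n) := by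
  refine Equiv.Perm.eq_alternatingGroup_of_index_eq_two ?_
  have t := H.index_mul_card
  rw [Nat.card_perm, Nat.card_eq_fintype_card (α := Fin n), Fintype.card_fin, e, h] at t
  exact Nat.eq_of_mul_eq_mul_right (h ▸ Nat.card_pos) t

theorem s6 : HasCyclicSchurMultiplier A6.P 6 := by
  refine schur_cyc A6.card A6s.C2.lok A6s.C3.lok [2, 3, 5] (by decide) ?_
  simp only [List.forall_mem_cons]
  exact ⟨⟨by norm_num, .inr ⟨1, by decide, A6s.S2.nok⟩⟩, ⟨by norm_num, .inr ⟨1, by decide, A6s.S3.nok⟩⟩,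
    ⟨by norm_num, .inl (by decide)⟩, by simp⟩

theorem s7 : HasCyclicSchurMultiplier A7.P 6 := by
  refine schur_cyc A7.card A7s.C2.lok A7s.C3.lok [2, 3, 5, 7] (by decide) ?_
  simp only [List.forall_mem_cons]
  exact ⟨⟨by norm_num, .inr ⟨1, by decide, A7s.S2.nok⟩⟩, ⟨by norm_num, .inr ⟨1, by decide, A7s.S3.nok⟩⟩,
    ⟨by norm_num, .inl (by decide)⟩, ⟨by norm_num, .inl (by decide)⟩, by simp⟩

theorem a6 : HasCyclicSchurMultiplier (alternatingGroup (Fin 6)) 6 := schur_congr (MulEquiv.subgroupCongr (alt A6.card (by decide))) s6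
theorem a7 : HasCyclicSchurMultiplier (alternatingGroup (Fin 7)) 6 := schur_congr (MulEquiv.subgroupCongr (alt A7.card (by decide))) s7

end Cfsg.Agent.Ct.A67
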