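import Cfsg.Agent.Lib.Cert.Fix

/-! Checks on large tables, assembled from pieces. -/

set_option autoImplicit false

namespace Cfsg.Agent.Ct

open Cfsg.Agent.PC Cfsg.Agent.Fi Subgroup

theorem permE_of {T : ℕ → ℕ → ℕ} {inv : ℕ → ℕ} {N m : ℕ} (h : ∀ c < N, ∀ j < m, T j c < N ∧ T (inv j) (T j c) = c) :
    ∀ c < N, permE T inv N m c = 0 := fun c hc => lin_of fun j hj => by
  show Nat.sub (Nat.add (T j c) 1) N + Nat.xor (T (inv j) (T j c)) c = 0
  rw [(h c hc j hj).2, show Nat.xor c c = 0 from Nat.xor_self c]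
  exact Nat.sub_eq_zero_of_le (h c hc j hj).1

theorem chainE_cons {T : ℕ → ℕ → ℕ} {N M m : ℕ} {l : Lev} {t : List Lev}
    (h1 : ∀ c < N, descT T m N M l.V (fun c => sg (l.V c)) (fun _ => l.β) c = 0) (h2 : Nat.sub l.n (cnt (fun c => sg (l.V c)) (nat_lit 1) N) = 0)
    (h3 : Nat.add (ltE l.β N) (Nat.add (Nat.sub l.m' m) (lin (fun j => Nat.xor (T j l.β) l.β) (nat_lit 0) l.m')) = 0)
    (h4 : chainE T N M t l.m' = 0) : chainE T N M (l :: t) m = 0 := by
  have h5 : orbE T m N M l.V l.β l.n = 0 := by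
    show upTo _ N + _ = 0
    rw [h2, upTo_eq]
    exact Finset.sum_eq_zero fun c hc => h1 c (Finset.mem_range.mp hc)
  show orbE T m N M l.V l.β l.n + ltE l.β N + _ + chainE T N M t l.m' = 0
  rw [h5, h4, zero_add]
  exact h3

theorem cx_of_rels {G : Type*} [Group G] {g : ℕ → G} {n : ℕ} {L : ℕ → ℕ → ℕ} {rels : List (List ℕ)} (hi : ∀ a < n, g a * g a = 1)
    (hr : ∀ w ∈ rels, ev g w = 1) (h : ∀ a < n, ∀ b < n, a ≠ b → wpow [b, a] (L a b) ∈ rels ∨ wpow [a, b] (L a b) ∈ rels) : Cx g n L :=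
  fun a ha => ⟨hi a ha, fun b hb e => (h a ha b hb e).elim (fun t => by simpa [ev_wpow] using hr _ t) fun t => by
    rw [← inv_eq_one, ← inv_pow, mul_inv_rev, inv_eq_of_mul_eq_one_left (hi a ha), inv_eq_of_mul_eq_one_left (hi b hb)]
    simpa [ev_wpow] using hr _ t⟩

theorem cp_hom' {α : Type} [DecidableEq α] {E : List (α × ℕ × α)} {X : List (FreeGroup α)} {H : Type*} [Group H] {f : ℕ → H} {n : ℕ}
    {L : ℕ → ℕ → ℕ} (hc : Cx f n L) (i : α → ℕ)
    (h : ∀ x ∈ Spor.coxNodes E, i x < n ∧ ∀ y ∈ Spor.coxNodes E, x ≠ y → i x ≠ i y ∧ Spor.coxLabel E x y = L (i x) (i y))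
    (he : ∀ r ∈ X, FreeGroup.lift (fun x => f (i x)) r = 1) :
    ∃ φ : Spor.CoxPresented α E X →* H, ∀ x, φ (PresentedGroup.of x) = f (i x) := by
  refine ⟨PresentedGroup.toGroup (f := fun x => f (i x)) ?_, fun x => PresentedGroup.toGroup.of _⟩
  rintro r (⟨x, hx, y, hy, rfl⟩ | hr)
  · rw [map_pow, map_mul, FreeGroup.lift_apply_of, FreeGroup.lift_apply_of]
    by_cases e : x = y
    · subst e; simpa [Spor.coxLabel] using (hc _ (h x hx).1).1
    · rw [((h x hx).2 y hy e).2]; exact (hc _ (h x hx).1).2 _ (h y hy).1 ((h x hx).2 y hy e).1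
  · exact he r hr

end Cfsg.Agent.Ct
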