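import Cfsg.Agent.Lib.Cert.Big

/-! Embedding a simple group with a presentation. -/

set_option autoImplicit false

namespace Cfsg.Agent.Ct

open Cfsg.Agent.PC Cfsg.Agent.Fi Subgroup

variable {G X : Type*} [Group G] [Finite G] [MulAction G X] {pt : ℕ → X} {N m : ℕ} {B : List ℕ} {g : ℕ → G} {T : ℕ → ℕ → ℕ}
  {P : Type} [Group P] [Finite P] {a : ℕ → P} {inv : ℕ → ℕ} {rels : List (List ℕ)} {r : ℕ}

theorem Md.emb' (M : Md pt N B g T m) (Q : Pr a inv rels r) {W : ℕ → List ℕ} {m0 : ℕ} (h0 : 0 < r ∧ m0 ≤ m)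
    (h1 : lin (fun j => lettE m0 (W j)) (nat_lit 0) r = 0)
    (h2 : lin (fun j => eqE (fun j => trF T (W j)) B r [j, inv j] []) (nat_lit 0) r = 0)
    (h3 : allE (fun w => eqE (fun j => trF T (W j)) B r w []) rels = 0) (h4 : agF B (trF T (W 0)) (fun x => x) ≠ 0) :
    ∃ φ : P →* G, Function.Injective φ ∧ ∀ j < r, φ (a j) = ev g (W j) := by
  have := Q.si
  have M' := Md.words' ⟨M.inj, M.lt, M.base, M.reps.mono h0.2⟩ h1
  obtain ⟨φ, hφ⟩ := hom_ub Q.top Q.ub Q.hi Q.hr Q.hl (fun j hj => M'.eq (lin_zero h2 j hj)) (M'.rels h3)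
  exact ⟨φ, inj_simple (x := a 0) fun e => h4 ((M'.eqF (M'.reps 0 h0.1) Rep.one).mpr ((hφ 0 h0.1).symm.trans e)), hφ⟩

theorem Md.emb (M : Md pt N B g T m) (Q : Pr a inv rels r) {W : ℕ → List ℕ} {m0 : ℕ} (h0 : 0 < r ∧ m0 ≤ m)
    (h1 : lin (fun j => lettE m0 (W j)) (nat_lit 0) r = 0)
    (h2 : lin (fun j => eqE (fun j => trF T (W j)) B r [j, inv j] []) (nat_lit 0) r = 0)
    (h3 : allE (fun w => eqE (fun j => trF T (W j)) B r w []) rels = 0) (h4 : agF B (trF T (W 0)) (fun x => x) ≠ 0) :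
    ∃ φ : P →* G, Function.Injective φ ∧ φ.range ≤ gen g m0 := by
  obtain ⟨φ, i, hφ⟩ := M.emb' Q h0 h1 h2 h3 h4
  refine ⟨φ, i, ?_⟩
  rw [MonoidHom.range_eq_map, ← Q.top, map_le_iff_le_comap]
  exact gen_le fun j hj => show φ _ ∈ _ from hφ j hj ▸ ev_mem_gen g (lettE_zero (lin_zero h1 j hj))

end Cfsg.Agent.Ct
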