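import Cfsg.Agent.Lib.Cert.Emb

/-! Subgroups of small index and permutation realizations. -/

set_option autoImplicit false

namespace Cfsg.Agent.Ct

open Cfsg.Agent.PC Cfsg.Agent.Fi Subgroup MulAction

variable {G P D : Type*} [Group G] [Finite G] [Group P] [Group D]

theorem idx_k {H : Subgroup G} (h : ∃ φ : P →* G, Function.Injective φ ∧ φ.range ≤ H) (e : Nonempty (P ≃* D)) {k : ℕ}
    (hc : Nat.card H = k * Nat.card P) : ∃ N : Subgroup H, N.index = k ∧ Nonempty (N ≃* D) := by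
  obtain ⟨φ, i, l⟩ := h
  let f := (subgroupOfEquivOfLe l).trans (MonoidHom.ofInjective i).symm
  have := (φ.range.subgroupOf H).index_mul_card
  rw [hc, ← Nat.card_congr f.toEquiv] at this
  exact ⟨_, Nat.eq_of_mul_eq_mul_right Nat.card_pos this, ⟨f.trans e.some⟩⟩

theorem idx_one {H : Subgroup G} (h : ∃ φ : P →* G, Function.Injective φ ∧ φ.range ≤ H) (e : Nonempty (P ≃* D))
    (hc : Nat.card H = Nat.card P) : Nonempty (H ≃* D) := by
  obtain ⟨N, h1, ⟨f⟩⟩ := idx_k h e (hc.trans (one_mul _).symm)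
  exact ⟨(topEquiv.symm.trans (MulEquiv.subgroupCongr (index_eq_one.mp h1).symm)).trans f⟩

theorem real {X : Type*} (φ : G →* Equiv.Perm X) (i : Function.Injective φ) (x : X) :
    letI := MulAction.compHom X φ; Nonempty (stabilizer G x ≃* stabilizer φ.range x) :=
  letI := MulAction.compHom X φ
  ⟨((MonoidHom.ofInjective i).subgroupMap _).trans (MulEquiv.subgroupCongr (Subgroup.ext fun y =>
    ⟨fun ⟨_, h, e⟩ => e ▸ h, fun h => let ⟨a, e⟩ := y.2; ⟨a, show φ a x = x from e ▸ h, Subtype.ext e⟩⟩))⟩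

theorem real_tr {X : Type*} (φ : G →* Equiv.Perm X) (h : letI := MulAction.compHom X φ; IsPretransitive G X) : IsPretransitive φ.range X :=
  letI := MulAction.compHom X φ
  ⟨fun x y => let ⟨a, e⟩ := h.1 x y; ⟨⟨_, a, rfl⟩, e⟩⟩

theorem Ch.tr {X : Type*} [MulAction G X] {pt : ℕ → X} {N r M : ℕ} {q : ℕ → G} {Q : ℕ → ℕ → ℕ} {l : Lev} {t : List Lev}
    (C : Ch pt N q Q r M (l :: t)) (h : l.n = N) (hs : ∀ x, ∃ i < N, pt i = x) : IsPretransitive G X :=
  (isPretransitive_iff_orbit_eq_univ _).mpr ((C.orb h).trans (Set.eq_univ_of_forall hs))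

theorem sub_map (e : G ≃* D) {n : ℕ} [IsSimpleGroup P] (h : ∃ φ : P →* G, Function.Injective φ) (c : Nat.card P = n) :
    ∃ K : Subgroup D, IsSimpleGroup K ∧ Nat.card K = n :=
  let ⟨φ, i⟩ := h
  let f := MonoidHom.ofInjective (f := e.toMonoidHom.comp φ) (e.injective.comp i)
  ⟨_, f.symm.isSimpleGroup, (Nat.card_congr f.toEquiv).symm.trans c⟩

end Cfsg.Agent.Ct
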