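import Cfsg.Agent.Lib.Cert.Md
import Cfsg.Agent.Lib.Fischer.Pr22
import Cfsg.Agent.Lib.Fischer.Pr23

/-! Labelled models of the presented Fischer groups. -/

set_option autoImplicit false

namespace Cfsg.Agent.Ct

open Cfsg.Agent.PC Cfsg.Agent.Fi Cfsg.Spor

theorem mdFD {G : Type*} [Group G] {D : Set G} {T : ℕ → ℕ → ℕ} {P : ℕ → ℕ} {N m : ℕ} {pt : ℕ → G} {B : List ℕ}
    (F : FD D T P N m pt) (h : Base pt B) (h' : ∀ b ∈ B, b < N) : Md (X := Cj G) pt N B (fun j => pt (P j)) T m :=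
  ⟨F.inj, h', fun a ha => h a fun b hb => mul_inv_eq_iff_eq_mul.mp (ha b hb), F.reps⟩

theorem ex22' : ∃ pt : ℕ → Fi22, ∃ D, T22 Fi22 D pt := let ⟨D, rt, h, _⟩ := P22.md.2; ⟨rt, D, h⟩
theorem ex23' : ∃ pt : ℕ → Fi23, ∃ D, T23 Fi23 D pt := let ⟨D, rt, h, _⟩ := P23.md.2; ⟨rt, D, h⟩
noncomputable def p22 : ℕ → Fi22 := ex22'.choose
noncomputable def p23 : ℕ → Fi23 := ex23'.choose
noncomputable def g22 (j : ℕ) : Fi22 := p22 (X22.P j)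
noncomputable def g23 (j : ℕ) : Fi23 := p23 (X23.P j)
noncomputable def c22 : ℕ → Cj Fi22 := p22
noncomputable def c23 : ℕ → Cj Fi23 := p23
theorem mf22 : Md c22 3510 X22.Bs g22 X22.T 16 := let ⟨_, h⟩ := ex22'.choose_spec; mdFD h.1 (X22.base h.1) X22.Bs_lt
theorem mf23 : Md c23 31671 X23.Bs g23 X23.T 16 := let ⟨_, h⟩ := ex23'.choose_spec; mdFD h.1 (X23.base h.1) X23.Bs_lt

end Cfsg.Agent.Ct
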