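import Cfsg.Agent.Lib.Cert.FiM
import Cfsg.Agent.Lib.Cert.Sch4

/-! The presentation of Fi22 as a list of relators. -/

set_option autoImplicit false

namespace Cfsg.Agent.Ct

open Cfsg.Agent.PC Cfsg.Agent.Fi Cfsg.Spor

theorem cx_of_rels {Γ : Type*} [Group Γ] {u : ℕ → Γ} {n : ℕ} {L : ℕ → ℕ → ℕ} {rels : List (List ℕ)}
    (h1 : InvOK u (fun j => j) n) (h2 : ∀ w ∈ rels, ev u w = 1)
    (h : ∀ a < n, ∀ b < a, wpow [a, b] (L a b) ∈ rels ∧ L a b = L b a) : Cx u n L := fun a ha =>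
  ⟨mul_eq_one_iff_eq_inv.mpr (h1 a ha).2, fun b hb e => (Nat.lt_or_gt_of_ne e).elim
    (fun t => by simpa [ev_wpow, (h b hb a t).2] using h2 _ (h b hb a t).1) fun t => by
    have := h2 _ (h a ha b t).1
    simp only [ev_wpow, ev_cons, ev_nil, one_mul] at this
    rw [show u a * u b = u a * (u b * u a) * (u a)⁻¹ by group, conj_pow, this, mul_one, mul_inv_cancel]⟩

def ex22 : List (List ℕ) := [wpow [7, 4, 2, 5, 3, 2, 0, 1, 2] 10, wpow [4, 5, 3, 2, 1, 0, 8] 9, wpow [4, 6, 5, 3, 2, 1, 0] 9]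
def rels22 : List (List ℕ) := ((List.range 9).flatMap fun a => (List.range a).map fun b => wpow [a, b] (LY a b)) ++ ex22

theorem rl22 : ∀ w ∈ rels22, ev P22.α w = 1 := P22.cx.rels (ex := ex22)
  (by simp only [ex22, List.forall_mem_cons, ev_wpow]; exact ⟨P22.r1, P22.r2, P22.r3, by simp⟩) (by decide +kernel)

theorem ub22 : Ub (fun j => j) rels22 9 (Nat.card Fi22) := fun _ _ u h1 h2 => by
  have c : Cx u 9 LY := cx_of_rels h1 h2 (by decide +kernel)
  have k : ∀ w n, wpow w n ∈ rels22 → ev u w ^ n = 1 := fun w n h => ev_wpow u w n ▸ h2 _ h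
  rw [P22.card]
  exact (le_A8 (cx_mono c (by omega)) (k _ _ (by decide +kernel)) (k _ _ (by decide +kernel))).of_relIndex
    (le_A9 c (k _ _ (by decide +kernel)) (k _ _ (by decide +kernel)) (k _ _ (by decide +kernel)))

def sg22 (j : ℕ) : ℕ := [9, 1, 2, 3, 6, 4, 5, 7, 0].getD j 0

theorem eq22 {u v : List ℕ} (h : eqE (fun j => C22.T (sg22 j)) X22.Bs 9 u v = 0) : ev P22.α u = ev P22.α v := by
  obtain ⟨D, rt, h1, h2, h3, -⟩ := P22.md.2
  have M := mdFD h2 (X22.base h1.1) X22.Bs_lt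
  refine Md.eq (X := Cj Fi22) ⟨M.inj, M.lt, M.base, fun j hj => ?_⟩ h
  have e : sg22 j < 10 ∧ P22.α j = P22.γ (sg22 j) := by interval_cases j <;> exact ⟨by decide, rfl⟩
  rw [e.2, ← h3 _ e.1]
  exact M.reps _ e.1

end Cfsg.Agent.Ct
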