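import Cfsg.Agent.Lib.Cert.Lin5

/-! Counting fixed points. -/

set_option autoImplicit false
set_option linter.unusedSectionVars false

namespace Cfsg.Agent.Ct

open Cfsg.Agent.PC Cfsg.Agent.Fi MulAction Subgroup

variable {G : Type*} [Group G]

theorem burn (L : Subgroup G) [Finite L] (Ω : Type*) [Fintype Ω] [MulAction G Ω] {f : ℕ}
    (h : ∀ a ∈ L, a ≠ 1 → Nat.card (fixedBy Ω a) = f) :
    Fintype.card Ω + (Nat.card L - 1) * f = Nat.card (orbitRel.Quotient L Ω) * Nat.card L := by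
  classical
  have := Fintype.ofFinite L
  have : ∀ g : L, Fintype (fixedBy Ω g) := fun _ => Fintype.ofFinite _
  have := Fintype.ofFinite (orbitRel.Quotient L Ω)
  rw [Nat.card_eq_fintype_card, Nat.card_eq_fintype_card, ← sum_card_fixedBy_eq_card_orbits_mul_card_group,
    ← Finset.add_sum_erase _ _ (Finset.mem_univ 1), Finset.sum_congr rfl (f := fun a : L => Fintype.card (fixedBy Ω a)) (g := fun _ => f) fun a ha =>
      Nat.card_eq_fintype_card.symm.trans (h a a.2 fun e => (Finset.mem_erase.mp ha).1 (Subtype.ext e))]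
  simp

theorem fix_conj (Ω : Type*) [MulAction G Ω] (k y : G) : Nat.card (fixedBy Ω (k * y * k⁻¹)) = Nat.card (fixedBy Ω y) := by
  rw [← smul_fixedBy]; exact Set.natCard_smul_set _ _

theorem fix_prime (Ω : Type*) [MulAction G Ω] {y : G} {p : ℕ} (hp : p.Prime) (h : y ^ p = 1) {a : G} (ha : a ∈ zpowers y) (h1 : a ≠ 1) :
    fixedBy Ω a = fixedBy Ω y := by
  have := Fact.mk hp
  have h2 : y ≠ 1 := fun e => h1 (by simpa [e] using ha)
  have h3 : Nat.card (zpowers y) = p := (Nat.card_zpowers y).trans (orderOf_eq_prime h h2)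
  obtain ⟨n, hn⟩ := mem_zpowers_iff.mp (mem_zpowers_of_prime_card h3 (g := ⟨a, ha⟩) (g' := ⟨y, mem_zpowers y⟩) fun e => h1 (congrArg Subtype.val e))
  obtain ⟨l, rfl⟩ := mem_zpowers_iff.mp ha
  refine le_antisymm ?_ (fixedBy_subset_fixedBy_zpow Ω y l)
  conv_rhs => rw [← show (y ^ l) ^ n = y from congrArg Subtype.val hn]
  exact fixedBy_subset_fixedBy_zpow Ω _ n

theorem burn_prime (Ω : Type*) [Fintype Ω] [MulAction G Ω] {y : G} {p : ℕ} (hp : p.Prime) (h : y ^ p = 1 ∧ y ≠ 1) :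
    Fintype.card Ω + (p - 1) * Nat.card (fixedBy Ω y) = Nat.card (orbitRel.Quotient (zpowers y) Ω) * p := by
  have := Fact.mk hp
  have h3 : Nat.card (zpowers y) = p := (Nat.card_zpowers y).trans (orderOf_eq_prime h.1 h.2)
  have := Nat.finite_of_card_ne_zero (h3 ▸ hp.ne_zero)
  exact h3 ▸ burn (zpowers y) Ω fun a ha h1 => by rw [fix_prime Ω (h3 ▸ hp) (h3 ▸ h.1) ha h1]

theorem orb_pair (Ω : Type*) [Fintype Ω] [MulAction G Ω] [IsPretransitive G Ω] {a b : G} (h : closure {a, b} = ⊤) :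
    Nat.card (orbitRel.Quotient (zpowers a) Ω) + Nat.card (orbitRel.Quotient (zpowers b) Ω) ≤ Fintype.card Ω + 1 := by
  classical
  let U := fun a : G => LinearMap.range (LinearMap.funLeft ℚ ℚ (Quotient.mk'' : Ω → orbitRel.Quotient (zpowers a) Ω))
  have h1 : ∀ a, Module.finrank ℚ (U a) = Nat.card (orbitRel.Quotient (zpowers a) Ω) := fun a => by
    have := Fintype.ofFinite (orbitRel.Quotient (zpowers a) Ω)
    rw [LinearMap.finrank_range_of_inj (LinearMap.funLeft_injective_of_surjective _ _ _ Quotient.mk''_surjective),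
      Module.finrank_fintype_fun_eq_card, Nat.card_eq_fintype_card]
  have h2 : ∀ a, ∀ φ ∈ U a, ∀ c, φ (a • c) = φ c := by
    rintro a _ ⟨ψ, rfl⟩ c
    exact congrArg ψ (Quotient.sound' ⟨⟨a, mem_zpowers a⟩, rfl⟩)
  have h3 : U a ⊓ U b ≤ ℚ ∙ (1 : Ω → ℚ) := fun φ hφ => by
    have k : ∀ g : G, ∀ c, φ (g • c) = φ c := fun g => by
      refine closure_induction (p := fun g _ => ∀ c, φ (g • c) = φ c) ?_ (by simp) (fun x y _ _ s t c => by rw [mul_smul, s, t])
        (fun x _ s c => by rw [← s, smul_inv_smul]) (h.ge (mem_top g))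
      rintro _ (rfl | rfl)
      exacts [h2 _ _ hφ.1, h2 _ _ hφ.2]
    rcases isEmpty_or_nonempty Ω with _ | ⟨⟨c⟩⟩
    · rw [Subsingleton.elim φ 0]; exact zero_mem _
    · refine Submodule.mem_span_singleton.mpr ⟨φ c, funext fun d => ?_⟩
      obtain ⟨g, rfl⟩ := exists_smul_eq G c d
      simp [k]
  have h4 := (Submodule.finrank_mono h3).trans (finrank_span_le_card _)
  have h5 := (U a ⊔ U b).finrank_le
  rw [← h1, ← h1, ← Submodule.finrank_sup_add_finrank_inf_eq]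
  rw [Module.finrank_fintype_fun_eq_card] at h5
  simp only [Set.toFinset_singleton, Finset.card_singleton] at h4
  omega

set_option maxRecDepth 100000 in
theorem tits_no2 (card : Nat.card G = 17971200) {y b x : G} (gn : closure {y, b} = ⊤) (oy : y ^ 3 = 1 ∧ y ≠ 1) (ob : b ^ 5 = 1 ∧ b ≠ 1)
    (ox : x ^ 13 = 1 ∧ x ≠ 1) (yx : y * x = x ^ 3 * y) {Ω : Type*} [Fintype Ω] [MulAction G Ω] [FaithfulSMul G Ω] (h : 3 ≤ Fintype.card Ω)
    (f3 : 27 ∣ Fintype.card Ω + 26 * Nat.card (fixedBy Ω y)) (f5 : 25 ∣ Fintype.card Ω + 24 * Nat.card (fixedBy Ω b)) :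
    ¬ IsMultiplyPretransitive G Ω 2 := fun t => by
  classical
  have := isPretransitive_of_is_two_pretransitive (h2 := t)
  have lt : ∀ a : G, a ≠ 1 → Nat.card (fixedBy Ω a) < Fintype.card Ω := fun a ha => by
    rw [← Nat.card_eq_fintype_card, ← Set.ncard_univ Ω]
    exact Set.ncard_lt_ncard (Set.ssubset_univ_iff.mpr (mt fixedBy_eq_univ_iff_eq_one.mp ha)) (Set.finite_univ (α := Ω))
  obtain ⟨e⟩ : Nonempty (Fin 2 ↪ Ω) := Function.Embedding.nonempty_of_card_le (by simp; omega)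
  have h1 := (stabilizer G e).index_dvd_card
  rw [index_stabilizer_of_transitive, Nat.card_eq_fintype_card, Fintype.card_embedding_eq, Fintype.card_fin, card] at h1
  have h2 := lt y oy.2
  have h3 := lt b ob.2
  have h4 := lt x ox.2
  have h5 := burn_prime Ω (by norm_num) oy
  have h6 := burn_prime Ω (by norm_num) ob
  have h7 := burn_prime Ω (by norm_num) ox
  have h8 := orb_pair Ω gn
  have h9 : Nat.card (fixedBy Ω x) % 3 ≠ 0 → Nat.card (fixedBy Ω y) ≠ 0 := fun s => by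
    have := Fact.mk Nat.prime_three
    have k : ∀ c, c ∈ fixedBy Ω x → y⁻¹ • c ∈ fixedBy Ω x := fun c hc => by
      rw [mem_fixedBy, smul_smul, show x * y⁻¹ = y⁻¹ * x ^ 3 by rw [eq_inv_mul_iff_mul_eq, ← mul_assoc, yx, mul_inv_cancel_right], mul_smul,
        show x ^ 3 • c = c from (stabilizer G c).pow_mem hc 3]
    obtain ⟨c, hc⟩ := Equiv.Perm.exists_fixed_point_of_prime (p := 3) (n := 1) (α := fixedBy Ω x)
      (by rw [← Nat.card_eq_fintype_card]; omega) (σ := (toPerm y).subtypePerm fun c => ⟨fun s => by simpa using k _ s, fun s => by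
        have := k _ (k _ s)
        rwa [smul_smul, show y⁻¹ * y⁻¹ = y by rw [← mul_inv_rev, inv_eq_iff_mul_eq_one, ← pow_three', oy.1]] at this⟩)
      (by ext c; simp [← smul_smul, ← toPermHom_apply, ← map_pow, oy.1])
    exact Nat.card_ne_zero.mpr ⟨⟨⟨c, congrArg Subtype.val hc⟩⟩, inferInstance⟩
  have h0 : Fintype.card Ω = 65 → ∀ a : G, a ^ 13 = 1 → ∀ d : Ω, a • d = d → a = 1 := fun s a e6 d e3 => by
    have e4 := (stabilizer G d).index_mul_card
    rw [index_stabilizer_of_transitive, Nat.card_eq_fintype_card, s, card] at e4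
    have e5 := (stabilizer G d).orderOf_dvd_natCard e3
    rw [show Nat.card (stabilizer G d) = 276480 by omega] at e5
    exact orderOf_eq_one_iff.mp (Nat.eq_one_of_dvd_coprimes (by norm_num : Nat.Coprime 276480 13) e5 (orderOf_dvd_of_pow_eq_one e6))
  have h12 : Fintype.card Ω = 65 → Nat.card (fixedBy Ω x) = 0 := fun s =>
    Nat.card_eq_zero.mpr (.inl ⟨fun c => ox.2 (h0 s x ox.1 c c.2)⟩)
  have h10 : Fintype.card Ω = 65 → Nat.card (fixedBy Ω y) ≤ Nat.card (orbitRel.Quotient (zpowers x) Ω) := fun s => by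
    refine Nat.card_le_card_of_injective (fun c => Quotient.mk'' c.1) fun c d e => Subtype.ext ?_
    obtain ⟨⟨_, k, rfl⟩, e⟩ := Quotient.exact' e
    have e1 : x ^ k • d.1 = c.1 := e
    have e2 : (x ^ k) ^ 3 • d.1 = c.1 := by
      rw [← c.2.out, ← e1, smul_smul, show y * x ^ k = (x ^ k) ^ 3 * y by
        rw [← mul_inv_eq_iff_eq_mul, ← conj_zpow, mul_inv_eq_of_eq_mul yx, ← zpow_natCast, ← zpow_natCast, zpow_comm], mul_smul, d.2.out]
    have e6 : (x ^ k) ^ 13 = 1 := by rw [← zpow_natCast, zpow_comm, zpow_natCast, ox.1, one_zpow]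
    have e7 := h0 s ((x ^ k) ^ 2) (by rw [← pow_mul, mul_comm, pow_mul, e6, one_pow]) d.1 (by
      rw [← smul_left_cancel_iff (x ^ k), smul_smul, ← pow_succ', e2, e1])
    rw [show 13 = 2 * 6 + 1 from rfl, pow_succ, pow_mul, e7, one_pow, one_mul] at e6
    rw [← e1, e6, one_smul]
  generalize Fintype.card Ω = n at *
  have h11 : n < 4300 := by
    have := Nat.le_of_dvd (by norm_num) h1
    rw [Nat.descFactorial_succ, Nat.descFactorial_one] at this
    by_contra s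
    have : 4299 * 4300 ≤ (n - 1) * n := Nat.mul_le_mul (by omega) (by omega)
    omega
  rcases (by decide +kernel : ∀ n < 4300, n.descFactorial 2 ∣ 17971200 → n < 27 ∨ n = 27 ∨ n = 40 ∨ n = 65) n h11 h1 with s | s | s | s
  · omega
  · omega
  · omega
  · have := h10 s; have := h12 s; omega

variable {X : Type*} [MulAction G X] {pt : ℕ → X} {N m : ℕ} {B : List ℕ} {g q : ℕ → G} {T Q : ℕ → ℕ → ℕ} [Finite G]

/-- the element number `c` is conjugate to the letter `y` -/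
noncomputable def cjE (Q : ℕ → ℕ → ℕ) (B : List ℕ) (m p r y : ℕ) (K : ℕ → List ℕ) (c : ℕ) : ℕ :=
  Nat.mul c (Nat.add (lettE m (K c)) (agF B (fun x => force (Q y x) (trF Q (K c))) fun x => force (trF Q (K c) x) (trp Q p r (nat_lit 0) c)))

theorem Md.cj (M : Md pt N B q Q m) {p r y : ℕ} {R K : ℕ → List ℕ} (S : Sy q p r R) (hp : p.Prime) (h0 : r ≤ m ∧ y < m)
    (h : ∀ c < p ^ r, cjE Q B m p r y K c = 0) : ∀ a ∈ gen q r, a ≠ 1 → ∃ k, k * q y * k⁻¹ = a := fun a ha h1 => by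
  obtain ⟨c, hc, rfl⟩ := S.nf hp.pos le_rfl ha
  rcases mul_eq_zero' (h c hc) with e | e
  · exact absurd (e ▸ evp_zero q p r 0) h1
  obtain ⟨e1, e2⟩ := add_eq_zero' e
  exact ⟨_, mul_inv_eq_of_eq_mul ((M.eqF ((M.rw e1).mul (M.reps y h0.2)) ((rep_evp M.reps p r 0 c (by omega)).mul (M.rw e1))).mp e2)⟩

theorem Md.fix (M : Md pt N B q Q m) {p r y : ℕ} {R K : ℕ → List ℕ} (S : Sy q p r R) (hp : p.Prime) (h0 : r ≤ m ∧ y < m)
    (h : ∀ c < p ^ r, cjE Q B m p r y K c = 0) (Ω : Type*) [Fintype Ω] [MulAction G Ω] :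
    p ^ r ∣ Fintype.card Ω + (p ^ r - 1) * Nat.card (fixedBy Ω (q y)) := by
  have := burn (gen q r) Ω (f := Nat.card (fixedBy Ω (q y))) fun a ha h1 => by
    obtain ⟨k, rfl⟩ := M.cj S hp h0 h a ha h1
    exact fix_conj Ω _ _
  rw [S.card hp le_rfl] at this
  exact this ▸ dvd_mul_left _ _

theorem Md.pair (M : Md pt N B q Q m) {m0 : ℕ} (top : gen g m0 = ⊤) {a b o : ℕ} {V : ℕ → List ℕ} (h0 : ∀ j < m0, q (o + j) = g j)
    (h : ∀ j < m0, Nat.add (allE (fun i => memE i [a, b]) (V j)) (eqE Q B m (V j) [o + j]) = 0) : closure {q a, q b} = ⊤ := by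
  refine eq_top_iff.mpr (top ▸ gen_le fun j hj => ?_)
  obtain ⟨h1, h2⟩ := add_eq_zero' (h j hj)
  rw [← h0 j hj, ← one_mul (q (o + j)), ← show _ = 1 * q (o + j) from M.eq h2]
  have : ∀ w : List ℕ, (∀ i ∈ w, i ∈ [a, b]) → ev q w ∈ closure {q a, q b} := fun w => by
    induction w with
    | nil => exact fun _ => one_mem _
    | cons i w ih =>
      intro hw
      refine mul_mem (ih fun i hi => hw i (List.mem_cons_of_mem _ hi)) (subset_closure ?_)
      rcases List.mem_pair.mp (hw i List.mem_cons_self) with rfl | rfl <;> simp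
  exact this _ fun i hi => memE_zero (allE_zero h1 i hi)

/-- the square of the element number `o + c` moves the point `Z c` -/
noncomputable def sqE (Q : ℕ → ℕ → ℕ) (N r o : ℕ) (Z : ℕ → ℕ) (c : ℕ) : ℕ :=
  force (Z c) fun b => force (Nat.add o c) fun c' =>
    Nat.add (ltE b N) (eqI (force (trp Q (nat_lit 2) r (nat_lit 0) c' b) (trp Q (nat_lit 2) r (nat_lit 0) c')) b)

theorem Md.sq (M : Md pt N B q Q m) {r : ℕ} {R : ℕ → List ℕ} (S : Sy q 2 (r + 1) R) (hr : r + 1 ≤ m) {Z : ℕ → ℕ}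
    (h : ∀ c < 2 ^ r, sqE Q N (r + 1) (2 ^ r) Z c = 0) {L : Subgroup G} [hn : L.Normal] (hL : gen q r ≤ L) {t : G} (ht : t ^ 2 = 1) : t ∈ L := by
  obtain ⟨k, -, hk⟩ := S.into (L := ⊤) (P := zpowers t) le_top le_top (by
    rw [IsPGroup.iff_card, Nat.card_zpowers]
    rcases (Nat.dvd_prime Nat.prime_two).mp (orderOf_dvd_of_pow_eq_one ht) with e | e
    exacts [⟨0, e⟩, ⟨1, e⟩])
  obtain ⟨c, hc, e⟩ := S.nf two_pos le_rfl (hk t (mem_zpowers t))
  by_cases s : c < 2 ^ r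
  · have := hn.conj_mem _ (e ▸ hL (zero_add r ▸ evp_lt q two_pos (r + 1) r 0 c s)) k⁻¹
    simpa [mul_assoc] using this
  obtain ⟨c, rfl⟩ := Nat.exists_eq_add_of_le (not_lt.mp s)
  obtain ⟨e4, e5⟩ := add_eq_zero' (h c (by omega))
  have r0 := rep_evp M.reps 2 (r + 1) 0 (2 ^ r + c) (by omega)
  have r1 := r0.mul r0 _ (ltE_zero e4)
  rw [← e, show k * t * k⁻¹ * (k * t * k⁻¹) = 1 by rw [← pow_two, conj_pow, ht]; simp, one_smul] at r1
  exact absurd ((eqI_eq _ _).symm.trans e5) (by rw [if_pos (by exact M.inj _ r1.1 _ (ltE_zero e4) r1.2.symm)]; exact one_ne_zero)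

end Cfsg.Agent.Ct
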