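import Cfsg.Agent.Lib.Cert.Md
import Cfsg.Agent.Lib.Fusion.SimpleC

/-! Simplicity of 2-fusion systems from the local data at a 2-central involution. -/

set_option autoImplicit false
set_option linter.unusedSectionVars false

namespace Cfsg.Agent.Ct

open Cfsg.Agent.PC Cfsg.Agent.Fi Cfsg.Agent.Fusion MulAction Subgroup

variable {G X : Type*} [Group G] [MulAction G X] {pt : ℕ → X} {N m : ℕ} {B : List ℕ} {q : ℕ → G} {Q : ℕ → ℕ → ℕ}
  [Finite G] {s r t : ℕ} {R : ℕ → List ℕ}

/-- the word `Y (i + 1)` is conjugate to a product of two earlier ones -/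
noncomputable def stE (Q : ℕ → ℕ → ℕ) (B : List ℕ) (m r : ℕ) (Y St : ℕ → List ℕ) (i : ℕ) : ℕ :=
  List.rec (nat_lit 1) (fun a l _ => List.rec (nat_lit 1) (fun b h _ => force (Nat.add i (nat_lit 1)) fun i' =>
    Nat.add (Nat.add (Nat.add (ltE a i') (ltE b i')) (Nat.add (lettE r (Y i')) (lettE m h)))
      (eqE Q B m (Y b ++ (Y a ++ h)) (h ++ Y i'))) l) (St i)

theorem Md.scl (M : Md pt N B q Q m) {Y St : ℕ → List ℕ} {F : ℕ → ℕ} {n : ℕ}
    (h : Nat.beq (Nat.add (Nat.add (listE (Y (nat_lit 0)) [nat_lit 0]) (upTo (stE Q B m r Y St) n))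
      (upTo (fun j => Nat.add (listE (Y (F j)) [j]) (Nat.sub (F j) n)) r)) (nat_lit 0) = true)
    (T : Subgroup G) (hT : T ≤ gen q r) (h1 : SCl (gen q r) T) (h2 : q 0 ∈ T) : gen q r ≤ T := by
  obtain ⟨t1, t3⟩ := add_eq_zero' (Nat.eq_of_beq_eq_true h)
  obtain ⟨t1, t2⟩ := add_eq_zero' t1
  have k : ∀ i ≤ n, ev q (Y i) ∈ T := fun i => by
    induction i using Nat.strong_induction_on with
    | _ i ih =>
      intro hi
      rcases i with _ | i
      · rw [show Y 0 = [0] from listE_zero t1]; simpa using h2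
      have e := upTo_zero t2 i hi
      unfold stE at e
      rcases hs : St i with _ | ⟨a, _ | ⟨b, w⟩⟩ <;> rw [hs] at e
      · cases e
      · cases e
      obtain ⟨e1, e2⟩ := add_eq_zero' e
      obtain ⟨e1, e3⟩ := add_eq_zero' e1
      have a1 := ltE_zero (add_eq_zero' e1).1
      have b1 := ltE_zero (add_eq_zero' e1).2
      have e4 := M.eq e2
      rw [ev_append, ev_append, ev_append, mul_assoc] at e4
      have e5 := h1 _ (mul_mem (ih a a1 (a1.le.trans hi)) (ih b b1 (b1.le.trans hi))) (ev q w)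
      rw [e4, mul_inv_cancel_right] at e5
      exact e5 (ev_mem_gen q (lettE_zero (add_eq_zero' e3).1))
  refine gen_le fun j hj => ?_
  obtain ⟨e1, e2⟩ := add_eq_zero' (upTo_zero t3 j hj)
  simpa [listE_zero e1] using k _ (sub_eq_zero' e2)

theorem Loc.sylowIn (L : Loc q s r t R) : SylowIn 2 (gen q r) ⊤ :=
  sylowIn_of_not_dvd_relIndex le_top (L.pg le_rfl) (by rw [relIndex_top_right]; exact L.index Nat.prime_two)

theorem Loc.nS (L : Loc q s r t R) : normalizer (gen q r : Set G) ≤ gen q t := fun g hg => by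
  have z0 := mem_gen q (L.s0.trans_le L.sr)
  have n := mem_normalizer_iff.mp hg
  rw [← L.cen, mem_centralizer_singleton_iff]
  refine conj_eq_iff.mp ((L.ctr _ ((n _).mp z0) fun j hj => ?_).resolve_left fun e => L.z1 (by simpa using e))
  have := mem_centralizer_singleton_iff.mp (L.cen ▸ gen_mono q L.rt ((n (g⁻¹ * q j * g)).mpr
    (by simpa [mul_assoc] using mem_gen q hj)))
  show _ * _ = _ * _
  calc _ = g * (q 0 * (g⁻¹ * q j * g)) * g⁻¹ := by group
    _ = _ := by rw [← this]; group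

theorem Md.fus (M : Md pt N B q Q m) (L : Loc q s r t R) (tm : t ≤ m)
    (h : Nat.beq (upTo (fun j => agF B (itF (Q j) (nat_lit 16)) fun x => x) t) (nat_lit 0) = true)
    (hT : ∀ T ≤ gen q r, SCl (gen q r) T → q 0 ∈ T → gen q r ≤ T) {K : Type*} [Group K] (e : G ≃* K) (S : Sylow 2 K) :
    (groupFusionSystem (S : Subgroup K)).IsSimple 2 :=
  simple_of_equiv e L.sylowIn (simple_of_cert L.sylowIn (mem_gen q (L.s0.trans_le L.sr)) L.z1
    (fun x hx x1 _ c => ⟨1, by
      rw [pow_one, (L.ctr x hx fun j hj => (c _ (mem_gen q hj)).symm).resolve_left x1]⟩) hT (gen_mono q L.sr)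
    (fun _ hc ⟨_, hk⟩ => L.cC hc hk) (L.nS.trans (gen_le fun j hj => subset_closure ⟨L.nrm (mem_gen q hj), 4,
      (M.eqF ((M.reps j (hj.trans_le tm)).itF _) Rep.one).mp (upTo_beq h j hj)⟩))) S

end Cfsg.Agent.Ct
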