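import Cfsg.Agent.Lib.Cert.Lin

/-! Multipliers that are not cyclic. -/

set_option autoImplicit false
set_option linter.unusedSectionVars false

namespace Cfsg.Agent.Ct

open Cfsg.Agent.PC Cfsg.Agent.Fi Cfsg.Agent.Schur Subgroup commutatorElement

universe u

variable {G E : Type} [Group G] [Finite G] [Group E] {g : ℕ → G} {inv : ℕ → ℕ} {rels : List (List ℕ)} {m : ℕ}

/-- the relators are central -/
def Mono (inv : ℕ → ℕ) (rels : List (List ℕ)) (m : ℕ) (e : ℕ → E) : Prop :=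
  (∀ w ∈ rels, ∀ j < m, Commute (ev e w) (e j)) ∧ ∀ i < m, ∀ j < m, Commute (ev e [i, inv i]) (e j)

theorem Mono.prod {E' : Type} [Group E'] {e : ℕ → E} {e' : ℕ → E'} (h : Mono inv rels m e) (h' : Mono inv rels m e') :
    Mono inv rels m fun j => (e j, e' j) :=
  ⟨fun w hw j hj => by rw [ev_prod]; exact Prod.ext (h.1 w hw j hj) (h'.1 w hw j hj),
    fun i hi j hj => by rw [ev_prod]; exact Prod.ext (h.2 i hi j hj) (h'.2 i hi j hj)⟩

theorem mm_ub (top : gen g m = ⊤) (ub : Ub inv rels m (Nat.card G)) (hi : InvOK g inv m) (hr : ∀ w ∈ rels, ev g w = 1)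
    (hl : ∀ w ∈ rels, ∀ j ∈ w, j < m) {e : ℕ → E} (hc : Mono inv rels m e) :
    ∃ M : Subgroup E, (∃ f : SM G →* M, Function.Surjective f) ∧ ∀ u v : List ℕ, lettE m u = 0 ∧ lettE m v = 0 ∧
      ev g (u ++ v) = ev g (v ++ u) → ⁅ev e u, ev e v⁆ ∈ M := by
  let k : ℕ → G × E := fun j => (g j, e j)
  let X := gen k m
  let x : ℕ → X := PC.sub X k
  have tx : gen x m = ⊤ := gen_sub_top rfl
  have ex : ∀ w : List ℕ, (∀ j ∈ w, j < m) → ((ev x w : X) : G × E) = (ev g w, ev e w) := fun w hw =>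
    (ev_sub hw).trans (ev_prod _ _ _)
  let ξ : X →* G := (MonoidHom.fst G E).comp X.subtype
  let Z := center X ⊓ ξ.ker
  have hz : ∀ w : List ℕ, (∀ j ∈ w, j < m) → ev g w = 1 → (∀ j < m, Commute (ev e w) (e j)) →
      ev (fun j => QuotientGroup.mk' Z (x j)) w = 1 := fun w hw h h' => by
    rw [← ev_map]
    refine (QuotientGroup.eq_one_iff _).mpr ⟨mem_center_iff.mpr fun y => ?_, (congrArg Prod.fst (ex w hw)).trans h⟩
    refine (mem_centralizer_singleton_iff.mp (gen_le (g := x) (m := m) (H := centralizer {ev x w}) (fun j hj =>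
      mem_centralizer_singleton_iff.mpr (Subtype.ext (Eq.symm ?_))) (tx ▸ mem_top y)))
    have := ex [j] (by simpa using hj)
    simp only [ev_cons, ev_nil, one_mul] at this
    rw [coe_mul, coe_mul, ex w hw, this, h]
    exact Prod.ext (by simp) (h' j hj)
  have hs : Function.Surjective ξ := MonoidHom.range_eq_top.mp (eq_top_iff.mpr (top ▸ gen_le fun j hj =>
    ⟨x j, congrArg Prod.fst (coe_sub (mem_gen k hj))⟩))
  obtain ⟨f1, f2⟩ := ub _ (fun j => QuotientGroup.mk' Z (x j)) (fun j hj => ⟨(hi j hj).1, eq_inv_of_mul_eq_one_left (by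
      simpa using hz [j, inv j] (by simp [hj, (hi j hj).1]) (by simp [(hi j hj).2]) (hc.2 j hj))⟩)
    fun w hw => hz w (hl w hw) (hr w hw) (hc.1 w hw)
  rw [← gen_map, tx, map_top_of_surjective _ (QuotientGroup.mk'_surjective Z)] at f1 f2
  rw [card_top] at f2
  have : Finite (X ⧸ Z) := .of_equiv _ topEquiv.toEquiv
  have hs' := QuotientGroup.lift_surjective_of_surjective Z ξ hs inf_le_right
  have hj := ((Nat.bijective_iff_surjective_and_card _).mpr ⟨hs', le_antisymm f2 (Nat.card_le_card_of_surjective _ hs')⟩).1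
  obtain ⟨f, hf⟩ := exists_mul_surj (ξ := ξ) ⟨hs, fun y hy => ((QuotientGroup.eq_one_iff y).mp
    ((injective_iff_map_eq_one _).mp hj y hy)).1⟩
  let σ := (MonoidHom.snd G E).comp X.subtype
  refine ⟨(MM ξ).map σ, ⟨(σ.subgroupMap _).comp f, (σ.subgroupMap_surjective _).comp hf⟩, fun u v ⟨hu, hv, h1⟩ =>
    ⟨⁅ev x u, ev x v⁆, ⟨?_, commutator_mem_commutator (mem_top _) (mem_top _)⟩, ?_⟩⟩
  · show ξ _ = 1
    rw [map_commutatorElement, commutatorElement_eq_one_iff_mul_comm]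
    rw [ev_append, ev_append] at h1
    rw [show ξ (ev x u) = ev g u from congrArg Prod.fst (ex u (lettE_zero hu)),
      show ξ (ev x v) = ev g v from congrArg Prod.fst (ex v (lettE_zero hv)), h1]
  · rw [map_commutatorElement, show σ (ev x u) = ev e u from congrArg Prod.snd (ex u (lettE_zero hu)),
      show σ (ev x v) = ev e v from congrArg Prod.snd (ex v (lettE_zero hv))]

/-- a projective action in which the commutators have known orders -/
def Cov (inv : ℕ → ℕ) (rels : List (List ℕ)) (m : ℕ) (U V : ℕ → List ℕ) (o : List ℕ) : Prop :=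
  ∃ (E : Type) (_ : Group E) (e : ℕ → E), Mono inv rels m e ∧ ∀ k < o.length, orderOf ⁅ev e (U k), ev e (V k)⁆ = o.getD k 0

theorem cov_of {inv' : ℕ → ℕ} {m' n N M : ℕ} {E : ℕ → ℕ → ℕ} (hM : M + 1 = n * N) (h1 : invlE inv' m' = 0)
    (h2 : ∀ c < M + 1, permE (mT E n) inv' (M + 1) m' c = 0) {ws : List (List ℕ × ℕ)} (h3 : ∀ x < N, scE E n ws x = 0)
    {U V : ℕ → List ℕ} {o : List ℕ} (a : ℕ → ℕ)
    (h4 : m ≤ m' ∧ 0 < n ∧ (∀ w ∈ ws, lettE m' w.1 = 0 ∧ w.2 < n) ∧ (∀ w ∈ rels, w ∈ ws.map Prod.fst) ∧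
      (∀ i < m, [i, inv i] ∈ ws.map Prod.fst) ∧ ∀ k < o.length, lettE m (U k) = 0 ∧ lettE m (V k) = 0 ∧
      (invw inv' (V k) ++ invw inv' (U k) ++ V k ++ U k, a k) ∈ ws ∧ n / n.gcd (a k) = o.getD k 0) : Cov inv rels m U V o := by
  obtain ⟨a1, a2, a3, a4, a5, a6⟩ := h4
  let L : Lab (Fin (M + 1)) (n * N) := hM ▸ finLab M
  obtain ⟨R, iv⟩ := L.reps_fam h1 (hM ▸ h2)
  have k : ∀ w ∈ ws.map Prod.fst, ∀ j < m, Commute (ev (L.fam (mT E n) inv') w) (L.fam (mT E n) inv' j) := fun w hw j hj => by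
    obtain ⟨w, hw', rfl⟩ := List.mem_map.mp hw
    exact sc_comm L R h3 hw' (a3 w hw') j (by omega)
  refine ⟨_, inferInstance, _, ⟨fun w hw => k w (a4 w hw), fun i hi => k _ (a5 i hi)⟩, fun k hk => ?_⟩
  obtain ⟨b1, b2, b3, b4⟩ := a6 k hk
  obtain ⟨b5, b6⟩ := a3 _ b3
  have N0 : 0 < N := Nat.pos_of_mul_pos_left (a := n) (by omega)
  have lt : ∀ x < N, ∀ i < n, n * x + i < n * N := fun x hx i hi => by
    have := Nat.mul_le_mul_left n (Nat.succ_le_of_lt hx)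
    rw [Nat.mul_succ] at this; omega
  have b7 : ∀ x < N, ∀ i < n, _ • L.pt (n * x + i) = L.pt (n * x + (a k + i) % n) := fun x hx i hi => by
    have := tr_mT E a2 _ x 0 i x _ a2 b6 (xor_eq_zero' (allE_zero (h3 x hx) _ b3))
    simp only [zero_add, Nat.mod_eq_of_lt hi, trF_eq] at this
    rw [← this]
    exact (R.ev (lettE_zero b5) _ (lt x hx i hi)).2
  have iw : ∀ w, lettE m w = 0 → _ := fun w h =>
    ev_invw (g := L.fam (mT E n) inv') (w := w) fun j hj => (iv j ((lettE_zero h j hj).trans_le a1)).2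
  simp only [ev_append, iw _ b1, iw _ b2, ← mul_assoc, ← commutatorElement_def] at b7
  generalize ⁅ev (L.fam (mT E n) inv') (U k), ev (L.fam (mT E n) inv') (V k)⁆ = z at b7
  have b8 : ∀ s, ∀ x < N, ∀ i < n, z ^ s • L.pt (n * x + i) = L.pt (n * x + (a k * s + i) % n) := fun s x hx i hi => by
    induction s with
    | zero => simp [Nat.mod_eq_of_lt hi]
    | succ s ih => rw [pow_succ', mul_smul, ih, b7 x hx _ (Nat.mod_lt _ a2), Nat.add_mod_mod, mul_add, mul_one, add_comm _ (a k), add_assoc]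
  have b9 : ∀ s, z ^ s = 1 ↔ n ∣ a k * s := fun s => ⟨fun h => by
    have := b8 s 0 N0 0 a2
    rw [h, one_smul] at this
    have := L.inj _ (lt 0 N0 0 a2) _ (lt 0 N0 _ (Nat.mod_lt _ a2)) this
    exact Nat.dvd_of_mod_eq_zero (by simpa using this.symm), fun ⟨t, ht⟩ => Equiv.ext fun y => by
    obtain ⟨c, hc, rfl⟩ := L.surj y
    have := b8 s _ (Nat.div_lt_of_lt_mul hc) _ (Nat.mod_lt c a2)
    rwa [ht, Nat.mul_add_mod, Nat.mod_mod, Nat.div_add_mod] at this⟩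
  rw [← b4]
  refine Nat.dvd_antisymm (orderOf_dvd_of_pow_eq_one ((b9 _).2 ?_)) ?_
  · rw [← Nat.mul_div_assoc _ (Nat.gcd_dvd_left _ _), mul_comm, Nat.mul_div_assoc _ (Nat.gcd_dvd_right _ _)]
    exact dvd_mul_right _ _
  · exact (Nat.div_dvd_iff_dvd_mul (Nat.gcd_dvd_left _ _) (Nat.gcd_pos_of_pos_left _ a2)).2
      (Nat.dvd_gcd_mul_iff_dvd_mul.2 ((b9 _).1 (pow_orderOf_eq_one z)))

theorem sm_dvd {G : Type u} [Group G] [Finite G] {N n : ℕ} (hN : Nat.card G = N) (l : List ℕ) (h2 : N ∣ l.prod ^ 64)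
    (h3 : ∀ p ∈ l, p.Prime ∧ (¬ p ^ 2 ∣ N ∨ ∃ k, p ^ k ∣ n ∧ NoK G (p ^ (k + 1)))) : Nat.card (SM G) ∣ n := by
  obtain ⟨Γ, i1, i2, σ, β, hc⟩ := exists_cover G
  obtain ⟨e⟩ := hc.equiv
  rw [Nat.card_congr e.toEquiv]
  refine (Nat.dvd_iff_prime_pow_dvd_dvd _ _).mpr fun p k hp hk => ?_
  rcases k with _ | k
  · simp
  have h6 := (dvd_pow_self p (Nat.succ_ne_zero k)).trans hk
  by_cases h7 : p ^ 2 ∣ Nat.card G
  · rw [hN] at h7
    obtain ⟨a, ha, h8⟩ := (Prime.dvd_prod_iff hp.prime).mp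
      (hp.dvd_of_dvd_pow (((dvd_pow_self p two_ne_zero).trans h7).trans h2))
    obtain ⟨h9, h10⟩ := h3 a ha
    obtain rfl := (Nat.prime_dvd_prime_iff_eq hp h9).mp h8
    obtain ⟨j, h11, h12⟩ := h10.resolve_left (not_not.mpr h7)
    exact (pow_dvd_pow p (Nat.le_of_not_lt fun h => h12 Γ σ hc.stem ((pow_dvd_pow p h).trans hk))).trans h11
  · exact absurd h6 (nop_cyc hc.stem hp h7)

theorem schur_emb {A : Type} [CommGroup A] [Finite A] {M : Subgroup E} (h : ∃ f : SM G →* M, Function.Surjective f) (ι : A →* E)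
    (hι : Function.Injective ι) (hM : ∀ a, ι a ∈ M) (hd : Nat.card (SM G) ∣ Nat.card A) : HasSchurMultiplier G A := by
  obtain ⟨f, hf⟩ := h
  have := Finite.of_surjective f hf
  have i : Function.Injective (ι.codRestrict M hM) := fun _ _ e => hι (congrArg Subtype.val e)
  have h1 := Nat.card_le_card_of_injective _ i
  have h2 := Nat.card_le_card_of_surjective _ hf
  have h3 := Nat.le_of_dvd Nat.card_pos hd
  exact hasSchur_iff.2 ⟨(MulEquiv.ofBijective f ((Nat.bijective_iff_surjective_and_card _).mpr ⟨hf, by omega⟩)).trans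
    (MulEquiv.ofBijective _ ((Nat.bijective_iff_injective_and_card _).mpr ⟨i, by omega⟩)).symm⟩

theorem zh (z : E) {n : ℕ} (h : orderOf z = n) : ∃ ι : Multiplicative (ZMod n) →* E, Function.Injective ι ∧ ∀ a, ∃ k : ℤ, z ^ k = ι a := by
  rw [← Nat.card_zpowers] at h
  subst h
  let e := zmodCyclicMulEquiv (G := zpowers z) inferInstance
  exact ⟨(zpowers z).subtype.comp e.toMonoidHom, Subtype.val_injective.comp e.injective, fun a => (e a).2⟩

variable (top : gen g m = ⊤) (ub : Ub inv rels m (Nat.card G)) (hi : InvOK g inv m) (hr : ∀ w ∈ rels, ev g w = 1)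
  (hl : ∀ w ∈ rels, ∀ j ∈ w, j < m) {U V : ℕ → List ℕ}
include top ub hi hr hl

theorem Cov.lok {n : ℕ} (c : Cov inv rels m U V [n])
    (h : lettE m (U 0) = 0 ∧ lettE m (V 0) = 0 ∧ ev g (U 0 ++ V 0) = ev g (V 0 ++ U 0)) : LoK G n := by
  obtain ⟨E, _, e, c1, c2⟩ := c
  exact lok_ub top ub hi hr hl c1.1 c1.2 ⟨lettE_zero h.1, lettE_zero h.2.1⟩ h.2.2 (c2 0 Nat.one_pos).symm.dvd

theorem schur2 {a b : ℕ} [NeZero a] [NeZero b] (c : Cov inv rels m U V [a, 1]) (c' : Cov inv rels m U V [1, b])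
    (h : ∀ k < 2, lettE m (U k) = 0 ∧ lettE m (V k) = 0 ∧ ev g (U k ++ V k) = ev g (V k ++ U k)) (hd : Nat.card (SM G) ∣ a * b) :
    HasSchurMultiplier G (Multiplicative (ZMod a × ZMod b)) := by
  obtain ⟨E, _, e, c1, c2⟩ := c
  obtain ⟨E', _, e', d1, d2⟩ := c'
  obtain ⟨M, h1, h2⟩ := mm_ub top ub hi hr hl (c1.prod d1)
  obtain ⟨ι, i1, i2⟩ := zh _ (n := a) (c2 0 (by simp))
  obtain ⟨κ, k1, k2⟩ := zh _ (n := b) (d2 1 (by simp))
  have m0 := h2 _ _ (h 0 (by omega))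
  have m1 := h2 _ _ (h 1 (by omega))
  rw [ev_prod, ev_prod, show ∀ x y : E × E', ⁅x, y⁆ = (⁅x.1, y.1⁆, ⁅x.2, y.2⁆) from fun _ _ => rfl] at m0 m1
  rw [orderOf_eq_one_iff.mp (d2 0 (by simp))] at m0
  rw [orderOf_eq_one_iff.mp (c2 1 (by simp))] at m1
  refine schur_emb h1 ((ι.prodMap κ).comp (MulEquiv.prodMultiplicative _ _).toMonoidHom)
    ((i1.prodMap k1).comp (MulEquiv.injective _)) (fun x => ?_) (by simpa using hd)
  obtain ⟨i, hi⟩ := i2 (MulEquiv.prodMultiplicative _ _ x).1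
  obtain ⟨j, hj⟩ := k2 (MulEquiv.prodMultiplicative _ _ x).2
  convert mul_mem (zpow_mem m0 i) (zpow_mem m1 j) using 1
  exact Prod.ext (by simpa using hi.symm) (by simpa using hj.symm)

theorem schur3 {a b d : ℕ} [NeZero a] [NeZero b] [NeZero d] (c : Cov inv rels m U V [a, 1, 1]) (c' : Cov inv rels m U V [1, b, 1])
    (c'' : Cov inv rels m U V [1, 1, d])
    (h : ∀ k < 3, lettE m (U k) = 0 ∧ lettE m (V k) = 0 ∧ ev g (U k ++ V k) = ev g (V k ++ U k)) (hd : Nat.card (SM G) ∣ a * (b * d)) :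
    HasSchurMultiplier G (Multiplicative (ZMod a × ZMod b × ZMod d)) := by
  obtain ⟨E, _, e, c1, c2⟩ := c
  obtain ⟨E', _, e', d1, d2⟩ := c'
  obtain ⟨E'', _, e'', f1, f2⟩ := c''
  obtain ⟨M, h1, h2⟩ := mm_ub top ub hi hr hl (c1.prod (d1.prod f1))
  obtain ⟨ι, i1, i2⟩ := zh _ (n := a) (c2 0 (by simp))
  obtain ⟨κ, k1, k2⟩ := zh _ (n := b) (d2 1 (by simp))
  obtain ⟨μ, l1, l2⟩ := zh _ (n := d) (f2 2 (by simp))
  have m0 := h2 _ _ (h 0 (by omega))
  have m1 := h2 _ _ (h 1 (by omega))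
  have m2 := h2 _ _ (h 2 (by omega))
  rw [ev_prod, ev_prod, ev_prod, ev_prod, show ∀ x y : E × E' × E'', ⁅x, y⁆ = (⁅x.1, y.1⁆, ⁅x.2.1, y.2.1⁆, ⁅x.2.2, y.2.2⁆) from
    fun _ _ => rfl] at m0 m1 m2
  rw [orderOf_eq_one_iff.mp (d2 0 (by simp)), orderOf_eq_one_iff.mp (f2 0 (by simp))] at m0
  rw [orderOf_eq_one_iff.mp (c2 1 (by simp)), orderOf_eq_one_iff.mp (f2 1 (by simp))] at m1
  rw [orderOf_eq_one_iff.mp (c2 2 (by simp)), orderOf_eq_one_iff.mp (d2 2 (by simp))] at m2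
  refine schur_emb h1 ((ι.prodMap ((κ.prodMap μ).comp (MulEquiv.prodMultiplicative _ _).toMonoidHom)).comp
    (MulEquiv.prodMultiplicative _ _).toMonoidHom) ((i1.prodMap ((k1.prodMap l1).comp (MulEquiv.injective _))).comp
    (MulEquiv.injective _)) (fun x => ?_) (by simpa using hd)
  obtain ⟨i, hi⟩ := i2 (.ofAdd x.toAdd.1)
  obtain ⟨j, hj⟩ := k2 (.ofAdd x.toAdd.2.1)
  obtain ⟨k, hk⟩ := l2 (.ofAdd x.toAdd.2.2)
  convert mul_mem (mul_mem (zpow_mem m0 i) (zpow_mem m1 j)) (zpow_mem m2 k) using 1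
  exact Prod.ext (by simpa using hi.symm) (Prod.ext (by simpa using hj.symm) (by simpa using hk.symm))

end Cfsg.Agent.Ct
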