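import Cfsg.Agent.Lib.Cert.Sch4

/-! New letters in a model. -/

set_option autoImplicit false

namespace Cfsg.Agent.Ct

open Cfsg.Agent.PC Cfsg.Agent.Fi Subgroup

variable {G X : Type*} [Group G] [MulAction G X] {pt : ℕ → X} {N m : ℕ} {B : List ℕ} {g q : ℕ → G} {T Q : ℕ → ℕ → ℕ}

theorem Md.topw {m0 : ℕ} (M0 : Md pt N B g T m0) (top : gen g m0 = ⊤) (M : Md pt N B q Q m) (V : ℕ → List ℕ)
    (h : lin (fun j => Nat.add (lettE m (V j)) (agF B (T j) (trF Q (V j)))) (nat_lit 0) m0 = 0) : gen q m = ⊤ :=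
  eq_top_iff.mpr (top ▸ gen_le fun j hj => by
    obtain ⟨h1, h2⟩ := add_eq_zero' (lin_zero h j hj)
    rw [(M.eqF (M0.reps j hj) (M.rw h1)).mp h2]
    exact ev_mem_gen q (lettE_zero h1))

theorem Md.inv (M : Md pt N B q Q m) {inv : ℕ → ℕ} (h : lin (fun j => eqE Q B m [j, inv j] []) (nat_lit 0) m = 0) :
    InvOK q inv m := fun j hj =>
  have t := lin_zero h j hj
  ⟨lettE_zero (add_eq_zero' (add_eq_zero' t).1).1 _ (by simp), eq_inv_of_mul_eq_one_left (by simpa using M.eq t)⟩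

theorem Md.rels (M : Md pt N B q Q m) {rels : List (List ℕ)} (h : allE (fun w => eqE Q B m w []) rels = 0) :
    ∀ w ∈ rels, ev q w = 1 := fun w hw => M.eq (allE_zero h w hw)

end Cfsg.Agent.Ct
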