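import Cfsg.Agent.Lib.Cert.Lin2
import Cfsg.Agent.Lib.Cert.Sch6
import Cfsg.Prelude.Def_Classical
import Cfsg.Prelude.Def_Sz

/-! Small fields and the classical groups over them. -/

set_option autoImplicit false
set_option linter.unusedSectionVars false

namespace Cfsg.Agent.Ct

open Cfsg.Agent.PC Cfsg.Agent.Fi Subgroup Matrix

/-- a field given by tables -/
def KF (n _A _M _c : ℕ) : Type := Fin (n + 1)

section
variable {n A M c : ℕ}
def kop (n T : ℕ) (x y : Fin (n + 1)) : Fin (n + 1) :=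
  Fin.ofNat (n + 1) (Nat.land (Nat.shiftRight T (Nat.mul (nat_lit 4) (Nat.add (Nat.mul (n + 1) x) y))) (nat_lit 15))
def kel (k : ℕ) : KF n A M c := Fin.ofNat (n + 1) k
instance : DecidableEq (KF n A M c) := inferInstanceAs (DecidableEq (Fin (n + 1)))
instance : Fintype (KF n A M c) := inferInstanceAs (Fintype (Fin (n + 1)))
instance : Add (KF n A M c) := ⟨kop n A⟩
instance : Mul (KF n A M c) := ⟨kop n M⟩
instance : Zero (KF n A M c) := ⟨kel 0⟩
instance : One (KF n A M c) := ⟨kel 1⟩
instance : Neg (KF n A M c) := ⟨fun x => kel c * x⟩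
instance : Inv (KF n A M c) := ⟨npowRec (n - 1)⟩
end

abbrev K4 : Type := KF 3 0x123103223013210 0x2130132032100000 1
instance : Field K4 := Field.ofMinimalAxioms _ (by decide +kernel) (by decide +kernel) (by decide +kernel) (by decide +kernel)
  (by decide +kernel) (by decide +kernel) (by decide +kernel) (by decide +kernel) (by decide +kernel) ⟨0, 1, by decide +kernel⟩
abbrev K8 : Type := KF 7 0x123456710325476230167453210765445670123547610326745230176543210 0x3461257042351760637241501526734021475630571364207654321000000000 1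
instance : Field K8 := Field.ofMinimalAxioms _ (by decide +kernel) (by decide +kernel) (by decide +kernel) (by decide +kernel)
  (by decide +kernel) (by decide +kernel) (by decide +kernel) (by decide +kernel) (by decide +kernel) ⟨0, 1, by decide +kernel⟩
abbrev K9 : Type := KF 8 0x435102768354021687543210876102768435021687354210876543768435102687354021876543210 0x615237480138624570582471360264318750327165840741852630453786120876543210000000000 2
instance : Field K9 := Field.ofMinimalAxioms _ (by decide +kernel) (by decide +kernel) (by decide +kernel) (by decide +kernel)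
  (by decide +kernel) (by decide +kernel) (by decide +kernel) (by decide +kernel) (by decide +kernel) ⟨0, 1, by decide +kernel⟩

theorem exK {K F : Type*} [Field K] [Fintype K] [Field F] [Fintype F] {q : ℕ} (h : Fintype.card K = q) (h' : Fintype.card F = q) :
    Nonempty (K →+* F) := ⟨(FiniteField.ringEquivOfCardEq (h.trans h'.symm)).toRingHom⟩

theorem schur_A {G A B : Type*} [Group G] [Finite G] [CommGroup A] [CommGroup B] (e : A ≃* B) (h : HasSchurMultiplier G A) :
    HasSchurMultiplier G B := Schur.hasSchur_iff.2 ⟨(Schur.hasSchur_iff.1 h).some.trans e⟩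

variable {ι R : Type} [Fintype ι] [DecidableEq ι] [CommRing R] {ix : ι → ℕ} {ω : R} {p e d m : ℕ} {M : ℕ → Matrix ι ι R}
  {C : ℕ → ℕ → ℕ} {F : Type*} [Field F] (f : R →+* F)

theorem Lm.unit (L : Lm ix ω p e d M C m) {a b : ℕ} (h : eqL p e d m C [b, a] [] = 0) : M a * M b = 1 := by
  simpa [evM] using L.eq h

open Classical in
/-- the letters as units -/
noncomputable def uL (M : ℕ → Matrix ι ι R) (n : ℕ → ℕ) (j : ℕ) : GL ι F := if h : M j * M (n j) = 1 then mkU f _ _ h else 1

theorem Lm.uL (L : Lm ix ω p e d M C m) {n : ℕ → ℕ} {j : ℕ} (h : eqL p e d m C [n j, j] [] = 0) :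
    (uL f M n j : Matrix ι ι F) = (M j).map f := by rw [Ct.uL, dif_pos (L.unit h)]; rfl

/-- the matrix of an element -/
abbrev mat (H : Subgroup (GL ι F)) : H →* Matrix ι ι F := (Units.coeHom _).comp H.subtype

theorem mat_inj (H : Subgroup (GL ι F)) : Function.Injective (mat H) := fun _ _ h => Subtype.ext (Units.ext h)

theorem Lm.let (L : Lm ix ω p e d M C m) {n : ℕ → ℕ} {m0 : ℕ} (hu : lin (fun j => eqL p e d m C [n j, j] []) (nat_lit 0) m0 = 0)
    {H : Subgroup (GL ι F)} (mem : ∀ j < m0, ∀ u : GL ι F, (u : Matrix ι ι F) = (M j).map f → u ∈ H) :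
    ∀ j < m0, mat H (PC.sub H (Ct.uL f M n) j) = (M j).map f := fun j hj =>
  have t := L.uL f (lin_zero hu j hj)
  (congrArg Units.val (coe_sub (mem j hj _ t))).trans t

variable {P : Type} [Group P] [Finite P] {g : ℕ → P} {inv : ℕ → ℕ} {rels : List (List ℕ)} {m0 : ℕ}

/-- the data of a simple group with a presentation -/
structure Pr (g : ℕ → P) (inv : ℕ → ℕ) (rels : List (List ℕ)) (m : ℕ) : Prop where
  si : IsSimpleGroup P
  c : center P = ⊥
  top : gen g m = ⊤
  ub : Ub inv rels m (Nat.card P)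
  hi : InvOK g inv m
  hr : ∀ w ∈ rels, ev g w = 1
  hl : ∀ w ∈ rels, ∀ j ∈ w, j < m

theorem Lm.emb [Finite F] (L : Lm ix ω p e d M C m) (Q : Pr g inv rels m0) {H : Subgroup (GL ι F)} {h : ℕ → H}
    (hh : ∀ j < m0, mat H (h j) = (M j).map f) (r0 : ι) {m1 : ℕ} (hs : ∀ s < m1, m0 ≤ s → M s = scalar ι (M s r0 r0))
    {ws : List (List ℕ × ℕ)}
    (hw : allE (fun w => Nat.add (Nat.add (lettE m0 w.1) (Nat.add (ltE w.2 m1) (Nat.sub m0 w.2))) (eqL p e d m C w.1 [w.2])) ws = 0)
    (i j : ℕ) (r c : ι) (h1 : (∀ w ∈ rels, w ∈ ws.map Prod.fst) ∧ (∀ j < m0, [j, inv j] ∈ ws.map Prod.fst) ∧ i < m0 ∧ j < m0 ∧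
      (M i * M j) r c = (M j * M i) r c + 1) {D : Type*} [Group D] {κ : D →* H} (hκ : Function.Injective κ)
    (hc : commutator H ≤ κ.range) : ∃ φ : P →* D ⧸ center D, Function.Injective φ :=
  have := Q.si
  have t := L.cen (mat_inj H) hh r0 hs ws hw
  emb_proj Q.c Q.top Q.ub Q.hi Q.hr Q.hl hκ hc (fun j hj => t _ (h1.2.1 j hj)) (fun w hw => t _ (h1.1 w hw)) h1.2.2.2.1
    (ncen (hh i h1.2.2.1) (hh j h1.2.2.2.1) r c h1.2.2.2.2)

variable {f}

theorem le_id {H : Type*} [Group H] : commutator H ≤ (MonoidHom.id H).range := fun x _ => ⟨x, rfl⟩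

/-- the symplectic group inside the general linear group -/
abbrev spU (l F : Type*) [Fintype l] [DecidableEq l] [Field F] : symplecticGroup l F →* GL (l ⊕ l) F :=
  (symplecticGroup l F).subtype.toHomUnits

theorem spU_inj {l : Type} [Fintype l] [DecidableEq l] : Function.Injective (spU l F).rangeRestrict :=
  fun _ _ h => Subtype.ext (congrArg (fun x : (spU l F).range => x.1.1) h)

theorem le_sp {l : Type} [Fintype l] [DecidableEq l] : commutator (spU l F).range ≤ (spU l F).rangeRestrict.range :=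
  fun x _ => (spU l F).rangeRestrict_surjective x

theorem mem_sp {l : Type} [Fintype l] [DecidableEq l] {A : Matrix (l ⊕ l) (l ⊕ l) R} (h : A * J l R * Aᵀ = J l R)
    (u : GL (l ⊕ l) F) (hu : (u : Matrix _ _ F) = A.map f) : u ∈ (spU l F).range :=
  ⟨⟨_, SymplecticGroup.map_mem (SymplecticGroup.mem_iff.2 h) f⟩, Units.ext hu.symm⟩

theorem mem_O {Q : (ι → F) → F} {A N S : Matrix ι ι R} (hQ : ∀ v, Q v = v ⬝ᵥ S.map f *ᵥ v) (h : Aᵀ * S * A + Nᵀ = S + N)
    (u : GL ι F) (hu : (u : Matrix _ _ F) = A.map f) : u ∈ isometryGroup F Q := fun v _ => by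
  have := congrArg (fun X : Matrix ι ι R => v ⬝ᵥ X.map f *ᵥ v) h
  simp only [Matrix.map_add _ (map_add f), Matrix.map_mul, transpose_map, add_mulVec, dotProduct_add, mulVec_transpose,
    ← mulVec_mulVec] at this
  rw [dotProduct_comm v (v ᵥ* _), ← dotProduct_mulVec, dotProduct_comm v (_ ᵥ* _), ← dotProduct_mulVec, dotProduct_comm (_ *ᵥ _)] at this
  show Q (u.1 *ᵥ v) = Q v
  rw [hQ, hQ, hu]
  exact add_right_cancel this

/-- the strictly upper triangular part -/
def upp (ix : ι → ℕ) (X : Matrix ι ι R) : Matrix ι ι R := of fun r c => if ix r < ix c then X r c else 0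

def qP (l : ℕ) (R : Type) [CommRing R] : Matrix (Fin l ⊕ Fin l) (Fin l ⊕ Fin l) R := fromBlocks 0 1 0 0
def qO (l : ℕ) (R : Type) [CommRing R] : Matrix (Unit ⊕ Fin l ⊕ Fin l) (Unit ⊕ Fin l ⊕ Fin l) R := fromBlocks 1 0 0 (qP l R)

theorem qP_eq {l : ℕ} (v : Fin l ⊕ Fin l → F) : quadFormPlus l F v = v ⬝ᵥ (qP l R).map f *ᵥ v := by
  simp [quadFormPlus, qP, fromBlocks_map, fromBlocks_mulVec, dotProduct]

theorem qO_eq {l : ℕ} (v : Unit ⊕ Fin l ⊕ Fin l → F) : quadFormOdd l F v = v ⬝ᵥ (qO l R).map f *ᵥ v := by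
  simp [quadFormOdd, qO, qP, fromBlocks_map, fromBlocks_mulVec, dotProduct, sq]

theorem le_sub {H : Type*} [Group H] : commutator H ≤ (commutator H).subtype.range := by rw [range_subtype]

theorem det_comm {H : Subgroup (GL ι F)} {x : H} (h : x ∈ commutator H) : (x.1 : Matrix ι ι F).det = 1 :=
  congrArg Units.val (Abelianization.commutator_subset_ker (GeneralLinearGroup.det.comp H.subtype) h)

/-- the special linear group inside the general linear group -/
abbrev slU (ι : Type) [Fintype ι] [DecidableEq ι] (F : Type*) [Field F] : SpecialLinearGroup ι F →* (⊤ : Subgroup (GL ι F)) :=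
  SpecialLinearGroup.toGL.codRestrict _ fun _ => mem_top _

theorem slU_inj : Function.Injective (slU ι F) := fun _ _ h => SpecialLinearGroup.toGL_injective (congrArg Subtype.val h)

theorem le_sl : commutator (⊤ : Subgroup (GL ι F)) ≤ (slU ι F).range := fun _ h => ⟨⟨_, det_comm h⟩, Subtype.ext (Units.ext rfl)⟩

/-- the general unitary group -/
abbrev GUn (n : ℕ) (F : Type*) [Field F] (q : ℕ) : Subgroup (GL (Fin n) F) := preserving (Units.coeHom _) (hermForm n F q)

/-- the special unitary group in it -/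
abbrev suU (n : ℕ) (F : Type*) [Field F] (q : ℕ) : SU n F q →* GUn n F q :=
  (SpecialLinearGroup.toGL.comp (SU n F q).subtype).codRestrict _ fun x => x.2

theorem suU_inj {n q : ℕ} : Function.Injective (suU n F q) :=
  fun _ _ h => Subtype.ext (SpecialLinearGroup.toGL_injective (congrArg Subtype.val h))

theorem le_su {n q : ℕ} : commutator (GUn n F q) ≤ (suU n F q).range :=
  fun x h => ⟨⟨⟨_, det_comm h⟩, x.2⟩, Subtype.ext (Units.ext rfl)⟩

theorem mem_U {n q : ℕ} (hq : q.Prime) (h0 : (q : R) = 0) {A : Matrix (Fin n) (Fin n) R} (h : Aᵀ * A.map (· ^ q) = 1)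
    (u : GL (Fin n) F) (hu : (u : Matrix _ _ F) = A.map f) : u ∈ GUn n F q := fun v w => by
  have := Fact.mk hq
  have : CharP F q := (CharP.charP_iff_prime_eq_zero hq).2 (by rw [← map_natCast f, h0, map_zero])
  have k : ∀ a b : Fin n → F, hermForm n F q a b = a ⬝ᵥ (frobenius F q ∘ b) := fun _ _ => rfl
  have t : (A.map f)ᵀ * (A.map f).map (frobenius F q) = 1 := by
    have := congrArg (fun X : Matrix _ _ R => X.map f) h
    simp only [Matrix.map_mul, transpose_map, Matrix.map_one _ (map_zero f) (map_one f)] at this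
    rw [← this]; congr 1; ext; simp [frobenius_def]
  show hermForm n F q (u.1 *ᵥ v) (u.1 *ᵥ w) = _
  rw [k, k, hu, show frobenius F q ∘ (A.map f *ᵥ w) = _ from funext (RingHom.map_mulVec _ _ _), dotProduct_comm, dotProduct_mulVec,
    ← mulVec_transpose, mulVec_mulVec, t, one_mulVec, dotProduct_comm]

theorem mem_Sz {A : Matrix (Fin 4) (Fin 4) R} {k : ℕ}
    (h : (∀ i j, Lie.altForm4 (Aᵀ i) (Aᵀ j) = Lie.altForm4 (Pi.single i 1) (Pi.single j 1)) ∧ Lie.star4 A = A.map (· ^ k))
    (u : GL (Fin 4) F) (hu : (u : Matrix _ _ F) = A.map f) : u ∈ Lie.Sz F k := by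
  refine subset_closure ⟨fun v w => ?_, ?_⟩
  · have t := fun i j => congrArg f (h.1 i j)
    show Lie.altForm4 (u.1 *ᵥ v) (u.1 *ᵥ w) = _
    have e : Lie.altForm4 (u.1 *ᵥ v) (u.1 *ᵥ w) = ∑ i, ∑ j, v i * w j * f (Lie.altForm4 (Aᵀ i) (Aᵀ j)) := by
      simp only [hu, Lie.altForm4, mulVec, dotProduct, Fin.sum_univ_four, map_apply, transpose_apply, map_add, map_mul]
      ring
    simp only [e, t]
    simp [Lie.altForm4, Fin.sum_univ_four, Pi.single_apply]
  · rw [hu]
    ext i j
    simpa [Lie.star4] using congrArg f (congrFun (congrFun h.2 i) j)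

end Cfsg.Agent.Ct
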