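import Cfsg.Agent.Lib.Cert.Lin5

/-! Matrices over a prime field with at most sixteen elements. -/

set_option autoImplicit false
set_option linter.unusedSectionVars false

namespace Cfsg.Agent.Ct

open Cfsg.Agent.PC Cfsg.Agent.Fi Subgroup Matrix Finset

variable {ι R : Type} [Fintype ι] [DecidableEq ι] [CommRing R]

/-- a model of matrices with digits up to fifteen -/
structure Lb (ix : ι → ℕ) (ω : R) (p e d : ℕ) (M : ℕ → Matrix ι ι R) (C : ℕ → ℕ → ℕ) (m : ℕ) : Prop where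
  ch : (p : R) = 0
  num : 0 < p ∧ 0 < e ∧ e * d * (p * 15) < 2 ^ 32
  nx : (∀ r, ix r < d) ∧ (∀ a < d, ∃ c, ix c = a) ∧ ∀ r c, ix r = ix c → r = c
  tab : ∀ j < m, ∀ c, ∀ s < e, bdE (msk 15 (e * d)) (C j (e * ix c + s)) = 0 ∧ ∀ r, M j r c * ω ^ s = cd ix ω e (C j (e * ix c + s)) r

variable {ix : ι → ℕ} {ω : R} {e p d m : ℕ} {M : ℕ → Matrix ι ι R} {C : ℕ → ℕ → ℕ}

theorem Lb.col (L : Lb ix ω p e d M C m) (A : Matrix ι ι R) (c : ι) {s : ℕ} (hs : s < e) :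
    mh A (tv ix ω e (e * ix c + s)) = .ofAdd fun r => A r c * ω ^ s := by
  have : tv ix ω e (e * ix c + s) = .ofAdd (Pi.single c (ω ^ s)) := congrArg Multiplicative.ofAdd (funext fun r => by
    rw [Nat.mul_add_div L.num.2.1, Nat.div_eq_of_lt hs, Nat.mul_add_mod, Nat.mod_eq_of_lt hs, add_zero, Pi.single_apply]
    exact if_congr ⟨fun h => (L.nx.2.2 _ _ h).symm, fun h => h ▸ rfl⟩ rfl rfl)
  rw [this]
  exact congrArg Multiplicative.ofAdd (funext fun r => by simp)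

theorem Lb.pw (L : Lb ix ω p e d M C m) (a : Multiplicative (ι → R)) : a ^ p = 1 :=
  Multiplicative.toAdd.injective (by ext r; simp [L.ch])

theorem Lb.tr (L : Lb ix ω p e d M C m) (w : List ℕ) (hw : ∀ j ∈ w, j < m) : ∀ x z b, b < 2 ^ 32 → Pk (tv ix ω e) (e * d) x z b →
    ∃ b < 2 ^ 32, Pk (tv ix ω e) (e * d) (trF (fun j => mvP p (e * d) (C j)) w x) (mh (evM M w) z) b := by
  induction w with
  | nil => exact fun x z b hb h => ⟨b, hb, by simpa [evM, mh, trF] using h⟩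
  | cons j w ih =>
    intro x z b hb h
    obtain ⟨b', h1, h2⟩ := ih (fun i hi => hw i (by simp [hi])) _ _ _ L.num.2.2 (h.mv hb L.pw L.num.1 (mh (M j)) (C := C j) fun i hi => by
      obtain ⟨c, hc⟩ := L.nx.2.1 (i / e) (Nat.div_lt_of_lt_mul hi)
      obtain ⟨h1, h2⟩ := L.tab j (hw j (by simp)) c _ (Nat.mod_lt i L.num.2.1)
      rw [← Nat.div_add_mod i e, ← hc]
      obtain ⟨z, hz⟩ := Pk.of (t := tv ix ω e) (by norm_num) h1
      rw [L.col _ _ (Nat.mod_lt i L.num.2.1), funext h2, ← tv_cd L.num.2.1 L.nx.1, ← hz.val (by norm_num)]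
      exact hz)
    refine ⟨b', h1, ?_⟩
    rw [show mh (evM M (j :: w)) z = mh (evM M w) (mh (M j) z) from congrArg Multiplicative.ofAdd (mulVec_mulVec _ _ _).symm]
    exact h2

theorem Lb.eq (L : Lb ix ω p e d M C m) {u v : List ℕ} (h : eqL p e d m C u v = 0) : evM M u = evM M v := by
  obtain ⟨h1, h2⟩ := add_eq_zero' h
  obtain ⟨h3, h4⟩ := add_eq_zero' h1
  ext r c
  have h5 := xor_eq_zero' (lin_zero h2 _ (L.nx.1 c))
  have h6 : e * ix c < e * d := Nat.mul_lt_mul_of_pos_left (L.nx.1 c) L.num.2.1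
  have k : ∀ w, lettE m w = 0 → mh (evM M w) (tv ix ω e (e * ix c)) = _ := fun w hw => by
    obtain ⟨b, a1, a2⟩ := L.tr w (lettE_zero hw) _ _ 1 (by norm_num) (Pk.one h6)
    exact (a2.mv a1 L.pw L.num.1 (MonoidHom.id _) (C := bit32) fun i hi => (Pk.one hi).mono (by norm_num : 1 ≤ 15)).val L.num.2.2
  have h7 := (k u h3).trans ((congrArg (fun n => ∏ i ∈ range (e * d), tv ix ω e i ^ lane n i) h5).trans (k v h4).symm)
  have h8 := fun A => L.col A c L.num.2.1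
  rw [add_zero] at h8
  rw [h8, h8] at h7
  simpa using congrFun (Multiplicative.ofAdd.injective h7) r

section
variable {F H : Type*} [CommRing F] [Group H] {ρ : H →* Matrix ι ι F} {f : R →+* F} {h : ℕ → H} {m0 : ℕ}

theorem Lb.ev (L : Lb ix ω p e d M C m) (hh : ∀ j < m0, ρ (h j) = (M j).map f) {w v : List ℕ} (h1 : lettE m0 w = 0)
    (h2 : eqL p e d m C w v = 0) : ρ (ev h w) = (evM M v).map f :=
  (evM_hom ρ f.mapMatrix.toMonoidHom fun j hj => hh j (lettE_zero h1 j hj)).trans (congrArg (fun A : Matrix ι ι R => A.map f) (L.eq h2))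

theorem Lb.cen (L : Lb ix ω p e d M C m) (hρ : Function.Injective ρ) (hh : ∀ j < m0, ρ (h j) = (M j).map f) (r0 : ι) {m1 : ℕ}
    (hs : ∀ s < m1, m0 ≤ s → M s = scalar ι (M s r0 r0)) (ws : List (List ℕ × ℕ))
    (hw : allE (fun w => Nat.add (Nat.add (lettE m0 w.1) (Nat.add (ltE w.2 m1) (Nat.sub m0 w.2))) (eqL p e d m C w.1 [w.2])) ws = 0) :
    ∀ w ∈ ws.map Prod.fst, PC.ev h w ∈ center H := fun w hw' => by
  obtain ⟨w, a, rfl⟩ := List.mem_map.mp hw'
  obtain ⟨h1, h2⟩ := add_eq_zero' (allE_zero hw w a)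
  obtain ⟨h3, h4⟩ := add_eq_zero' h1
  obtain ⟨h5, h6⟩ := add_eq_zero' h4
  refine mem_center_iff.mpr fun y => hρ ?_
  rw [map_mul, map_mul, L.ev hh h3 h2, evM, evM, one_mul, hs _ (ltE_zero h5) (Nat.sub_eq_zero_iff_le.mp h6), scalar_apply,
    diagonal_map (map_zero f)]
  exact ((scalar_commute _ (fun _ => Commute.all _ _) _).eq).symm

end

section
variable {F : Type*} [Field F] (f : R →+* F)

theorem Lb.unit (L : Lb ix ω p e d M C m) {a b : ℕ} (h : eqL p e d m C [b, a] [] = 0) : M a * M b = 1 := by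
  simpa [evM] using L.eq h

theorem Lb.uL (L : Lb ix ω p e d M C m) {n : ℕ → ℕ} {j : ℕ} (h : eqL p e d m C [n j, j] [] = 0) :
    (uL f M n j : Matrix ι ι F) = (M j).map f := by rw [Ct.uL, dif_pos (L.unit h)]; rfl

theorem Lb.let (L : Lb ix ω p e d M C m) {n : ℕ → ℕ} {m0 : ℕ} (hu : lin (fun j => eqL p e d m C [n j, j] []) (nat_lit 0) m0 = 0)
    {H : Subgroup (GL ι F)} (mem : ∀ j < m0, ∀ u : GL ι F, (u : Matrix ι ι F) = (M j).map f → u ∈ H) :
    ∀ j < m0, mat H (PC.sub H (Ct.uL f M n) j) = (M j).map f := fun j hj =>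
  have t := L.uL f (lin_zero hu j hj)
  (congrArg Units.val (coe_sub (mem j hj _ t))).trans t

variable {P : Type} [Group P] [Finite P] {g : ℕ → P} {inv : ℕ → ℕ} {rels : List (List ℕ)} {m0 : ℕ}

theorem Lb.emb [Finite F] (L : Lb ix ω p e d M C m) (Q : Pr g inv rels m0) {H : Subgroup (GL ι F)} {h : ℕ → H}
    (hh : ∀ j < m0, mat H (h j) = (M j).map f) (r0 : ι) {m1 : ℕ} (hs : ∀ s < m1, m0 ≤ s → M s = scalar ι (M s r0 r0))
    {ws : List (List ℕ × ℕ)}
    (hw : allE (fun w => Nat.add (Nat.add (lettE m0 w.1) (Nat.add (ltE w.2 m1) (Nat.sub m0 w.2))) (eqL p e d m C w.1 [w.2])) ws = 0)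
    (i j : ℕ) (r c : ι) (h1 : (∀ w ∈ rels, w ∈ ws.map Prod.fst) ∧ (∀ j < m0, [j, inv j] ∈ ws.map Prod.fst) ∧ i < m0 ∧ j < m0 ∧
      (M i * M j) r c = (M j * M i) r c + 1) {D : Type*} [Group D] {κ : D →* H} (hκ : Function.Injective κ)
    (hc : commutator H ≤ κ.range) : ∃ φ : P →* D ⧸ center D, Function.Injective φ :=
  have := Q.si
  have t := L.cen (mat_inj H) hh r0 hs ws hw
  emb_proj Q.c Q.top Q.ub Q.hi Q.hr Q.hl hκ hc (fun j hj => t _ (h1.2.1 j hj)) (fun w hw => t _ (h1.1 w hw)) h1.2.2.2.1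
    (ncen (hh i h1.2.2.1) (hh j h1.2.2.2.1) r c h1.2.2.2.2)

theorem Lb.wds (L : Lb ix ω p e d M C m) {n : ℕ → ℕ} {lo k m0 : ℕ} {W : ℕ → List ℕ}
    (hu : lin (fun j => eqL p e d m C [n (Nat.add lo j), Nat.add lo j] []) (nat_lit 0) k = 0)
    (hw : lin (fun j => Nat.add (lettE k (W j)) (eqL p e d m C ((W j).map (Nat.add lo)) [j])) (nat_lit 0) m0 = 0)
    {H : Subgroup (GL ι F)} (mem : ∀ j < k, ∀ u : GL ι F, (u : Matrix ι ι F) = (M (lo + j)).map f → u ∈ H) :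
    ∀ j < m0, mat H (PC.ev (fun i => PC.sub H (Ct.uL f M n) (lo + i)) (W j)) = (M j).map f := fun j hj => by
  obtain ⟨h1, h2⟩ := add_eq_zero' (lin_zero hw j hj)
  have t := L.eq h2
  have t2 : ∀ w : List ℕ, evM M (w.map (Nat.add lo)) = evM (fun i => M (lo + i)) w := fun w => by
    induction w with
    | nil => rfl
    | cons a w ih => exact congrArg (· * M (lo + a)) ih
  rw [evM, evM, one_mul, t2] at t
  rw [← t]
  refine evM_hom (mat H) (f.mapMatrix (m := ι)).toMonoidHom fun i hi => ?_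
  have s := L.uL f (lin_zero hu i (lettE_zero h1 i hi))
  exact (congrArg Units.val (coe_sub (mem i (lettE_zero h1 i hi) _ s))).trans s

end

variable {F : Type*} [Field F] {f : R →+* F} {H : Subgroup (GL ι F)} {h : ℕ → H} {m0 : ℕ}

theorem Lb.one (L : Lb ix ω p e d M C m) (hh : ∀ j < m0, mat H (h j) = (M j).map f) {w : List ℕ}
    (hw : Nat.add (lettE m0 w) (eqL p e d m C w []) = 0) : PC.ev h w = 1 :=
  mat_inj H ((L.ev hh (add_eq_zero' hw).1 (add_eq_zero' hw).2).trans (by simp [evM]))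

theorem Lb.top (L : Lb ix ω p e d M C m) (hh : ∀ j < m0, mat H (h j) = (M j).map f) {S : Set (GL ι F)} (hS : H = closure S)
    {lo k : ℕ} {V : ℕ → List ℕ} (hv : ∀ i < k, Nat.add (lettE m0 (V i)) (eqL p e d m C (V i) [Nat.add lo i]) = 0)
    (h2 : ∀ u ∈ S, ∃ i < k, (u : Matrix ι ι F) = (M (lo + i)).map f) : gen h m0 = ⊤ := by
  subst hS
  refine eq_top_iff.mpr fun x _ => closure_induction (p := fun y hy => (⟨y, hy⟩ : closure S) ∈ gen h m0) (fun u hu => ?_) (one_mem _)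
    (fun _ _ _ _ a b => mul_mem a b) (fun _ _ a => inv_mem a) x.2
  obtain ⟨i, hi, e1⟩ := h2 u hu
  obtain ⟨a, b⟩ := add_eq_zero' (hv i hi)
  have : PC.ev h (V i) = ⟨u, subset_closure hu⟩ := mat_inj _ ((L.ev hh a b).trans (by rw [evM, evM, one_mul]; exact e1.symm))
  exact this ▸ ev_mem_gen h (lettE_zero a)

end Cfsg.Agent.Ct
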