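import Cfsg.Agent.Lib.Cert.Shape
import Cfsg.Agent.Lib.Cert.Fix
import Cfsg.Agent.Lib.Perm.Tri

/-! One class of involutions; extraspecial groups of 2-rank two; transport of models. -/

set_option autoImplicit false
set_option maxHeartbeats 200000

namespace Cfsg.Agent.Ct

open Cfsg.Agent.PC Cfsg.Agent.Fi Subgroup Cfsg.Agent.Perm

variable {G X : Type*} [Group G] [MulAction G X] {pt : ℕ → X} {N m : ℕ} {B : List ℕ} {q : ℕ → G} {Q : ℕ → ℕ → ℕ}
  {r s : ℕ} {R : ℕ → List ℕ}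

theorem Md.congr (M : Md pt N B q Q m) {H : Type*} [Group H] (e : G ≃* H) :
    letI := MulAction.compHom X e.symm.toMonoidHom; Md pt N B (fun j => e (q j)) Q m :=
  letI := MulAction.compHom X e.symm.toMonoidHom
  ⟨M.inj, M.lt, fun a h => e.symm.map_eq_one_iff.mp (M.base _ h), fun j hj c hc => ⟨(M.reps j hj c hc).1,
    show e.symm (e (q j)) • pt c = _ by rw [e.symm_apply_apply]; exact (M.reps j hj c hc).2⟩⟩

variable [Finite G]

theorem Md.one (M : Md pt N B q Q m) (S : Sy q 2 r R) (h0 : 0 < r ∧ r ≤ m) {K : ℕ → List ℕ} {Z : ℕ → ℕ} {pr : ℕ} (hp : pr = 2 ^ r)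
    (h : ∀ c < pr, Nat.mul (sqE Q N r (nat_lit 0) Z c) (cjE Q B m (nat_lit 2) r (nat_lit 0) K c) = 0) {x : G} (hx : orderOf x = 2) :
    IsConj (q 0) x := by
  subst hp
  obtain ⟨k, -, hk⟩ := S.into (L := ⊤) (P := zpowers x) le_top le_top (.of_card (n := 1) (by rw [Nat.card_zpowers, hx, pow_one]))
  obtain ⟨c, hc, e⟩ := S.nf two_pos le_rfl (hk x (mem_zpowers x))
  have r0 := rep_evp M.reps 2 r 0 c (by omega)
  rcases mul_eq_zero' (h c hc) with e1 | e1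
  · obtain ⟨e4, e5⟩ := add_eq_zero' e1
    have r1 := r0.mul r0 _ (ltE_zero e4)
    rw [← e, show k * x * k⁻¹ * (k * x * k⁻¹) = 1 by rw [← pow_two, conj_pow, ← hx, pow_orderOf_eq_one]; simp, one_smul] at r1
    rw [force_eq, show Nat.add (nat_lit 0) c = c from zero_add c] at e5
    exact absurd ((eqI_eq _ _).symm.trans e5) (by rw [if_pos (by exact M.inj _ r1.1 _ (ltE_zero e4) r1.2.symm)]; exact one_ne_zero)
  rcases mul_eq_zero' e1 with e1 | e1
  · rw [e1, evp_zero, mul_inv_eq_one, mul_eq_left] at e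
    simp [e] at hx
  obtain ⟨e1, e2⟩ := add_eq_zero' e1
  exact (isConj_iff.mpr ⟨_, mul_inv_eq_of_eq_mul ((M.eqF ((M.rw e1).mul (M.reps 0 (by omega))) (r0.mul (M.rw e1))).mp e2)⟩).trans
    (isConj_iff.mpr ⟨k, e⟩).symm

noncomputable def mnE (Q : ℕ → ℕ → ℕ) (B : List ℕ) (s c d : ℕ) : ℕ :=
  Nat.mul (Nat.mul (Nat.div c (nat_lit 2)) (Nat.mul (Nat.div d (nat_lit 2)) (Nat.xor (Nat.div c (nat_lit 2)) (Nat.div d (nat_lit 2)))))
    (eqI (Nat.add (agF B (fun x => force (trp Q (nat_lit 2) s (nat_lit 0) c x) (trp Q (nat_lit 2) s (nat_lit 0) c)) fun x => x)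
      (Nat.add (agF B (fun x => force (trp Q (nat_lit 2) s (nat_lit 0) d x) (trp Q (nat_lit 2) s (nat_lit 0) d)) fun x => x)
        (agF B (fun x => force (trp Q (nat_lit 2) s (nat_lit 0) c x) (trp Q (nat_lit 2) s (nat_lit 0) d))
          fun x => force (trp Q (nat_lit 2) s (nat_lit 0) d x) (trp Q (nat_lit 2) s (nat_lit 0) c)))) (nat_lit 0))

theorem Md.minus (M : Md pt N B q Q s) (h1 : ∀ i < s, relE Q B s 2 R i = 0) (h : ∀ c < 2 ^ s, ∀ d < 2 ^ s, mnE Q B s c d = 0)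
    (E : Subgroup (gen q s)) (hE : IsElementaryAbelian 2 E) : Nat.card E ≤ 2 ^ 2 := by
  classical
  have nf : ∀ x : gen q s, ∃ c < 2 ^ s, x = evp q 2 s 0 c := fun x => by
    obtain ⟨c, hc, y, hy, e⟩ := (M.rel h1).pc.nf two_pos s 0 (by omega) x (by rw [zero_add]; exact x.2)
    rw [gen_zero, mem_bot] at hy
    exact ⟨c, hc, by rw [e, hy, mul_one]⟩
  choose f f1 f2 using nf
  have k : ∀ x ∈ E, ∀ y ∈ E, f x / 2 = 0 ∨ f y / 2 = 0 ∨ f x / 2 = f y / 2 := fun x hx y hy => by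
    refine (mul_eq_zero' (h _ (f1 x) _ (f1 y))).elim (fun e => (mul_eq_zero' e).imp_right fun e => (mul_eq_zero' e).imp_right xor_eq_zero') fun e => ?_
    have r1 := rep_evp M.reps 2 s 0 (f x) (by omega)
    have r2 := rep_evp M.reps 2 s 0 (f y) (by omega)
    simp only [force_eq] at e
    rw [(M.eqF (r1.mul r1) Rep.one).mpr (by rw [← f2, ← pow_two]; exact congrArg Subtype.val (hE.2 x hx)),
      (M.eqF (r2.mul r2) Rep.one).mpr (by rw [← f2, ← pow_two]; exact congrArg Subtype.val (hE.2 y hy)),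
      (M.eqF (r2.mul r1) (r1.mul r2)).mpr (by
        rw [← f2, ← f2]; exact congrArg (fun z : E => (z : G)) (hE.1.is_comm.comm ⟨y, hy⟩ ⟨x, hx⟩))] at e
    cases e
  obtain ⟨a, ha⟩ : ∃ a, ∀ x ∈ E, f x / 2 = 0 ∨ f x / 2 = a := by
    by_cases e : ∃ y ∈ E, f y / 2 ≠ 0
    · obtain ⟨y, hy, e⟩ := e
      exact ⟨_, fun x hx => (k x hx y hy).imp_right fun h => h.resolve_left e⟩
    · exact ⟨0, fun x hx => .inl (not_not.mp fun h => e ⟨x, hx, h⟩)⟩
  refine (Nat.card_le_card_of_injective (fun x : E => ((⟨f x % 2, Nat.mod_lt _ two_pos⟩, decide (f x / 2 = 0)) : Fin 2 × Bool))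
    fun x y e => Subtype.ext (Subtype.ext ?_)).trans (by simp)
  have e1 : f x % 2 = f y % 2 := congrArg (fun z => z.1.1) e
  have e2 := decide_eq_decide.mp (congrArg Prod.snd e)
  have := ha x x.2
  have := ha y y.2
  rw [f2, f2 y.1, show f x = f y by omega]

theorem Md.a5 {G X : Type*} [Group G] [Finite G] [MulAction G X] {pt : ℕ → X} {q : ℕ → G} (M : Md pt N B q Q m) {a b : ℕ}
    (h : ordE Q B m ([a], 2) = 0 ∧ ordE Q B m ([b], 3) = 0 ∧ ordE Q B m ([b, a], 5) = 0) :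
    ∃ φ : alternatingGroup (Fin 5) →* G, Function.Injective φ ∧ φ.range ≤ gen q m := by
  have := Tri.simple_A5
  have h1 := M.ord le_rfl h.1
  have h2 := M.ord le_rfl h.2.1
  have h3 := M.ord le_rfl h.2.2
  simp only [ev_cons, ev_nil, one_mul] at h1 h2 h3
  obtain ⟨φ, e1, e2⟩ := Tri.exists_hom_tri Tri.closure_A5 (Tri.order_a5 ▸ pow_orderOf_eq_one _) (Tri.order_b5 ▸ pow_orderOf_eq_one _)
    (orderOf_dvd_iff_pow_eq_one.mp Tri.order_ab5.dvd) (.inr (.inr ⟨rfl, Tri.card_A5⟩)) h1.2.1 h2.2.1 h3.2.1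
  refine ⟨φ, inj_simple (e1 ▸ h1.2.2), ?_⟩
  rw [Tri.range_eq_of_pair Tri.closure_A5, closure_le, e1, e2]
  rintro _ (rfl | rfl)
  exacts [h1.1, h2.1]

end Cfsg.Agent.Ct
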