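import Cfsg.Agent.Lib.Cert.J2f.L
import Cfsg.Agent.Lib.Cert.Shape2
import Cfsg.Agent.Lib.Cert.Sch2

set_option autoImplicit false
set_option maxRecDepth 100000

namespace Cfsg.Agent.Ct.J2c

open Cfsg.Agent.PC

open Cfsg.Agent.Fi Cfsg.Agent.Ct
def W_t : TL := (TL.node (TL.node (TL.node (TL.leaf [nat_lit 0]) (TL.leaf [nat_lit 4])) (TL.node (TL.leaf [nat_lit 2]) (TL.leaf [nat_lit 0, nat_lit 5, nat_lit 5, nat_lit 5, nat_lit 5, nat_lit 5, nat_lit 5, nat_lit 5, nat_lit 6, nat_lit 7, nat_lit 5, nat_lit 3, nat_lit 3, nat_lit 3, nat_lit 7]))) (TL.node (TL.node (TL.leaf [nat_lit 1]) (TL.leaf [nat_lit 3, nat_lit 4, nat_lit 5, nat_lit 5, nat_lit 5, nat_lit 5, nat_lit 5, nat_lit 5, nat_lit 5])) (TL.leaf [nat_lit 3])))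
noncomputable def W (i : ℕ) : List ℕ := TL.get W_t i
def U_t1 : TL := (TL.node (TL.node (TL.node (TL.node (TL.node (TL.node (TL.leaf [nat_lit 0]) (TL.leaf [nat_lit 0])) (TL.node (TL.leaf [nat_lit 0]) (TL.leaf [nat_lit 0]))) (TL.node (TL.node (TL.leaf [nat_lit 0]) (TL.leaf [nat_lit 0])) (TL.leaf [nat_lit 0]))) (TL.node (TL.node (TL.node (TL.leaf []) (TL.leaf [])) (TL.node (TL.leaf []) (TL.leaf []))) (TL.node (TL.node (TL.leaf []) (TL.leaf [])) (TL.leaf [])))) (TL.node (TL.node (TL.node (TL.node (TL.leaf []) (TL.leaf [])) (TL.node (TL.leaf []) (TL.leaf []))) (TL.node (TL.node (TL.leaf []) (TL.leaf [])) (TL.leaf []))) (TL.node (TL.node (TL.node (TL.leaf []) (TL.leaf [])) (TL.node (TL.leaf []) (TL.leaf []))) (TL.node (TL.node (TL.leaf []) (TL.leaf [])) (TL.leaf []))))) (TL.node (TL.node (TL.node (TL.node (TL.node (TL.leaf [nat_lit 4]) (TL.leaf [nat_lit 4])) (TL.node (TL.leaf [nat_lit 4]) (TL.leaf [nat_lit 0,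 nat_lit 1]))) (TL.node (TL.node (TL.leaf [nat_lit 0, nat_lit 4]) (TL.leaf [nat_lit 0, nat_lit 1, nat_lit 2, nat_lit 3, nat_lit 4])) (TL.leaf [nat_lit 4]))) (TL.node (TL.node (TL.node (TL.leaf []) (TL.leaf [])) (TL.node (TL.leaf []) (TL.leaf []))) (TL.node (TL.node (TL.leaf []) (TL.leaf [])) (TL.leaf [])))) (TL.node (TL.node (TL.node (TL.node (TL.leaf []) (TL.leaf [])) (TL.node (TL.leaf []) (TL.leaf []))) (TL.node (TL.node (TL.leaf []) (TL.leaf [])) (TL.leaf []))) (TL.node (TL.node (TL.node (TL.leaf []) (TL.leaf [])) (TL.node (TL.leaf []) (TL.leaf []))) (TL.node (TL.node (TL.leaf []) (TL.leaf [])) (TL.leaf []))))))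
def U_t2 : TL := (TL.node (TL.node (TL.node (TL.node (TL.node (TL.node (TL.leaf [nat_lit 2]) (TL.leaf [nat_lit 2])) (TL.node (TL.leaf [nat_lit 2]) (TL.leaf [nat_lit 0, nat_lit 1, nat_lit 2, nat_lit 3]))) (TL.node (TL.node (TL.leaf [nat_lit 2]) (TL.leaf [nat_lit 0, nat_lit 1, nat_lit 2])) (TL.leaf [nat_lit 0, nat_lit 2]))) (TL.node (TL.node (TL.node (TL.leaf []) (TL.leaf [])) (TL.node (TL.leaf []) (TL.leaf []))) (TL.node (TL.node (TL.leaf []) (TL.leaf [])) (TL.leaf [])))) (TL.node (TL.node (TL.node (TL.node (TL.leaf []) (TL.leaf [])) (TL.node (TL.leaf []) (TL.leaf []))) (TL.node (TL.node (TL.leaf []) (TL.leaf [])) (TL.leaf []))) (TL.node (TL.node (TL.node (TL.leaf []) (TL.leaf [])) (TL.node (TL.leaf []) (TL.leaf []))) (TL.node (TL.node (TL.leaf []) (TL.leaf [])) (TL.leaf []))))) (TL.node (TL.node (TL.node (TL.node (TL.node (TL.leaf []) (TL.leaf [])) (TL.node (TL.leaf []) (TL.leaf []))) (TL.node (TL.node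 (TL.leaf []) (TL.leaf [])) (TL.leaf []))) (TL.node (TL.node (TL.node (TL.leaf []) (TL.leaf [])) (TL.node (TL.leaf []) (TL.leaf []))) (TL.node (TL.node (TL.leaf []) (TL.leaf [])) (TL.leaf [])))) (TL.node (TL.node (TL.node (TL.node (TL.leaf []) (TL.leaf [])) (TL.node (TL.leaf []) (TL.leaf []))) (TL.node (TL.node (TL.leaf []) (TL.leaf [])) (TL.leaf []))) (TL.node (TL.node (TL.node (TL.leaf []) (TL.leaf [])) (TL.node (TL.leaf []) (TL.leaf []))) (TL.node (TL.node (TL.leaf []) (TL.leaf [])) (TL.leaf []))))))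
def U_t3 : TL := (TL.node U_t1 U_t2)
def U_t4 : TL := (TL.node (TL.node (TL.node (TL.node (TL.node (TL.node (TL.leaf [nat_lit 1]) (TL.leaf [nat_lit 0, nat_lit 1])) (TL.node (TL.leaf [nat_lit 1]) (TL.leaf [nat_lit 1, nat_lit 3, nat_lit 4]))) (TL.node (TL.node (TL.leaf [nat_lit 1]) (TL.leaf [nat_lit 1])) (TL.leaf [nat_lit 1]))) (TL.node (TL.node (TL.node (TL.leaf []) (TL.leaf [])) (TL.node (TL.leaf []) (TL.leaf []))) (TL.node (TL.node (TL.leaf []) (TL.leaf [])) (TL.leaf [])))) (TL.node (TL.node (TL.node (TL.node (TL.leaf []) (TL.leaf [])) (TL.node (TL.leaf []) (TL.leaf []))) (TL.node (TL.node (TL.leaf []) (TL.leaf [])) (TL.leaf []))) (TL.node (TL.node (TL.node (TL.leaf []) (TL.leaf [])) (TL.node (TL.leaf []) (TL.leaf []))) (TL.node (TL.node (TL.leaf []) (TL.leaf [])) (TL.leaf []))))) (TL.node (TL.node (TL.node (TL.node (TL.node (TL.leaf []) (TL.leaf [])) (TL.node (TL.leaf []) (TL.leaf []))) (TL.node (TL.node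 (TL.leaf []) (TL.leaf [])) (TL.leaf []))) (TL.node (TL.node (TL.node (TL.leaf []) (TL.leaf [])) (TL.node (TL.leaf []) (TL.leaf []))) (TL.node (TL.node (TL.leaf []) (TL.leaf [])) (TL.leaf [])))) (TL.node (TL.node (TL.node (TL.node (TL.leaf []) (TL.leaf [])) (TL.node (TL.leaf []) (TL.leaf []))) (TL.node (TL.node (TL.leaf []) (TL.leaf [])) (TL.leaf []))) (TL.node (TL.node (TL.node (TL.leaf []) (TL.leaf [])) (TL.node (TL.leaf []) (TL.leaf []))) (TL.node (TL.node (TL.leaf []) (TL.leaf [])) (TL.leaf []))))))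
def U_t5 : TL := (TL.node (TL.node (TL.node (TL.node (TL.node (TL.node (TL.leaf [nat_lit 3]) (TL.leaf [nat_lit 3])) (TL.node (TL.leaf [nat_lit 0, nat_lit 3]) (TL.leaf [nat_lit 3]))) (TL.node (TL.node (TL.leaf [nat_lit 3]) (TL.leaf [nat_lit 1, nat_lit 3])) (TL.leaf [nat_lit 3]))) (TL.node (TL.node (TL.node (TL.leaf []) (TL.leaf [])) (TL.node (TL.leaf []) (TL.leaf []))) (TL.node (TL.node (TL.leaf []) (TL.leaf [])) (TL.leaf [])))) (TL.node (TL.node (TL.node (TL.node (TL.leaf []) (TL.leaf [])) (TL.node (TL.leaf []) (TL.leaf []))) (TL.node (TL.node (TL.leaf []) (TL.leaf [])) (TL.leaf []))) (TL.node (TL.node (TL.node (TL.leaf []) (TL.leaf [])) (TL.node (TL.leaf []) (TL.leaf []))) (TL.node (TL.node (TL.leaf []) (TL.leaf [])) (TL.leaf []))))) (TL.node (TL.node (TL.node (TL.node (TL.node (TL.leaf []) (TL.leaf [])) (TL.node (TL.leaf []) (TL.leaf []))) (TL.node (TL.node (TL.leaf []) (TL.leaf [])) (TL.leaf []))) (TL.node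 (TL.node (TL.node (TL.leaf []) (TL.leaf [])) (TL.node (TL.leaf []) (TL.leaf []))) (TL.node (TL.node (TL.leaf []) (TL.leaf [])) (TL.leaf [])))) (TL.node (TL.node (TL.node (TL.node (TL.leaf []) (TL.leaf [])) (TL.node (TL.leaf []) (TL.leaf []))) (TL.node (TL.node (TL.leaf []) (TL.leaf [])) (TL.leaf []))) (TL.node (TL.node (TL.node (TL.leaf []) (TL.leaf [])) (TL.node (TL.leaf []) (TL.leaf []))) (TL.node (TL.node (TL.leaf []) (TL.leaf [])) (TL.leaf []))))))
def U_t6 : TL := (TL.node U_t4 U_t5)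
def U_t : TL := (TL.node U_t3 U_t6)
noncomputable def U (i : ℕ) : List ℕ := TL.get U_t i
def Zc_t : TN := (TN.leaf (nat_lit 0x2492492492494924926db900))
noncomputable def Zc (i : ℕ) : ℕ := get9 Zc_t (nat_lit 3) (nat_lit 7) i
def Zm_t : TN := (TN.leaf (nat_lit 0x8000000))
noncomputable def Zm (i : ℕ) : ℕ := get9 Zm_t (nat_lit 1) (nat_lit 1) i
open Subgroup in
theorem main {g : ℕ → Spor.J2} {X : Type*} [MulAction Spor.J2 X] {pt : ℕ → X} (M : Md pt 100 J2f.B g J2f.Q 19) :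
    ∃ (Q : Subgroup (centralizer {g 0})) (_ : Q.Normal), Nat.card Q = 32 ∧ IsExtraspecial 2 Q ∧ Nonempty (centralizer {g 0} ⧸ Q ≃* alternatingGroup (Fin 5)) := by
  have := Perm.Tri.simple_A5
  have M' := M.words' (W := W) (r := 7) (by decide +kernel)
  have M0 : Md pt 100 J2f.B _ _ 5 := ⟨M.inj, M.lt, M.base, M'.reps.mono (by decide)⟩
  have e : ev g (W 0) = g 0 := by rw [show W 0 = [0] by decide +kernel, ev_cons, ev_nil, one_mul]
  obtain ⟨-, h2, h3, h4, -, -, h5, -, h7⟩ := M0.shape (P := alternatingGroup (Fin 5)) M' (by decide) (R := J2f.R) (U := U) (Zm := Zm) (Zc := Zc) (ps := 32) rfl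
    (by decide +kernel) (by decide +kernel) (by decide +kernel) (M'.a5 (a := 5) (b := 6) (by decide +kernel)) (by rw [Perm.Tri.card_A5]; decide) (by
      have h := M.cls (by decide +kernel) J2f.h3 (L := ⊤) fun _ _ => trivial
      rw [top_inf_eq, card_top, J2.card] at h
      rw [Perm.Tri.card_A5, e]
      exact Nat.le_of_mul_le_mul_left h (by decide))
  rw [← e, h2]
  exact ⟨_, h5, h4, h3, h7⟩
theorem cj : IsConj (J2f.q 0) (J2.al 2) := by
  have := J2.md0.eq (u := 2 :: [0, 1, 3, 0, 1, 3, 0, 3, 2]) (w := [0, 1, 3, 0, 1, 3, 0, 3, 2] ++ J2f.W 0) (by decide +kernel)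
  rw [ev_cons, ev_append] at this
  exact (isConj_iff.mpr ⟨_, mul_inv_eq_of_eq_mul this⟩).symm

end Cfsg.Agent.Ct.J2c
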