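import Cfsg.Agent.Lib.Cert.Md
import Cfsg.Prelude.Def_KGroupFacts

/-! Bounds for the automorphism group from the local data at a 2-central involution. -/

set_option autoImplicit false
set_option linter.unusedSectionVars false

namespace Cfsg.Agent.Ct

open Cfsg.Agent.PC Cfsg.Agent.Fi MulAction Subgroup

variable {G X : Type*} [Group G] [MulAction G X] {pt : ℕ → X} {N m : ℕ} {B : List ℕ} {g q : ℕ → G} {T Q : ℕ → ℕ → ℕ}
  [Finite G] {s r t : ℕ} {R : ℕ → List ℕ}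

/-- `gen q s` is the intersection of the conjugates of `gen q r` -/
def Core (q : ℕ → G) (s r t : ℕ) : Prop := ∀ x ∈ gen q r, (∀ h ∈ gen q t, h * x * h⁻¹ ∈ gen q r) → x ∈ gen q s

noncomputable def o2F (Q : ℕ → ℕ → ℕ) (s k : ℕ) (h h' w : List ℕ) (c x : ℕ) : ℕ :=
  force (trF Q w x) fun x => force (trF Q h' x) fun x => force (trp Q (nat_lit 2) k s c x) (trF Q h)

noncomputable def o2E (Q : ℕ → ℕ → ℕ) (B : List ℕ) (m s k t : ℕ) (H H' W : ℕ → List ℕ) (E : ℕ → ℕ) (c : ℕ) : ℕ :=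
  Nat.mul c (Nat.add (Nat.add (Nat.add (eqE Q B m (H c ++ H' c) []) (lettE m (H' c)))
    (Nat.add (lettE t (H c)) (lettE (Nat.add s k) (W c))))
    (Nat.add (agF B (itF (o2F Q s k (H c) (H' c) (W c) c) (Nat.add (Nat.mul (nat_lit 2) (E c)) (nat_lit 1))) fun x => x)
      (eqI (agF B (o2F Q s k (H c) (H' c) (W c) c) fun x => x) (nat_lit 0))))

theorem Md.core (M : Md pt N B q Q m) {k : ℕ} (L : Loc q s (s + k) t R) (tm : t ≤ m) {H H' W : ℕ → List ℕ} {E : ℕ → ℕ}
    {pk : ℕ} (hp : pk = 2 ^ k) (h : ∀ c < pk, o2E Q B m s k t H H' W E c = 0) : Core q s (s + k) t := by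
  intro x hx hc
  obtain ⟨c, c1, y, hy, rfl⟩ := L.rel.pc.nf two_pos k s le_rfl x hx
  rcases mul_eq_zero' (h c (hp ▸ c1)) with rfl | e
  · rwa [evp_zero, one_mul]
  exfalso
  obtain ⟨e1, e2⟩ := add_eq_zero' e
  obtain ⟨e1, e3⟩ := add_eq_zero' e1
  obtain ⟨e1, e6⟩ := add_eq_zero' e1
  obtain ⟨e3, e4⟩ := add_eq_zero' e3
  obtain ⟨e2, e5⟩ := add_eq_zero' e2
  have a1 := M.eq e1
  rw [ev_append, ev_nil] at a1
  have a2 := ev_mem_gen q (lettE_zero e3)
  have a3 := ev_mem_gen q (lettE_zero e4)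
  have rt := L.rt
  have r0 : ∀ {w : List ℕ} {i : ℕ}, lettE i w = 0 → i ≤ m → Rep pt N (ev q w) (trF Q w) := fun h hi =>
    trF_eq Q _ ▸ M.reps.ev fun j hj => (lettE_zero h j hj).trans_le hi
  have r1 : Rep pt N _ (o2F Q s k (H c) (H' c) (W c) c) := (r0 e3 tm).mul ((rep_evp M.reps 2 k s c (by omega)).mul
    ((r0 e6 le_rfl).mul (r0 e4 (by show s + k ≤ m; omega))))
  have a4 : ev q (H c) * (evp q 2 k s c * (ev q (H' c) * ev q (W c))) ∈ gen q (s + k) := by
    have := mul_mem (mul_mem (hc _ a2) (inv_mem (gen_mono q L.sr ((mem_normalizer_iff.mp (L.nrm a2) y).mp hy)))) a3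
    rw [eq_inv_of_mul_eq_one_left a1]; convert this using 1; group
  obtain ⟨i, hi⟩ := L.pg le_rfl ⟨_, a4⟩
  have a5 := (M.eqF (r1.itF _) Rep.one).mp e2
  rw [(M.eqF r1 Rep.one).mpr (orderOf_eq_one_iff.mp (Nat.eq_one_of_dvd_coprimes (Nat.Coprime.pow_left i
    (show Nat.Coprime 2 (2 * E c + 1) by simp)) (orderOf_dvd_of_pow_eq_one (congrArg Subtype.val hi))
    (orderOf_dvd_of_pow_eq_one a5)))] at e5
  cases e5

theorem Loc.autz (L : Loc q s r t R) (α : MulAut G) : ∃ k : G, k * q 0 * k⁻¹ = α (q 0) := by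
  obtain ⟨k, -, hk⟩ := L.into le_top le_top ((L.pg le_rfl).map α.toMonoidHom)
  let β : MulAut G := MulAut.conj k * α
  have h1 : (gen q r).map β.toMonoidHom = gen q r := eq_of_le_of_card_ge
    (by rintro _ ⟨x, hx, rfl⟩; exact hk _ ⟨x, hx, rfl⟩) (card_map_of_injective β.injective).ge
  have z0 := mem_gen q (L.s0.trans_le L.sr)
  rcases L.ctr (β (q 0)) (h1 ▸ ⟨_, z0, rfl⟩) (fun j hj => by
    obtain ⟨y, hy, e⟩ := h1.ge (mem_gen q hj)
    rw [← e]
    exact (show Commute y (q 0) from mem_centralizer_singleton_iff.mp (L.cen ▸ gen_mono q L.rt hy)).symm.map β) with e | e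
  · exact absurd (β.injective (e.trans (map_one β).symm)) L.z1
  · exact ⟨k⁻¹, by rw [← e]; show _ * (k * α (q 0) * k⁻¹) * _ = α (β (q 0)); rw [e]; group⟩

theorem Loc.autR (L : Loc q s r t R) (C : Core q s r t) {α : MulAut G} (h : α (q 0) = q 0) {x : G} (hx : x ∈ gen q s) :
    α x ∈ gen q s := by
  have c : ∀ y, α y ∈ gen q t ↔ y ∈ gen q t := fun y => by
    rw [← L.cen, mem_centralizer_singleton_iff, mem_centralizer_singleton_iff]
    conv_lhs => rw [← h, ← map_mul, ← map_mul, α.injective.eq_iff]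
  have n : ∀ k ∈ gen q t, ∀ y ∈ gen q s, ∃ y' ∈ gen q s, α y' = k * α y * k⁻¹ := fun k hk y hy =>
    ⟨_, (mem_normalizer_iff.mp (L.nrm ((c (α.symm k)).mp (by simpa using hk))) y).mp hy, by simp⟩
  obtain ⟨k, k1, hk⟩ := L.into (gen_mono q L.rt) (P := (gen q s).map α.toMonoidHom)
    (by rintro _ ⟨y, hy, rfl⟩; exact (c y).mpr (gen_mono q (L.sr.trans L.rt) hy)) ((L.pg L.sr).map _)
  have s1 : ∀ y ∈ gen q s, α y ∈ gen q r := fun y hy => by
    obtain ⟨y', a, b⟩ := n _ (inv_mem k1) y hy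
    have := hk _ ⟨y', a, b⟩
    simpa [mul_assoc] using this
  exact C _ (s1 x hx) fun k hk => (n k hk x hx).elim fun y ⟨a, b⟩ => b ▸ s1 y a

/-- the automorphisms fixing the letters of `l` -/
def Fx (q : ℕ → G) (l : List ℕ) : Subgroup (MulAut G) where
  carrier := {α | ∀ j ∈ l, α (q j) = q j}
  one_mem' _ _ := rfl
  mul_mem' ha hb j hj := by rw [MulAut.mul_apply, hb j hj, ha j hj]
  inv_mem' {a} ha j hj := by conv_lhs => rw [← ha j hj]
                             exact a.symm_apply_apply _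

theorem Fx.step {l : List ℕ} {y k : ℕ} (S : Finset G) (h : ∀ α ∈ Fx q l, α (q y) ∈ S) (hk : CardLE (Fx q (y :: l)) k) :
    CardLE (Fx q l) (S.card * k) :=
  cardLE_step (q y) S h (hk.of_le fun _ ha => List.forall_mem_cons.mpr ⟨ha.2, ha.1⟩)

theorem Loc.top (L : Loc q s r t R) {n k : ℕ} (hn : Nat.card G < (n + 1) * Nat.card (gen q t))
    (hk : CardLE (Fx q [0]) k) : Nat.card (MulAut G) ≤ n * k := by
  have e2 : stabilizer G (show Cj G from q 0) = gen q t := L.cen ▸ Subgroup.ext fun g =>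
    (conj_eq_iff (G := G)).trans mem_centralizer_singleton_iff.symm
  let O : Set G := (orbit G (show Cj G from q 0) : Set (Cj G))
  have h1 : O.ncard * Nat.card (gen q t) = Nat.card G := by
    rw [← e2, ← (stabilizer G (show Cj G from q 0)).index_mul_card, index_stabilizer]; rfl
  have := (Fx.step (l := []) O.toFinite.toFinset (fun α _ => O.toFinite.mem_toFinset.mpr (L.autz α)) hk).2
  rw [show Fx q [] = ⊤ from eq_top_iff.mpr fun _ _ _ h => (nomatch h), card_top, ← Set.ncard_eq_toFinset_card] at this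
  exact this.trans (Nat.mul_le_mul_right _ (Nat.le_of_lt_succ (Nat.lt_of_mul_lt_mul_right (h1 ▸ hn))))

/-- one more letter -/
def xt {α : Type*} (g : ℕ → α) (m : ℕ) (s : α) (j : ℕ) : α := Nat.rec s (fun _ _ => g j) (Nat.xor j m)

theorem Md.xt (M : Md pt N B g T m) {x : G} {f : ℕ → ℕ} (h : Rep pt N x f) : Md pt N B (xt g m x) (xt T m f) (m + 1) :=
  ⟨M.inj, M.lt, M.base, fun j hj => by
    unfold Ct.xt
    rw [rec_xor, rec_xor]
    split_ifs with e
    exacts [h, M.reps j (by omega)]⟩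

/-- the word `w` in the letters and `f` is trivial -/
noncomputable def tsE (Q : ℕ → ℕ → ℕ) (B : List ℕ) (m : ℕ) (f : ℕ → ℕ) (w : List ℕ) : ℕ :=
  eqI (agF B (trF (xt Q m f) w) fun x => x) (nat_lit 0)

theorem Md.ts (M : Md pt N B q Q m) {l w : List ℕ} (hl : ∀ j ∈ l, j < m) (hw : ∀ j ∈ w, j ∈ m :: l) {α : MulAut G}
    (ha : α ∈ Fx q l) {x : G} {f f' : ℕ → ℕ} (h : Rep pt N x f) (h' : Rep pt N (α x) f') : tsE Q B m f' w = tsE Q B m f w := by
  have w1 : ∀ j ∈ w, j < m + 1 := fun j hj => (List.mem_cons.mp (hw j hj)).elim (fun e => by omega)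
    fun e => (hl j e).trans (by omega)
  have e : α (ev (Ct.xt q m x) w) = ev (Ct.xt q m (α x)) w := (ev_map α.toMonoidHom _ w).trans (ev_congr fun j hj => by
    unfold Ct.xt
    rw [rec_xor, rec_xor]
    split_ifs with e
    exacts [rfl, ha j ((List.mem_cons.mp (hw j hj)).resolve_left e)])
  rw [tsE, tsE, eqI_eq, eqI_eq, trF_eq, trF_eq]
  congr 1
  exact propext ((M.eqF ((M.xt h').reps.ev w1) Rep.one).trans (by
    rw [← e, map_eq_one_iff α α.injective]; exact (M.eqF ((M.xt h).reps.ev w1) Rep.one).symm))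

noncomputable def cdF (Q : ℕ → ℕ → ℕ) (s a a' c x : ℕ) : ℕ :=
  force (Q a' x) fun x => force (trp Q (nat_lit 2) s (nat_lit 0) c x) (Q a)

noncomputable def lvS (Q : ℕ → ℕ → ℕ) (B : List ℕ) (m s : ℕ) (l : List ℕ) (y a a' : ℕ) (aw yw : List ℕ)
    (ts : List (List ℕ)) : ℕ :=
  Nat.add (Nat.add (Nat.add (eqE Q B m aw [a', nat_lit 0, a]) (eqE Q B m [a, a'] []))
    (Nat.add (eqE Q B m [a, y] (yw ++ [a])) (lettE s yw)))
    (Nat.add (Nat.add (lettE m l) (allE (fun j => memE j l) aw)) (allE (allE fun j => memE j (m :: l)) ts))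

noncomputable def lvE (Q : ℕ → ℕ → ℕ) (B : List ℕ) (m s y a a' : ℕ) (ts : List (List ℕ)) (Z : ℕ → ℕ) (c : ℕ) : ℕ :=
  Nat.rec (nat_lit 0) (fun k _ => eqI (tsE Q B m (cdF Q s a a' c) (ts.getD k [])) (tsE Q B m (Q y) (ts.getD k []))) (Z c)

theorem Md.lvl (M : Md pt N B q Q m) (L : Loc q s r t R) (C : Core q s r t) (tm : t ≤ m) {l : List ℕ} (y a a' : ℕ)
    (aw yw : List ℕ) (ts : List (List ℕ)) (Z : ℕ → ℕ) (ps n : ℕ) {k : ℕ} (hp : ps = 2 ^ s)
    (h : Nat.beq (Nat.add (Nat.add (lvS Q B m s l y a a' aw yw ts) (upTo (lvE Q B m s y a a' ts Z) ps))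
      (Nat.xor (cnt Z (nat_lit 0) ps) n)) (nat_lit 0) = true)
    (hk : CardLE (Fx q (y :: l)) k) : CardLE (Fx q l) (n * k) := by
  classical
  obtain ⟨h1, h3⟩ := add_eq_zero' (Nat.eq_of_beq_eq_true h)
  obtain ⟨h1, h2⟩ := add_eq_zero' h1
  obtain ⟨t1, t5⟩ := add_eq_zero' h1
  obtain ⟨t1, t3⟩ := add_eq_zero' t1
  obtain ⟨t1, t2⟩ := add_eq_zero' t1
  obtain ⟨t3, t4⟩ := add_eq_zero' t3
  obtain ⟨t5, t7⟩ := add_eq_zero' t5
  obtain ⟨t5, t6⟩ := add_eq_zero' t5
  have la := lettE_zero (add_eq_zero' (add_eq_zero' t2).1).1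
  have ly := lettE_zero (add_eq_zero' (add_eq_zero' t3).1).1 y (by simp)
  have e1 := M.eq t1
  have e2 := M.eq t2
  have e3 := M.eq t3
  simp only [ev_append, ev_cons, ev_nil, one_mul] at e1 e2 e3
  replace e2 := eq_inv_of_mul_eq_one_left e2
  rw [e2] at e1
  refine (Fx.step (((Finset.range ps).filter fun c => Z c = 0).image fun c => q a * (evp q 2 s 0 c * q a'))
    (fun α hα => ?_) hk).mono (Nat.mul_le_mul_right _ (Finset.card_image_le.trans (by
      rw [← cnt_eq]; exact (xor_eq_zero' h3).le)))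
  have e4 : α (ev q aw) = ev q aw := (ev_map α.toMonoidHom q aw).trans
    (ev_congr fun j hj => hα j (memE_zero (allE_zero t6 j hj)))
  have e5 := L.autR C (α := (MulAut.conj (q a))⁻¹ * α * MulAut.conj (q a)) (by
    show (q a)⁻¹ * α (q a * q 0 * (q a)⁻¹) * q a = _
    rw [← e1, e4, e1]; group) (ev_mem_gen q (lettE_zero t4))
  obtain ⟨c, hc, e6⟩ := L.nf two_pos L.sr e5
  have e7 : α (q y) = q a * (evp q 2 s 0 c * q a') := by
    rw [← e6, e2, eq_mul_inv_of_mul_eq e3]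
    show _ = q a * ((q a)⁻¹ * α (q a * ev q yw * (q a)⁻¹) * q a * _)
    group
  refine Finset.mem_image.mpr ⟨c, Finset.mem_filter.mpr ⟨Finset.mem_range.mpr (hp ▸ hc), ?_⟩, e7.symm⟩
  have e8 := upTo_zero h2 c (hp ▸ hc)
  unfold lvE at e8
  rcases hz : Z c with _ | i
  · rfl
  have rt := L.rt
  have sr := L.sr
  rw [hz] at e8
  change eqI _ _ = 0 at e8
  rw [M.ts (lettE_zero t5) (fun j hj => ?_) hα (M.reps y ly) (f' := cdF Q s a a' c) (e7 ▸ (M.reps a (la a (by simp))).mul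
    ((rep_evp M.reps 2 s 0 c (by omega)).mul (M.reps a' (la a' (by simp))))), eqI_eq, if_pos rfl] at e8
  · cases e8
  · rw [List.getD_eq_getElem?_getD] at hj
    rcases e9 : ts[i]? with _ | w <;> rw [e9] at hj
    · cases hj
    · exact memE_zero (allE_zero (allE_zero t7 w (List.mem_of_getElem? e9)) j hj)

noncomputable def enE (T Q : ℕ → ℕ → ℕ) (B : List ℕ) (m : ℕ) (l : List ℕ) (V : ℕ → List ℕ) (j : ℕ) : ℕ :=
  Nat.add (Nat.add (lettE m (V j)) (allE (fun i => memE i l) (V j))) (agF B (T j) (trF Q (V j)))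

theorem Md.fin {m0 : ℕ} (M0 : Md pt N B g T m0) (top : gen g m0 = ⊤) (M : Md pt N B q Q m) {l : List ℕ} (V : ℕ → List ℕ)
    (h : Nat.beq (upTo (enE T Q B m l V) m0) (nat_lit 0) = true) : CardLE (Fx q l) 1 := cardLE_of_eq_one fun α hα =>
  MulEquiv.toMonoidHom_injective (MonoidHom.eq_of_eqOn_dense top (by
    rintro _ ⟨j, hj, rfl⟩
    obtain ⟨h1, h2⟩ := add_eq_zero' (upTo_beq h j hj)
    obtain ⟨h1, h3⟩ := add_eq_zero' h1
    rw [(M.eqF (M0.reps j hj) (M.rw h1)).mp h2]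
    exact (ev_map α.toMonoidHom q _).trans (ev_congr fun i hi => hα i (memE_zero (allE_zero h3 i hi)))))

theorem out_mul (ctr : center G = ⊥) : Nat.card (MulAut G) = Nat.card (Cfsg.Out G) * Nat.card G := by
  rw [card_eq_card_quotient_mul_card_subgroup (Cfsg.Inn G), ← Nat.card_congr (MonoidHom.ofInjective
    ((injective_iff_map_eq_one (MulAut.conj : G →* MulAut G)).mpr fun a ha => mem_bot.mp (ctr ▸ mem_center_iff.mpr fun g =>
    (conj_eq_iff.mp (congrArg (fun α : MulAut G => α g) ha)).eq.symm))).toEquiv]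

theorem out_one (ctr : center G = ⊥) {k : ℕ} (h : Nat.card (MulAut G) ≤ k) (hk : k < 2 * Nat.card G) :
    Nat.card (Cfsg.Out G) = 1 := by
  have := Nat.lt_of_mul_lt_mul_right (out_mul ctr ▸ h.trans_lt hk)
  have : 0 < Nat.card (Cfsg.Out G) := Nat.card_pos
  omega

theorem out_two (ctr : center G = ⊥) {k : ℕ} (h : Nat.card (MulAut G) ≤ k) (hk : k < 3 * Nat.card G) {α : MulAut G}
    (hα : ∀ c : G, MulAut.conj c ≠ α) : Nat.card (Cfsg.Out G) = 2 := by
  have := Nat.lt_of_mul_lt_mul_right (out_mul ctr ▸ h.trans_lt hk)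
  have : Nontrivial (Cfsg.Out G) := ⟨⟨(α : Cfsg.Out G), 1, fun e => ((QuotientGroup.eq_one_iff α).mp e).elim hα⟩⟩
  have : 1 < Nat.card (Cfsg.Out G) := Finite.one_lt_card
  omega

theorem out_congr {K : Type*} [Group K] (ctr : center G = ⊥) (e : G ≃* K) : Nat.card (Cfsg.Out K) = Nat.card (Cfsg.Out G) := by
  have := Finite.of_equiv _ e.toEquiv
  have h := out_mul (G := K) (by
    rw [eq_bot_iff_forall] at ctr ⊢
    exact fun x hx => e.symm.injective ((ctr _ (mem_center_iff.mpr fun g => e.injective (by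
      simpa using mem_center_iff.mp hx (e g)))).trans (map_one _).symm))
  rw [← Nat.card_congr (MulAut.congr e).toEquiv, out_mul ctr, Nat.card_congr e.toEquiv] at h
  exact (Nat.eq_of_mul_eq_mul_right Nat.card_pos h).symm

/-- the permutation `π` of the labels normalizes the group -/
noncomputable def nzE (T : ℕ → ℕ → ℕ) (N m : ℕ) (π π' : ℕ → ℕ) (W : ℕ → List ℕ) (c : ℕ) : ℕ :=
  force (π c) fun d => Nat.add (Nat.add (ltE d N) (Nat.xor (π' d) c))
    (lin (fun j => Nat.xor (trF T (W j) d) (force (T j c) π)) (nat_lit 0) m)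

/-- the letters `U j` fix only the point `x` -/
noncomputable def ufE (T : ℕ → ℕ → ℕ) (U : List (List ℕ)) (x c : ℕ) : ℕ :=
  Nat.mul (Nat.xor c x) (eqI (allE (fun w => Nat.xor (trF T w c) c) U) (nat_lit 0))

theorem Md.outer (M : Md pt N B g T m) (top : gen g m = ⊤) {π π' : ℕ → ℕ} {W : ℕ → List ℕ}
    (h0 : lin (fun j => lettE m (W j)) (nat_lit 0) m = 0) (h : ∀ c < N, nzE T N m π π' W c = 0) {U : List (List ℕ)} {x : ℕ}
    (hx : x < N) (h1 : allE (fun w => Nat.add (lettE m w) (Nat.xor (trF T w x) x)) U = 0) (h2 : ∀ c < N, ufE T U x c = 0) :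
    ∃ α : MulAut G, ∀ c : G, MulAut.conj c = α → ∀ a : G, ∀ i < N, a • pt x = pt i → c • pt i = pt (π i) := by
  have p1 : ∀ c < N, π c < N ∧ π' (π c) = c := fun c hc =>
    have := add_eq_zero' (add_eq_zero' (h c hc)).1; ⟨ltE_zero this.1, xor_eq_zero' this.2⟩
  have p2 : ∀ i < N, ∀ j < N, π i = π j → i = j := fun i hi j hj e => by rw [← (p1 i hi).2, e, (p1 j hj).2]
  have p3 : ∀ d < N, ∃ c < N, π c = d := fun d hd => by
    obtain ⟨c, e⟩ := Finite.surjective_of_injective (f := fun c : Fin N => (⟨π c, (p1 c c.2).1⟩ : Fin N))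
      (fun a b e => Fin.ext (p2 _ a.2 _ b.2 (congrArg Fin.val e))) ⟨d, hd⟩
    exact ⟨c, c.2, congrArg Fin.val e⟩
  obtain ⟨φ, -, -, f3, f4⟩ := hom_of_tables (py := fun i => pt (π i)) (h := fun j => ev g (W j)) M.reps
    (fun j hj c hc => ⟨(M.reps j hj c hc).1, by
      rw [(M.rw (lin_zero h0 j hj) _ (p1 c hc).1).2, xor_eq_zero' (lin_zero (add_eq_zero' (h c hc)).2 j hj)]; rfl⟩)
    M.inj (fun i hi j hj e => p2 i hi j hj (M.inj _ (p1 i hi).1 _ (p1 j hj).1 e))
    fun b _ hb => M.base b fun d hd => by obtain ⟨c, hc, rfl⟩ := p3 d (M.lt d hd); exact hb c hc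
  let ψ : G →* G := φ.comp ((MonoidHom.id G).codRestrict _ fun a => top ▸ mem_top a)
  have i1 : Function.Injective ψ := (injective_iff_map_eq_one _).mpr fun a ha =>
    M.base a fun b hb => (f3 _).mp ha b (M.lt b hb)
  refine ⟨MulEquiv.ofBijective ψ (Finite.injective_iff_bijective.mp i1), fun c hc => ?_⟩
  have k : ∀ a : G, ∀ i < N, a • pt x = pt i → (c * a * c⁻¹) • pt (π x) = pt (π i) := fun a i hi e => by
    obtain ⟨d, hd, e1, e2⟩ := f4 ⟨a, top ▸ mem_top a⟩ x hx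
    rw [M.inj _ hi _ hd (e.symm.trans e1), ← e2]
    exact congrArg (· • pt (π x)) (congrArg (fun α : MulAut G => α a) hc)
  obtain ⟨y, hy, e⟩ := M.reps.orbit_sub M.inj (p1 x hx).1 (a := c⁻¹) (top ▸ mem_top _)
  have : y = x := by
    refine xor_eq_zero' ((mul_eq_zero' (h2 y hy)).resolve_right fun e' => ?_)
    have : ∀ V : List (List ℕ), (∀ w ∈ V, w ∈ U) → allE (fun w => Nat.xor (trF T w y) y) V = 0 := fun V => by
      induction V with
      | nil => exact fun _ => rfl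
      | cons w V ih =>
        intro hV
        obtain ⟨a1, a2⟩ := add_eq_zero' (allE_zero h1 w (hV w List.mem_cons_self))
        have a3 := k _ x hx ((M.rw a1).smul_eq hx (xor_eq_zero' a2))
        rw [mul_smul, mul_smul, e, smul_eq_iff_eq_inv_smul, e, (M.rw a1 y hy).2] at a3
        show Nat.xor (trF T w y) y + allE _ V = 0
        rw [ih fun v hv => hV v (List.mem_cons_of_mem _ hv), M.inj _ (M.rw a1 y hy).1 _ hy a3]
        exact Nat.xor_self y
    rw [this U fun _ h => h] at e'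
    cases e'
  intro a i hi e'
  rw [← k a i hi e', mul_smul, mul_smul, e, this, e']

/-- a non-inner automorphism: `π` fixes the base but moves `y`, or moves `x` out of its orbit -/
theorem Md.outer1 (M : Md pt N B g T m) {π : ℕ → ℕ} {x : ℕ} {α : MulAut G}
    (h : ∀ c : G, MulAut.conj c = α → ∀ a : G, ∀ i < N, a • pt x = pt i → c • pt i = pt (π i))
    (tr : ∀ i < N, ∃ a : G, a • pt x = pt i) (hB : ∀ b ∈ B, π b = b) {y : ℕ} (hy : y < N ∧ π y < N ∧ π y ≠ y) (c : G) :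
    MulAut.conj c ≠ α := fun e => by
  have k : ∀ i < N, c • pt i = pt (π i) := fun i hi => (tr i hi).elim fun a => h c e a i hi
  have := k y hy.1
  rw [M.base c fun b hb => by rw [k b (M.lt b hb), hB b hb], one_smul] at this
  exact hy.2.2 (M.inj _ hy.2.1 _ hy.1 this.symm)

theorem Md.outer2 (M : Md pt N B g T m) (top : gen g m = ⊤) {π : ℕ → ℕ} {x : ℕ} {α : MulAut G}
    (h : ∀ c : G, MulAut.conj c = α → ∀ a : G, ∀ i < N, a • pt x = pt i → c • pt i = pt (π i)) {O : List ℕ}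
    (h1 : invL T N m O = 0) (hx : x ∈ O ∧ π x < N ∧ π x ∉ O) (c : G) : MulAut.conj c ≠ α := fun e => by
  obtain ⟨h2, h3⟩ := invL_main M.reps M.inj h1
  obtain ⟨y, hy, e'⟩ := h3 c (top ▸ mem_top c) x hx.1
  rw [h c e 1 x (h2 x hx.1) (one_smul _ _)] at e'
  exact hx.2.2 (M.inj _ hx.2.1 _ (h2 y hy) e' ▸ hy)

end Cfsg.Agent.Ct
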