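import Cfsg.Agent.Lib.Cert.Mod2

/-! Invariance of the class of a 2-central involution; completeness of the class table from a chain in the centralizer. -/

set_option autoImplicit false
set_option linter.unusedSectionVars false

namespace Cfsg.Agent.Ct

open Cfsg.Agent.PC Cfsg.Agent.Fi MulAction Subgroup

variable {G X : Type*} [Group G] [MulAction G X] {pt : ℕ → X} {N m : ℕ} {B : List ℕ} {g q : ℕ → G} {T Q : ℕ → ℕ → ℕ}
  [Finite G] {σ σ' V : ℕ → ℕ} {z n : ℕ}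

/-- the element number `c` is trivial, or not central (`Z c = 64 * point + 2 * letter`), or conjugate to the letter `0` -/
noncomputable def auE (Q : ℕ → ℕ → ℕ) (B : List ℕ) (N p r : ℕ) (σ σ' : ℕ → ℕ) (Z : ℕ → ℕ) (c : ℕ) : ℕ :=
  force (Z c) fun v => force (Nat.shiftRight v (nat_lit 1)) fun u => force (Nat.land u (nat_lit 31)) fun j =>
    force (Nat.shiftRight u (nat_lit 5)) fun b => Nat.mul c (Nat.rec
      (Nat.add (Nat.add (ltE b N) (ltE j r))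
        (eqI (force (Q j b) (trp Q p r (nat_lit 0) c)) (force (trp Q p r (nat_lit 0) c b) (Q j))))
      (fun _ _ => agF B (cjT (fun d => Q (σ d)) (fun d => Q (σ' d)) (Q (nat_lit 0)) j b) (trp Q p r (nat_lit 0) c))
      (Nat.land v (nat_lit 1)))

theorem Md.au (M : Md pt N B q Q m) {p r : ℕ} [Fact p.Prime] {R : ℕ → List ℕ} (S : Sy q p r R) (h0 : 0 < r ∧ r ≤ m)
    {K : List ℕ} (h1 : clS Q B σ σ' N m 0 K = 0) {Z : ℕ → ℕ} {pr : ℕ} (hp : pr = p ^ r)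
    (h2 : ∀ c < pr, auE Q B N p r σ σ' Z c = 0) (h3 : lin (fun j => eqE Q B m [nat_lit 0, j] [j, nat_lit 0]) (nat_lit 0) r = 0) :
    Au (q 0) := fun α => by
  have p0 : 0 < p := (Fact.out : p.Prime).pos
  obtain ⟨k, -, hk⟩ := S.into le_top le_top ((IsPGroup.of_card (S.card Fact.out le_rfl)).map α.toMonoidHom)
  let β : MulAut G := MulAut.conj k * α
  have e1 : (gen q r).map β.toMonoidHom = gen q r := eq_of_le_of_card_ge
    (by rintro _ ⟨x, hx, rfl⟩; exact hk _ ⟨x, hx, rfl⟩) (card_map_of_injective β.injective).ge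
  obtain ⟨c, hc, e⟩ := S.nf p0 le_rfl (e1.le ⟨_, mem_gen q h0.1, rfl⟩)
  change β (q 0) = _ at e
  have r1 := rep_evp M.reps p r 0 c (by omega)
  rcases mul_eq_zero' (h2 c (hp ▸ hc)) with rfl | e2
  · rw [evp_zero, map_eq_one_iff β β.injective] at e
    exact absurd (e ▸ one_mem _) (S.str 0 h0.1)
  change Nat.rec (motive := fun _ => ℕ) _ _ (Z c &&& 1) = 0 at e2
  rcases hv : Z c &&& 1 with _ | b <;> rw [hv] at e2
  · obtain ⟨e2, e3⟩ := add_eq_zero' e2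
    obtain ⟨e2, e4⟩ := add_eq_zero' e2
    obtain ⟨y, hy, e5⟩ := e1.ge (mem_gen q (ltE_zero e4))
    have e6 := (comm_gen (x := q 0) (fun j hj => by simpa [Commute, SemiconjBy] using (M.eq (lin_zero h3 j hj)).symm) y hy).map β
    rw [e, show β y = _ from e5] at e6
    have r2 := M.reps _ ((ltE_zero e4).trans_le h0.2)
    have a1 := r1.mul r2 _ (ltE_zero e2)
    have a2 := r2.mul r1 _ (ltE_zero e2)
    rw [eqI_eq, if_pos (by exact M.inj _ a1.1 _ a2.1 (a1.2.symm.trans (e6.eq ▸ a2.2)))] at e3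
    cases e3
  · obtain ⟨a, -, ha⟩ := cjw_conj (L := ⊤) (a := fun d => q (σ d)) (fun _ _ => trivial) (q 0) _ _
    rw [(M.eqF (M.sg h1 _ _ (M.reps 0 (by omega))) r1).mp e2, ← e] at ha
    exact ⟨k⁻¹ * a, by
      rw [show k⁻¹ * a * q 0 * (k⁻¹ * a)⁻¹ = k⁻¹ * (a * q 0 * a⁻¹) * k by group, ha]; simp [β, mul_assoc]⟩

theorem Md.cl2 (M : Md pt N B q Q m) {K : List ℕ} (h1 : clS Q B σ σ' N m z K = 0)
    (h2 : ∀ c < n, clE Q σ σ' N z K V c = 0) {q' : ℕ → G} {Q' : ℕ → ℕ → ℕ} {r M' : ℕ} (R : Reps pt N q' Q' r) {t : List Lev}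
    (h3 : Nat.add (chainE Q' N M' t r)
      (lin (fun j => agF B (fun x => force (Q' j x) (Q z)) fun x => force (Q z x) (Q' j)) (nat_lit 0) r) = 0)
    (h4 : Nat.card G < (n + 2) * chainN t) : Cl q σ z V (n + 1) := by
  obtain ⟨h3, h5⟩ := add_eq_zero' h3
  have rz := M.reps z (ltE_zero (add_eq_zero' (add_eq_zero' h1).2).1)
  exact M.cl h1 h2 dvd_rfl (h4.trans_le (Nat.mul_le_mul_left _ (chain_le_card M.inj R h3 _ (gen_le fun j hj =>
    mem_centralizer_singleton_iff.mpr ((M.eqF (rz.mul (R j hj)) ((R j hj).mul rz)).mp (lin_zero h5 j hj)).symm))))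

theorem Md.outer4 (M : Md pt N B g T m) {π : ℕ → ℕ} {x : ℕ} {α : MulAut G}
    (h : ∀ c : G, MulAut.conj c = α → ∀ a : G, ∀ i < N, a • pt x = pt i → c • pt i = pt (π i)) {w : List ℕ} {y : ℕ}
    {O : ℕ → ℕ} (hs : orbit (stabilizer G (pt x)) (pt y) = pt '' {d | d < N ∧ O d = O y})
    (h1 : lettE m w = 0 ∧ trF T w x = y ∧ x < N ∧ π x = x ∧ π y < N ∧ O (π y) ≠ O y) (c : G) : MulAut.conj c ≠ α := fun e => by
  obtain ⟨a1, rfl, a2, a3, a4, a5⟩ := h1
  have r := M.rw a1 x a2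
  obtain ⟨d, ⟨hd, e1⟩, e2⟩ := hs.le ⟨⟨c, (h c e 1 x a2 (one_smul _ _)).trans (by rw [a3])⟩, h c e _ _ r.1 r.2⟩
  exact a5 (M.inj _ hd _ a4 e2 ▸ e1)

end Cfsg.Agent.Ct
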