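import Cfsg.Agent.Lib.Cert.J3f.L
import Cfsg.Agent.Lib.Cert.Shape2
import Cfsg.Agent.Lib.Cert.Sch2

set_option autoImplicit false
set_option maxRecDepth 100000

namespace Cfsg.Agent.Ct.J3c

open Cfsg.Agent.PC

open Cfsg.Agent.Fi Cfsg.Agent.Ct
def W_t : TL := (TL.node (TL.node (TL.node (TL.leaf [nat_lit 0]) (TL.leaf [nat_lit 4])) (TL.node (TL.leaf [nat_lit 2]) (TL.leaf [nat_lit 5, nat_lit 7, nat_lit 5, nat_lit 6, nat_lit 6, nat_lit 6, nat_lit 6, nat_lit 6, nat_lit 6, nat_lit 6, nat_lit 7, nat_lit 7, nat_lit 7, nat_lit 3, nat_lit 6, nat_lit 7]))) (TL.node (TL.node (TL.leaf [nat_lit 1]) (TL.leaf [nat_lit 6, nat_lit 6, nat_lit 6, nat_lit 6, nat_lit 6, nat_lit 6, nat_lit 6, nat_lit 5, nat_lit 7, nat_lit 3, nat_lit 6, nat_lit 7, nat_lit 7, nat_lit 7, nat_lit 5, nat_lit 6])) (TL.leaf [nat_lit 3])))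
noncomputable def W (i : ℕ) : List ℕ := TL.get W_t i
def K_t1 : TL := (TL.node (TL.node (TL.node (TL.node (TL.node (TL.node (TL.leaf []) (TL.leaf [])) (TL.node (TL.leaf []) (TL.leaf []))) (TL.node (TL.node (TL.leaf [nat_lit 8, nat_lit 10, nat_lit 8, nat_lit 8, nat_lit 11, nat_lit 8, nat_lit 11, nat_lit 9, nat_lit 9]) (TL.leaf [])) (TL.node (TL.leaf []) (TL.leaf [nat_lit 9, nat_lit 9, nat_lit 11, nat_lit 8, nat_lit 11, nat_lit 9, nat_lit 9, nat_lit 10, nat_lit 9, nat_lit 9])))) (TL.node (TL.node (TL.node (TL.leaf []) (TL.leaf [])) (TL.node (TL.leaf []) (TL.leaf []))) (TL.node (TL.node (TL.leaf []) (TL.leaf [nat_lit 11, nat_lit 11, nat_lit 11, nat_lit 8, nat_lit 10, nat_lit 9, nat_lit 9, nat_lit 9, nat_lit 10, nat_lit 10])) (TL.node (TL.leaf []) (TL.leaf []))))) (TL.node (TL.node (TL.node (TL.node (TL.leaf []) (TL.leaf [])) (TL.node (TL.leaf [nat_lit 9, nat_lit 10, nat_lit 10, nat_lit 10, nat_lit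 9, nat_lit 11, nat_lit 11, nat_lit 11, nat_lit 11, nat_lit 8]) (TL.leaf []))) (TL.node (TL.node (TL.leaf [nat_lit 8, nat_lit 11, nat_lit 8, nat_lit 11, nat_lit 8, nat_lit 8, nat_lit 10, nat_lit 9]) (TL.leaf [])) (TL.node (TL.leaf []) (TL.leaf [])))) (TL.node (TL.node (TL.node (TL.leaf []) (TL.leaf [])) (TL.node (TL.leaf [nat_lit 11, nat_lit 11, nat_lit 8, nat_lit 11, nat_lit 8, nat_lit 8, nat_lit 10, nat_lit 9, nat_lit 9]) (TL.leaf []))) (TL.node (TL.node (TL.leaf [nat_lit 10, nat_lit 9, nat_lit 10, nat_lit 10, nat_lit 8, nat_lit 8, nat_lit 11, nat_lit 8, nat_lit 8]) (TL.leaf [nat_lit 8, nat_lit 8, nat_lit 8, nat_lit 11, nat_lit 8, nat_lit 8, nat_lit 8, nat_lit 11, nat_lit 8, nat_lit 11])) (TL.node (TL.leaf []) (TL.leaf [nat_lit 10, nat_lit 9, nat_lit 11, nat_lit 8, nat_lit 11])))))) (TL.node (TL.node (TL.node (TL.node (TL.node (TL.leaf [nat_lit 9, nat_lit 11, nat_lit 8, nat_lit 10, nat_lit 9, nat_lit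 10, nat_lit 9, nat_lit 9, nat_lit 11]) (TL.leaf [])) (TL.node (TL.leaf []) (TL.leaf []))) (TL.node (TL.node (TL.leaf []) (TL.leaf [])) (TL.node (TL.leaf []) (TL.leaf [nat_lit 9, nat_lit 9, nat_lit 11, nat_lit 8, nat_lit 10, nat_lit 9, nat_lit 10])))) (TL.node (TL.node (TL.node (TL.leaf []) (TL.leaf [])) (TL.node (TL.leaf []) (TL.leaf []))) (TL.node (TL.node (TL.leaf [nat_lit 9, nat_lit 9, nat_lit 10, nat_lit 9, nat_lit 9, nat_lit 9, nat_lit 9, nat_lit 11, nat_lit 11]) (TL.leaf [nat_lit 8, nat_lit 8, nat_lit 10, nat_lit 9, nat_lit 9, nat_lit 10, nat_lit 9, nat_lit 10, nat_lit 10, nat_lit 9])) (TL.node (TL.leaf []) (TL.leaf []))))) (TL.node (TL.node (TL.node (TL.node (TL.leaf []) (TL.leaf [])) (TL.node (TL.leaf [nat_lit 10, nat_lit 8, nat_lit 11, nat_lit 11, nat_lit 8, nat_lit 8, nat_lit 11, nat_lit 11]) (TL.leaf []))) (TL.node (TL.node (TL.leaf []) (TL.leaf [])) (TL.node (TL.leaf []) (TL.leaf []))))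 (TL.node (TL.node (TL.node (TL.leaf []) (TL.leaf [])) (TL.node (TL.leaf [nat_lit 11, nat_lit 8, nat_lit 10, nat_lit 10, nat_lit 10, nat_lit 9, nat_lit 9, nat_lit 10, nat_lit 10, nat_lit 8]) (TL.leaf []))) (TL.node (TL.node (TL.leaf []) (TL.leaf [nat_lit 9, nat_lit 9, nat_lit 9, nat_lit 11, nat_lit 9, nat_lit 9, nat_lit 9, nat_lit 9])) (TL.node (TL.leaf []) (TL.leaf [nat_lit 8, nat_lit 11, nat_lit 11, nat_lit 9, nat_lit 9, nat_lit 10, nat_lit 10, nat_lit 8])))))))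
def K_t2 : TL := (TL.node (TL.node (TL.node (TL.node (TL.node (TL.node (TL.leaf []) (TL.leaf [])) (TL.node (TL.leaf []) (TL.leaf []))) (TL.node (TL.node (TL.leaf [nat_lit 11, nat_lit 8, nat_lit 11, nat_lit 9, nat_lit 9, nat_lit 10, nat_lit 10, nat_lit 10]) (TL.leaf [])) (TL.node (TL.leaf []) (TL.leaf [nat_lit 8, nat_lit 8, nat_lit 8, nat_lit 11, nat_lit 9, nat_lit 9, nat_lit 11, nat_lit 9, nat_lit 9, nat_lit 11])))) (TL.node (TL.node (TL.node (TL.leaf []) (TL.leaf [])) (TL.node (TL.leaf []) (TL.leaf []))) (TL.node (TL.node (TL.leaf []) (TL.leaf [nat_lit 10, nat_lit 9, nat_lit 10, nat_lit 8, nat_lit 11, nat_lit 8, nat_lit 8, nat_lit 10])) (TL.node (TL.leaf []) (TL.leaf []))))) (TL.node (TL.node (TL.node (TL.node (TL.leaf []) (TL.leaf [])) (TL.node (TL.leaf [nat_lit 10, nat_lit 9, nat_lit 10, nat_lit 8, nat_lit 11]) (TL.leaf []))) (TL.node (TL.node (TL.leaf [nat_lit 8, nat_lit 8, nat_lit 8, nat_lit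 11, nat_lit 8, nat_lit 11, nat_lit 11, nat_lit 11, nat_lit 11, nat_lit 8]) (TL.leaf [])) (TL.node (TL.leaf []) (TL.leaf [])))) (TL.node (TL.node (TL.node (TL.leaf []) (TL.leaf [])) (TL.node (TL.leaf [nat_lit 10, nat_lit 10, nat_lit 10, nat_lit 9, nat_lit 9, nat_lit 11, nat_lit 8]) (TL.leaf []))) (TL.node (TL.node (TL.leaf [nat_lit 11, nat_lit 11, nat_lit 11, nat_lit 8, nat_lit 8, nat_lit 10, nat_lit 9, nat_lit 10]) (TL.leaf [nat_lit 9, nat_lit 9, nat_lit 11, nat_lit 11, nat_lit 9, nat_lit 9, nat_lit 11, nat_lit 11, nat_lit 9])) (TL.node (TL.leaf []) (TL.leaf [nat_lit 8, nat_lit 8, nat_lit 8, nat_lit 8, nat_lit 8, nat_lit 10, nat_lit 9, nat_lit 11, nat_lit 11, nat_lit 8, nat_lit 8])))))) (TL.node (TL.node (TL.node (TL.node (TL.node (TL.leaf [nat_lit 8, nat_lit 11, nat_lit 9, nat_lit 9, nat_lit 9, nat_lit 9, nat_lit 11, nat_lit 8, nat_lit 10, nat_lit 8]) (TL.leaf [])) (TL.node (TL.leaf []) (TL.leaf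 []))) (TL.node (TL.node (TL.leaf []) (TL.leaf [])) (TL.node (TL.leaf []) (TL.leaf [nat_lit 10, nat_lit 9, nat_lit 9, nat_lit 9, nat_lit 9, nat_lit 9, nat_lit 9, nat_lit 9, nat_lit 10, nat_lit 10])))) (TL.node (TL.node (TL.node (TL.leaf []) (TL.leaf [])) (TL.node (TL.leaf []) (TL.leaf []))) (TL.node (TL.node (TL.leaf [nat_lit 10, nat_lit 9, nat_lit 10, nat_lit 10, nat_lit 9, nat_lit 9, nat_lit 11, nat_lit 11]) (TL.leaf [nat_lit 11, nat_lit 8, nat_lit 11, nat_lit 9, nat_lit 10, nat_lit 8, nat_lit 8])) (TL.node (TL.leaf []) (TL.leaf []))))) (TL.node (TL.node (TL.node (TL.node (TL.leaf []) (TL.leaf [])) (TL.node (TL.leaf [nat_lit 8, nat_lit 11, nat_lit 9, nat_lit 9, nat_lit 9, nat_lit 11, nat_lit 9, nat_lit 10, nat_lit 10]) (TL.leaf []))) (TL.node (TL.node (TL.leaf []) (TL.leaf [])) (TL.node (TL.leaf []) (TL.leaf [])))) (TL.node (TL.node (TL.node (TL.leaf []) (TL.leaf [])) (TL.node (TL.leaf [nat_lit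 9, nat_lit 9, nat_lit 9, nat_lit 10, nat_lit 9, nat_lit 11, nat_lit 8, nat_lit 11, nat_lit 11]) (TL.leaf []))) (TL.node (TL.node (TL.leaf []) (TL.leaf [nat_lit 9, nat_lit 11, nat_lit 11, nat_lit 11, nat_lit 8, nat_lit 10, nat_lit 8])) (TL.node (TL.leaf []) (TL.leaf [nat_lit 8, nat_lit 8, nat_lit 8, nat_lit 11, nat_lit 9, nat_lit 9, nat_lit 9, nat_lit 10, nat_lit 10])))))))
def K_t : TL := (TL.node K_t1 K_t2)
noncomputable def K (i : ℕ) : List ℕ := TL.get K_t i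
def Z_t : TN := (TN.leaf (nat_lit 0))
noncomputable def Z (i : ℕ) : ℕ := get9 Z_t (nat_lit 1) (nat_lit 1) i
def U_t1 : TL := (TL.node (TL.node (TL.node (TL.node (TL.node (TL.node (TL.leaf [nat_lit 0]) (TL.leaf [nat_lit 0])) (TL.node (TL.leaf [nat_lit 0]) (TL.leaf [nat_lit 0]))) (TL.node (TL.node (TL.leaf [nat_lit 0]) (TL.leaf [nat_lit 0])) (TL.leaf [nat_lit 0]))) (TL.node (TL.node (TL.node (TL.leaf []) (TL.leaf [])) (TL.node (TL.leaf []) (TL.leaf []))) (TL.node (TL.node (TL.leaf []) (TL.leaf [])) (TL.leaf [])))) (TL.node (TL.node (TL.node (TL.node (TL.leaf []) (TL.leaf [])) (TL.node (TL.leaf []) (TL.leaf []))) (TL.node (TL.node (TL.leaf []) (TL.leaf [])) (TL.leaf []))) (TL.node (TL.node (TL.node (TL.leaf []) (TL.leaf [])) (TL.node (TL.leaf []) (TL.leaf []))) (TL.node (TL.node (TL.leaf []) (TL.leaf [])) (TL.leaf []))))) (TL.node (TL.node (TL.node (TL.node (TL.node (TL.leaf [nat_lit 4]) (TL.leaf [nat_lit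 4])) (TL.node (TL.leaf [nat_lit 0, nat_lit 4]) (TL.leaf [nat_lit 1, nat_lit 3, nat_lit 4]))) (TL.node (TL.node (TL.leaf [nat_lit 0, nat_lit 4]) (TL.leaf [nat_lit 0, nat_lit 1])) (TL.leaf [nat_lit 4]))) (TL.node (TL.node (TL.node (TL.leaf []) (TL.leaf [])) (TL.node (TL.leaf []) (TL.leaf []))) (TL.node (TL.node (TL.leaf []) (TL.leaf [])) (TL.leaf [])))) (TL.node (TL.node (TL.node (TL.node (TL.leaf []) (TL.leaf [])) (TL.node (TL.leaf []) (TL.leaf []))) (TL.node (TL.node (TL.leaf []) (TL.leaf [])) (TL.leaf []))) (TL.node (TL.node (TL.node (TL.leaf []) (TL.leaf [])) (TL.node (TL.leaf []) (TL.leaf []))) (TL.node (TL.node (TL.leaf []) (TL.leaf [])) (TL.leaf []))))))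
def U_t2 : TL := (TL.node (TL.node (TL.node (TL.node (TL.node (TL.node (TL.leaf [nat_lit 2]) (TL.leaf [nat_lit 0, nat_lit 2])) (TL.node (TL.leaf [nat_lit 2]) (TL.leaf [nat_lit 0, nat_lit 1, nat_lit 2, nat_lit 3]))) (TL.node (TL.node (TL.leaf [nat_lit 2]) (TL.leaf [nat_lit 0, nat_lit 3, nat_lit 4])) (TL.leaf [nat_lit 0, nat_lit 2]))) (TL.node (TL.node (TL.node (TL.leaf []) (TL.leaf [])) (TL.node (TL.leaf []) (TL.leaf []))) (TL.node (TL.node (TL.leaf []) (TL.leaf [])) (TL.leaf [])))) (TL.node (TL.node (TL.node (TL.node (TL.leaf []) (TL.leaf [])) (TL.node (TL.leaf []) (TL.leaf []))) (TL.node (TL.node (TL.leaf []) (TL.leaf [])) (TL.leaf []))) (TL.node (TL.node (TL.node (TL.leaf []) (TL.leaf [])) (TL.node (TL.leaf []) (TL.leaf []))) (TL.node (TL.node (TL.leaf []) (TL.leaf [])) (TL.leaf []))))) (TL.node (TL.node (TL.node (TL.node (TL.node (TL.leaf []) (TL.leaf [])) (TL.node (TL.leaf []) (TL.leaf [])))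 (TL.node (TL.node (TL.leaf []) (TL.leaf [])) (TL.leaf []))) (TL.node (TL.node (TL.node (TL.leaf []) (TL.leaf [])) (TL.node (TL.leaf []) (TL.leaf []))) (TL.node (TL.node (TL.leaf []) (TL.leaf [])) (TL.leaf [])))) (TL.node (TL.node (TL.node (TL.node (TL.leaf []) (TL.leaf [])) (TL.node (TL.leaf []) (TL.leaf []))) (TL.node (TL.node (TL.leaf []) (TL.leaf [])) (TL.leaf []))) (TL.node (TL.node (TL.node (TL.leaf []) (TL.leaf [])) (TL.node (TL.leaf []) (TL.leaf []))) (TL.node (TL.node (TL.leaf []) (TL.leaf [])) (TL.leaf []))))))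
def U_t3 : TL := (TL.node U_t1 U_t2)
def U_t4 : TL := (TL.node (TL.node (TL.node (TL.node (TL.node (TL.node (TL.leaf [nat_lit 1]) (TL.leaf [nat_lit 0, nat_lit 1])) (TL.node (TL.leaf [nat_lit 1]) (TL.leaf [nat_lit 1]))) (TL.node (TL.node (TL.leaf [nat_lit 1]) (TL.leaf [nat_lit 0, nat_lit 4])) (TL.leaf [nat_lit 1]))) (TL.node (TL.node (TL.node (TL.leaf []) (TL.leaf [])) (TL.node (TL.leaf []) (TL.leaf []))) (TL.node (TL.node (TL.leaf []) (TL.leaf [])) (TL.leaf [])))) (TL.node (TL.node (TL.node (TL.node (TL.leaf []) (TL.leaf [])) (TL.node (TL.leaf []) (TL.leaf []))) (TL.node (TL.node (TL.leaf []) (TL.leaf [])) (TL.leaf []))) (TL.node (TL.node (TL.node (TL.leaf []) (TL.leaf [])) (TL.node (TL.leaf []) (TL.leaf []))) (TL.node (TL.node (TL.leaf []) (TL.leaf [])) (TL.leaf []))))) (TL.node (TL.node (TL.node (TL.node (TL.node (TL.leaf []) (TL.leaf [])) (TL.node (TL.leaf []) (TL.leaf []))) (TL.node (TL.node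 (TL.leaf []) (TL.leaf [])) (TL.leaf []))) (TL.node (TL.node (TL.node (TL.leaf []) (TL.leaf [])) (TL.node (TL.leaf []) (TL.leaf []))) (TL.node (TL.node (TL.leaf []) (TL.leaf [])) (TL.leaf [])))) (TL.node (TL.node (TL.node (TL.node (TL.leaf []) (TL.leaf [])) (TL.node (TL.leaf []) (TL.leaf []))) (TL.node (TL.node (TL.leaf []) (TL.leaf [])) (TL.leaf []))) (TL.node (TL.node (TL.node (TL.leaf []) (TL.leaf [])) (TL.node (TL.leaf []) (TL.leaf []))) (TL.node (TL.node (TL.leaf []) (TL.leaf [])) (TL.leaf []))))))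
def U_t5 : TL := (TL.node (TL.node (TL.node (TL.node (TL.node (TL.node (TL.leaf [nat_lit 3]) (TL.leaf [nat_lit 3])) (TL.node (TL.leaf [nat_lit 0, nat_lit 3]) (TL.leaf [nat_lit 2]))) (TL.node (TL.node (TL.leaf [nat_lit 3]) (TL.leaf [nat_lit 1, nat_lit 2])) (TL.leaf [nat_lit 3]))) (TL.node (TL.node (TL.node (TL.leaf []) (TL.leaf [])) (TL.node (TL.leaf []) (TL.leaf []))) (TL.node (TL.node (TL.leaf []) (TL.leaf [])) (TL.leaf [])))) (TL.node (TL.node (TL.node (TL.node (TL.leaf []) (TL.leaf [])) (TL.node (TL.leaf []) (TL.leaf []))) (TL.node (TL.node (TL.leaf []) (TL.leaf [])) (TL.leaf []))) (TL.node (TL.node (TL.node (TL.leaf []) (TL.leaf [])) (TL.node (TL.leaf []) (TL.leaf []))) (TL.node (TL.node (TL.leaf []) (TL.leaf [])) (TL.leaf []))))) (TL.node (TL.node (TL.node (TL.node (TL.node (TL.leaf []) (TL.leaf [])) (TL.node (TL.leaf []) (TL.leaf []))) (TL.node (TL.node (TL.leaf []) (TL.leaf [])) (TL.leaf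 []))) (TL.node (TL.node (TL.node (TL.leaf []) (TL.leaf [])) (TL.node (TL.leaf []) (TL.leaf []))) (TL.node (TL.node (TL.leaf []) (TL.leaf [])) (TL.leaf [])))) (TL.node (TL.node (TL.node (TL.node (TL.leaf []) (TL.leaf [])) (TL.node (TL.leaf []) (TL.leaf []))) (TL.node (TL.node (TL.leaf []) (TL.leaf [])) (TL.leaf []))) (TL.node (TL.node (TL.node (TL.leaf []) (TL.leaf [])) (TL.node (TL.leaf []) (TL.leaf []))) (TL.node (TL.node (TL.leaf []) (TL.leaf [])) (TL.leaf []))))))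
def U_t6 : TL := (TL.node U_t4 U_t5)
def U_t : TL := (TL.node U_t3 U_t6)
noncomputable def U (i : ℕ) : List ℕ := TL.get U_t i
def Zc_t : TN := (TN.leaf (nat_lit 0x2492492492494924926db900))
noncomputable def Zc (i : ℕ) : ℕ := get9 Zc_t (nat_lit 3) (nat_lit 7) i
def Zm_t : TN := (TN.leaf (nat_lit 0))
noncomputable def Zm (i : ℕ) : ℕ := get9 Zm_t (nat_lit 1) (nat_lit 1) i
open Subgroup in
theorem main {G : Type*} [Group G] [Finite G] [MulAction G (Fin 6156)] {g : ℕ → G} (M : Md J3.pt 6156 J3f.B g J3f.Q 19) (hc : Nat.card G = 50232960) :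
    (∀ x y : G, orderOf x = 2 → orderOf y = 2 → IsConj x y) ∧ ∃ t : G, orderOf t = 2 ∧ ∃ (Q : Subgroup (centralizer ({t} : Set G))) (_ : Q.Normal),
    IsExtraspecial 2 Q ∧ Nat.card Q = 32 ∧ (∀ E : Subgroup Q, IsElementaryAbelian 2 E → Nat.card E ≤ 2 ^ 2) ∧ (∃ H, Q.IsComplement' H) ∧
    Nonempty (centralizer ({t} : Set G) ⧸ Q ≃* alternatingGroup (Fin 5)) := by
  have := Perm.Tri.simple_A5
  have S := M.sy' (r := 7) (R := J3f.R) (by decide) (by decide) (upTo_beq (by decide +kernel)) (pr := 128) rfl J3f.h1 (by rw [hc]; decide)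
  have k := fun x => M.one S (by decide) (K := K) (Z := Z) (pr := 128) rfl (upTo_beq (by decide +kernel)) (x := x)
  have M' := M.words' (W := W) (r := 7) (by decide +kernel)
  have M0 : Md J3.pt 6156 J3f.B _ _ 5 := ⟨M.inj, M.lt, M.base, M'.reps.mono (by decide)⟩
  obtain ⟨h1, h2, h3, h4, -, -, h5, h6, h7⟩ := M0.shape (P := alternatingGroup (Fin 5)) M' (by decide) (R := J3f.R) (U := U) (Zm := Zm) (Zc := Zc) (ps := 32) rfl
    (by decide +kernel) (by decide +kernel) (by decide +kernel) (M'.a5 (a := 5) (b := 6) (by decide +kernel)) (by rw [Perm.Tri.card_A5]; decide) (by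
      have h := M.cls (by decide +kernel) J3f.h3 (L := ⊤) fun _ _ => trivial
      rw [top_inf_eq, card_top, hc] at h
      rw [Perm.Tri.card_A5, show W 0 = [0] by decide +kernel, ev_cons, ev_nil, one_mul]
      exact Nat.le_of_mul_le_mul_left h (by decide))
  refine ⟨fun x y hx hy => (k x hx).symm.trans (k y hy), _, h1, ?_⟩
  rw [h2]
  exact ⟨_, h5, h3, h4, (M0.sub le_rfl (gen_mono _ (by decide))).minus (R := J3f.R) (upTo_beq (by decide +kernel)) (by decide +kernel), h6, h7⟩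

end Cfsg.Agent.Ct.J3c
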