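import Cfsg.Agent.Lib.Cert.Mod2
import Cfsg.Agent.Lib.PermCert.Iso
import Cfsg.Agent.Lib.Leech.Co1
import Cfsg.Agent.Lib.Leech.HS
import Cfsg.Prelude.Def_Spor_Conway

/-! Lattice automorphisms from the images of a basis; the action modulo two. -/

set_option autoImplicit false
set_option maxRecDepth 100000

namespace Cfsg.Agent.Ct.Lee

open Cfsg.Agent.PC Cfsg.Agent.Fi Cfsg.Agent.Spor Cfsg.Agent.Leech Finset MulAction

def ln (a k : ℕ) : ℕ := Nat.land (Nat.shiftRight a (Nat.mul (nat_lit 4) k)) (nat_lit 15)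
def vec (a : ℕ) : V := fun p => (ln a (gi p) : ℤ) - 8
noncomputable def dt (a b : ℕ) : ℕ := force a fun a => force b fun b => lin (fun k => force (ln a k) fun x => force (ln b k) fun y =>
  Nat.add (Nat.mul x y) (Nat.mul (nat_lit 8) (Nat.sub (nat_lit 32) (Nat.add x y)))) (nat_lit 0) (nat_lit 24)

theorem dt_eq (a b : ℕ) : (dt a b : ℤ) = dotInt (vec a) (vec b) + 4608 := by
  have e : ∀ F : ℕ → ℤ, ∑ p : GolayPt, F (gi p) = ∑ k ∈ range 24, F k := fun F =>
    sum_nbij' gi gp (fun p _ => mem_range.2 (gi_lt p)) (fun _ _ => mem_univ _) (fun p _ => gp_gi p)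
      (fun k h => gi_gp (mem_range.1 h)) fun _ _ => rfl
  have b1 : ∀ a k, ln a k ≤ 15 := fun a k => Nat.and_le_right
  rw [dotInt, show (4608 : ℤ) = ∑ _k ∈ range 24, 192 by simp]
  simp only [vec]
  rw [e fun k => ((ln a k : ℤ) - 8) * ((ln b k : ℤ) - 8), ← sum_add_distrib]
  simp only [dt, force_eq, lin_eq]
  rw [Nat.cast_sum]
  refine sum_congr rfl fun k _ => ?_
  have := b1 a k
  have := b1 b k
  show ((ln a (0 + k) * ln b (0 + k) + 8 * (32 - (ln a (0 + k) + ln b (0 + k))) : ℕ) : ℤ) = _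
  rw [zero_add, Nat.cast_add, Nat.cast_mul, Nat.cast_mul, Nat.cast_sub (by omega)]
  push_cast; ring

def eC (i : ℕ) : ℕ := Nat.land (Nat.shiftRight (nat_lit 0x888886868668888a8868886a779597777779999997799779a886a8a688aa8888888a88888688aa88a868aa88a888888888688886aaa8886886a8888886888aa8888a8a866888868899797777b77979797779777986888a88a8888a6886a886887797997777977977759777799775799777979779979797997797997979797b777799777788888a8888aa6a8886886688997799997999979b9997797988a8aa688688888688888a8697999797995799999979777988886aa888a8888668a68888779999799775997797977779999779b979979777799977799999799777999777b779779979999779977979997777775968888888868868a868868a68886888888a88688aa888686a86888a8a88888a8868a688867777797979977779b7977799) (Nat.mul (nat_lit 96) i)) (nat_lit 0xffffffffffffffffffffffff)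
def fC (i : ℕ) : ℕ := Nat.land (Nat.shiftRight (nat_lit 0x68a8888688a88a4a8c6688888688686888a8a8a8888a886897979599979979779997799988a688aaaa888a6886468caa686888868888a6888888666477599977777995977999757797777779977997977799599988aa8a888888688a88aac88aa6a8888a8a88888864688cac9b57999777577797979795757b7797977759797799b777976a888a8688a68a8a8a688686797999777779979979b9779988888a66888886888a88866688888886886886a888a8668699b7777799997b779b95999b79599777759799979bb97577779779999997977977597977977977997779979795997977999797999979777797759777686888a8866886a886aa6886b7797979799779979779b959a488668a88a8a88886686a6666a68688a88a86688a8648a8) (Nat.mul (nat_lit 96) i)) (nat_lit 0xffffffffffffffffffffffff)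
def mC (i : ℕ) : ℕ := Nat.land (Nat.shiftRight (nat_lit 0xa125302515091412c62678ca6a10c0e61f0c5df99702681262e140a228eea97d72cf78a6acaa3e4ac83822380498b47e1e8387916bec0b65db3942e285ecfa26679754cb4634a1bde92ca405612363f03366cc04099590021e260230ac20bfabba890cc8d3db9eb4eb2a74abf3e08789830851a97208291440ba1c4360c2635e8d4bc74271fb30cd1f9804a961024c591412c5f53db9) (Nat.mul (nat_lit 25) i)) (nat_lit 0x1ffffff)
def gC' (i : ℕ) : ℕ := Nat.land (Nat.shiftRight (nat_lit 0x8644336344334362434655230000000068553444555444524345443400000000458455444545544425533433000000004548454644544563634434540000000033548456554543354443354500000000345548465466344645444363000000006444548543453353434645330000000034466658656634456444346500000000454455468566353564455455000000004554543558345335455234460000000035454646638635445435446400000000345456566468443544554555000000004454433335348344354446450000000034453434535438345344525300000000654634543343438254453533000000002243563555454428464353640000000044264446645435548445445500000000335345344544534648533444000000004454444445354444458324250000000065343464525544535338654300000000543334435344453543268453000000005444535444456253444548360000000023354636546545365424538400000000343453355645533454533648)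 (Nat.mul (nat_lit 4) i)) (nat_lit 15)

theorem ls {a m : ℕ} (h : m / 2 < 2 ^ 24 ∧ syn (m / 2) = 0 ∧ (∀ i, vec a i % 4 = (((m % 2 : ℕ) : ℤ) + Leech.tw (bset (m / 2)) i) % 4) ∧
    (∑ i, vec a i) % 8 = (4 * ((m % 2 : ℕ) : ℤ)) % 8) : vec a ∈ leechLattice :=
  (⟨(bset_mem_gC h.1).2 h.2.1, h.2.2.1, h.2.2.2⟩ : LS _ _ _).lat

theorem e_mem (i : Fin 24) : vec (eC i) ∈ leechLattice := ls (m := mC i) (by revert i; decide +kernel)
theorem f_mem (i : Fin 24) : vec (fC i) ∈ leechLattice := ls (m := mC (24 + i)) (by revert i; decide +kernel)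
theorem key : ∀ p q : GolayPt, ∑ j : Fin 24, vec (fC j) p * vec (eC j) q = if p = q then 8 else 0 := by decide +kernel
theorem dual : ∀ i j : Fin 24, dt (eC i) (fC j) = if i = j then 4616 else 4608 := by decide +kernel
theorem gram : ∀ i j : Fin 24, dt (eC i) (eC j) = 8 * gC' (32 * i + j) + 4576 := by decide +kernel

def eL (i : Fin 24) : L := ⟨_, e_mem i⟩

theorem dot_sum (x : V) (c : Fin 24 → ℤ) (w : Fin 24 → V) : dotInt x (∑ j, c j • w j) = ∑ j, c j * dotInt x (w j) := by
  simp only [dotInt, Finset.sum_apply, Pi.smul_apply, smul_eq_mul, mul_sum]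
  rw [sum_comm]
  exact sum_congr rfl fun _ _ => sum_congr rfl fun _ _ => by ring

theorem expand {x : V} (h : ∀ j : Fin 24, 8 ∣ dotInt x (vec (fC j))) :
    x = ∑ j : Fin 24, (dotInt x (vec (fC j)) / 8) • vec (eC j) := funext fun q => by
  refine mul_left_cancel₀ (show (8 : ℤ) ≠ 0 by decide) ?_
  simp only [Finset.sum_apply, Pi.smul_apply, smul_eq_mul, mul_sum, ← mul_assoc, Int.mul_ediv_cancel' (h _)]
  simp only [dotInt, sum_mul, mul_assoc]
  rw [sum_comm]
  simp only [← mul_sum, key, mul_ite, mul_zero, sum_ite_eq', mem_univ, if_true]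
  rw [mul_comm]

theorem mem_of {x : V} (h : ∀ j : Fin 24, 8 ∣ dotInt x (vec (fC j))) : x ∈ leechLattice :=
  expand h ▸ sum_mem fun j _ => zsmul_mem (e_mem j) _

/-- coordinates in the basis -/
def co (j : Fin 24) : L →+ ℤ := .mk' (fun x => dotInt x.1 (vec (fC j)) / 8) fun x y => by
  rw [AddSubgroup.coe_add, dot_comm, dot_add, dot_comm _ x.1, dot_comm _ y.1, Int.add_ediv_of_dvd_left (eight_dvd x.2 (f_mem j))]

theorem expL (x : L) : ∑ j, co j x • eL j = x := Subtype.ext (by
  rw [AddSubgroup.val_finsetSum]; exact (expand fun j => eight_dvd x.2 (f_mem j)).symm)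

theorem co_e (i j : Fin 24) : co j (eL i) = if i = j then 1 else 0 := by
  have a := dt_eq (eC i) (fC j)
  rw [dual] at a
  show dotInt (vec (eC i)) _ / 8 = _
  split_ifs at a ⊢ <;> omega

def mkH (u : Fin 24 → L) : L →+ L := .mk' (fun x => ∑ j, co j x • u j) fun x y => by
  simp only [map_add, add_smul, sum_add_distrib]

theorem mkH_norm {u : Fin 24 → L} (h : ∀ i j, dotInt (u i).1 (u j).1 = dotInt (eL i).1 (eL j).1) (x : L) :
    sqNorm (mkH u x).1 = sqNorm x.1 := by
  have a : ∀ w : Fin 24 → L, sqNorm (∑ j, co j x • w j : L).1 = ∑ i, co i x * ∑ j, co j x * dotInt (w i).1 (w j).1 :=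
    fun w => by
      rw [← dot_self, AddSubgroup.val_finsetSum]
      simp only [AddSubgroup.coe_zsmul]
      rw [dot_sum]
      exact sum_congr rfl fun i _ => by rw [dot_comm, dot_sum]
  rw [← congrArg (fun y : L => sqNorm y.1) (expL x), a]
  simp only [← h]
  exact a u

theorem mkH_bij {u : Fin 24 → L} (h : ∀ i j, dotInt (u i).1 (u j).1 = dotInt (eL i).1 (eL j).1) :
    Function.Bijective (mkH u) := by
  have i : Function.Injective (mkH u) := (injective_iff_map_eq_zero _).2 fun x e =>
    Subtype.ext (sqNorm_eq_zero (by rw [← mkH_norm h, e]; simp [sqNorm]))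
  have s := ((finL32.injOn_iff_bijOn_of_mapsTo (f := mkH u) fun x hx => (mkH_norm h x).trans hx).1 i.injOn).surjOn
  refine ⟨i, fun x => expL x ▸ (sum_mem fun j _ => zsmul_mem ?_ _ : _ ∈ (mkH u).range)⟩
  obtain ⟨y, -, e⟩ := s (show sqNorm (eL j).1 = 32 by revert j; decide +kernel)
  exact ⟨y, e⟩

def Ok (U : ℕ → ℕ) : Prop := (∀ i : Fin 24, vec (U i) ∈ leechLattice) ∧
  ∀ i j : Fin 24, dotInt (vec (U i)) (vec (U j)) = dotInt (eL i).1 (eL j).1

open Classical in
/-- the automorphism with given images of the basis -/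
noncomputable def mk (U : ℕ → ℕ) : Co0 :=
  if h : Ok U then ⟨.ofBijective (mkH fun i => ⟨_, h.1 i⟩) (mkH_bij h.2), (mkH fun i => ⟨_, h.1 i⟩).map_add,
    mkH_norm (u := fun i => ⟨_, h.1 i⟩) h.2⟩ else 1

theorem mk_e {U : ℕ → ℕ} (h : Ok U) (i : Fin 24) : (mk U • eL i : L).1 = vec (U i) := by
  rw [mk, dif_pos h]
  show (∑ j, co j (eL i) • (⟨_, h.1 j⟩ : L) : L).1 = _
  simp [co_e]

theorem mk_fix {U : ℕ → ℕ} (h : Ok U) {w : L} {c : ℕ} (hw : w.1 = vec c) (h2 : ∀ i < 24, dt (U i) c = dt (eC i) c) :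
    mk U • w = w := by
  have a : ∀ i, dotInt ((mk U)⁻¹ • w - w : L).1 (eL i).1 = 0 := fun i => by
    have b := dot_smul_smul (mk U) ((mk U)⁻¹ • w) (eL i)
    have c1 := dt_eq (U i) c
    have c2 := dt_eq (eC i) c
    rw [smul_inv_smul, mk_e h, hw, dot_comm] at b
    rw [h2 i i.2] at c1
    rw [dot_comm, AddSubgroup.coe_sub, dot_sub, dot_comm, ← b, hw]
    show _ - dotInt (vec (eC i)) _ = 0
    omega
  rw [← eq_inv_smul_iff, eq_comm, ← sub_eq_zero]
  refine Subtype.ext (sqNorm_eq_zero ?_)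
  rw [← dot_self]
  nth_rewrite 2 [← expL (_ - _)]
  rw [AddSubgroup.val_finsetSum]
  simp only [AddSubgroup.coe_zsmul]
  rw [dot_sum]
  exact sum_eq_zero fun i _ => by rw [a, mul_zero]

def X2 : Type := Fin 24 → ZMod 2
instance : AddCommGroup X2 := Pi.addCommGroup
instance : Module (ZMod 2) X2 := Pi.module _ _ _

def red : L →+ X2 := .mk' (fun x j => (co j x : ZMod 2)) fun x y => funext fun j => by
  show ((co j (x + y) : ℤ) : ZMod 2) = _ + _
  rw [map_add, Int.cast_add]
def lft (a : X2) : L := ∑ j, ((a j).val : ℤ) • eL j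

theorem co_sum (c : Fin 24 → ℤ) (k : Fin 24) : co k (∑ j, c j • eL j) = c k := by simp [co_e]

theorem red_lft (a : X2) : red (lft a) = a := funext fun j => by
  show ((co j _ : ℤ) : ZMod 2) = _
  rw [lft, co_sum]; simp

theorem two_of_red {x y : L} (h : red x = red y) : ∃ z, x - y = z + z := ⟨∑ j, (co j (x - y) / 2) • eL j, by
  rw [← sum_add_distrib, ← expL (x - y)]
  refine sum_congr rfl fun j _ => ?_
  have : (2 : ℤ) ∣ co j (x - y) := (ZMod.intCast_zmod_eq_zero_iff_dvd _ 2).1 (by
    rw [map_sub, Int.cast_sub, sub_eq_zero]; exact congrFun h j)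
  rw [expL, ← add_smul]; congr 1; omega⟩

theorem two (a : X2) : a + a = 0 := funext fun j => CharTwo.add_self_eq_zero (a j)

theorem red_smul (g : Co0) {x y : L} (h : red x = red y) : red (g • x) = red (g • y) := by
  obtain ⟨z, e⟩ := two_of_red h
  rw [← sub_eq_zero, ← map_sub, ← smul_sub, e, smul_add, map_add, two]

instance act : MulAction Co0 X2 where
  smul g a := red (g • lft a)
  one_smul a := by show red _ = _; rw [one_smul, red_lft]
  mul_smul g h a := by
    show red _ = red (g • lft (red _))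
    rw [mul_smul]; exact red_smul g (red_lft _).symm

theorem smul_red (g : Co0) (x : L) : g • red x = red (g • x) := red_smul g (red_lft _)

theorem smul_exp (g : Co0) (a : X2) : g • a = ∑ j, a j • red (g • eL j) := by
  show red (g • lft a) = _
  rw [lft, smul_sum, map_sum]
  refine sum_congr rfl fun j _ => ?_
  rw [show g • (((a j).val : ℤ) • eL j) = ((a j).val : ℤ) • g • eL j from (DistribSMul.toAddMonoidHom L g).map_zsmul _ _,
    map_zsmul, ← Int.cast_smul_eq_zsmul (ZMod 2)]
  simp

def bt (n i : ℕ) : ZMod 2 := if n.testBit i then 1 else 0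
def ptc (n : ℕ) : X2 := fun j => bt n j

theorem inj : Inj ptc 16777216 := fun a ha b hb e => Nat.eq_of_testBit_eq fun i => by
  by_cases h : i < 24
  · have : bt a i = bt b i := congrFun e ⟨i, h⟩
    revert this
    unfold bt
    cases a.testBit i <;> cases b.testBit i <;> decide
  · have : 16777216 ≤ 2 ^ i := Nat.pow_le_pow_right (n := 2) (i := 24) two_pos (by omega)
    rw [Nat.testBit_lt_two_pow (ha.trans_le this), Nat.testBit_lt_two_pow (hb.trans_le this)]

def row (r i : ℕ) : ℕ := Nat.land (Nat.shiftRight r (Nat.mul (nat_lit 24) i)) (nat_lit 16777215)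

noncomputable def mvk (k : ℕ) : ℕ → ℕ → ℕ := Nat.rec (motive := fun _ => ℕ → ℕ → ℕ) (fun _ _ => nat_lit 0)
  (fun _ ih r n => force (Nat.shiftRight r (nat_lit 24)) fun r' => force (Nat.shiftRight n (nat_lit 1)) fun n' =>
    Nat.xor (Nat.mul (Nat.land n (nat_lit 1)) (Nat.land r (nat_lit 16777215))) (ih r' n')) k

theorem mvk_eq (k : ℕ) : ∀ r n, mvk k r n < 2 ^ 24 ∧ ptc (mvk k r n) = ∑ i ∈ range k, bt n i • ptc (row r i) := by
  induction k with
  | zero => exact fun r n => ⟨show 0 < _ by decide, funext fun j => show bt 0 j = 0 by simp [bt]⟩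
  | succ k ih =>
    intro r n
    obtain ⟨h1, h2⟩ := ih (r >>> 24) (n >>> 1)
    have e : mvk (k + 1) r n = ((n &&& 1) * (r &&& 16777215)) ^^^ mvk k (r >>> 24) (n >>> 1) := rfl
    have b : r &&& 16777215 < 2 ^ 24 := Nat.lt_succ_of_le Nat.and_le_right
    have x : ∀ a b, ptc (a ^^^ b) = ptc a + ptc b := fun a b => funext fun j => by
      show bt _ _ = bt _ _ + bt _ _
      unfold bt
      rw [Nat.testBit_xor]
      cases a.testBit j <;> cases b.testBit j <;> decide
    rw [e, x, h2, sum_range_succ', add_comm, Nat.and_one_is_mod]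
    refine ⟨Nat.xor_lt_two_pow ?_ h1, congrArg₂ _ (sum_congr rfl fun i _ => congrArg₂ _ ?_ ?_) ?_⟩
    · rcases Nat.mod_two_eq_zero_or_one n with t | t <;> rw [t] <;> omega
    · unfold bt; rw [Nat.testBit_shiftRight, add_comm]
    · show ptc (r >>> 24 >>> (24 * i) &&& _) = ptc (r >>> (24 * (i + 1)) &&& _)
      rw [← Nat.shiftRight_add, mul_add, add_comm]
    · show _ = bt n 0 • ptc (r &&& 16777215)
      unfold bt
      rcases Nat.mod_two_eq_zero_or_one n with t | t <;> rw [t]
      · rw [if_neg (by simp [t]), zero_smul, zero_mul]; exact funext fun j => show bt 0 j = 0 by simp [bt]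
      · rw [if_pos (by simp [t]), one_smul, one_mul]

noncomputable def mv (R : ℕ → ℕ) (j n : ℕ) : ℕ := force (R j) fun r => mvk (nat_lit 24) r n

/-- the vector number `i` of a letter -/
def uv (u i : ℕ) : ℕ := Nat.land (Nat.shiftRight u (Nat.mul (nat_lit 96) i)) (nat_lit 0xffffffffffffffffffffffff)

/-- checks for the letter `j` -/
noncomputable def okE (U R : ℕ → ℕ) (j : ℕ) : ℕ := force (U j) fun u => force (R j) fun r => lin (fun i =>
  force (uv u i) fun a => force (row r i) fun b => Nat.add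
    (lin (fun k => Nat.xor (Nat.land (dt a (fC k)) (nat_lit 15))
      (Nat.mul (nat_lit 8) (Nat.land (Nat.shiftRight b k) (nat_lit 1)))) (nat_lit 0) (nat_lit 24))
    (lin (fun k => Nat.xor (dt a (uv u k)) (Nat.add (Nat.mul (nat_lit 8) (gC' (Nat.add (Nat.mul (nat_lit 32) i) k)))
      (nat_lit 4576))) (nat_lit 0) (Nat.add i (nat_lit 1)))) (nat_lit 0) (nat_lit 24)

noncomputable def lt (U : ℕ → ℕ) (j : ℕ) : Co0 := mk (uv (U j))

theorem okE_zero {U R : ℕ → ℕ} {j : ℕ} (h : okE U R j = 0) : Ok (uv (U j)) ∧ Rep ptc 16777216 (lt U j) (mv R j) := by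
  simp only [okE, force_eq] at h
  have a : ∀ i k : Fin 24, dotInt (vec (uv (U j) i)) (vec (fC k)) % 16 = 8 * ((row (R j) i >>> (k : ℕ) % 2 : ℕ) : ℤ) := fun i k => by
    have t := xor_eq_zero' (lin_zero (add_eq_zero' (lin_zero h i i.2)).1 k k.2)
    have t1 : ∀ a : ℕ, Nat.land a (nat_lit 15) = a % 16 := fun a => Nat.and_two_pow_sub_one_eq_mod a 4
    have t2 : ∀ a k : ℕ, Nat.mul (nat_lit 8) (Nat.land (Nat.shiftRight a k) (nat_lit 1)) = 8 * (a >>> k % 2) := fun a k =>
      congrArg (8 * ·) (Nat.and_one_is_mod _)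
    rw [t1, t2] at t
    have := dt_eq (uv (U j) i) (fC k)
    omega
  have b : ∀ i k : Fin 24, k ≤ i → dotInt (vec (uv (U j) i)) (vec (uv (U j) k)) = dotInt (eL i).1 (eL k).1 := fun i k hk => by
    have t := (xor_eq_zero' (lin_zero (add_eq_zero' (lin_zero h i i.2)).2 k (Nat.lt_succ_of_le hk))).trans (gram i k).symm
    have := dt_eq (uv (U j) i) (uv (U j) k)
    have := dt_eq (eC i) (eC k)
    show _ = dotInt (vec _) (vec _)
    omega
  have o : Ok (uv (U j)) := ⟨fun i => mem_of fun k => by have := a i k; omega, fun i k =>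
    (le_total k i).elim (b i k) fun t => by rw [dot_comm, b k i t, dot_comm]⟩
  refine ⟨o, fun n _ => ?_⟩
  obtain ⟨e1, e2⟩ := mvk_eq 24 (R j) n
  rw [show mv R j n = mvk 24 (R j) n from force_eq _ _]
  refine ⟨e1, ?_⟩
  rw [smul_exp, e2, ← Fin.sum_univ_eq_sum_range fun i => bt n i • ptc (row (R j) i)]
  refine sum_congr rfl fun i _ => congrArg _ (funext fun k => ?_)
  show ((dotInt _ _ / 8 : ℤ) : ZMod 2) = bt _ _
  have := a i k
  rw [lt, mk_e o, bt, Nat.testBit_eq_decide_div_mod_eq, ← Nat.shiftRight_eq_div_pow]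
  rcases Nat.mod_two_eq_zero_or_one (row (R j) i >>> (k : ℕ)) with t | t <;> rw [t] at this ⊢
  · exact (ZMod.intCast_zmod_eq_zero_iff_dvd _ 2).2 (by omega)
  · exact (ZMod.intCast_eq_intCast_iff_dvd_sub _ 1 2).2 (by omega)

theorem reps {U R : ℕ → ℕ} {m : ℕ} (h : ∀ j < m, okE U R j = 0) : Reps ptc 16777216 (lt U) (mv R) m :=
  fun j hj => (okE_zero (h j hj)).2

noncomputable def fxE (U : ℕ → ℕ) (c j : ℕ) : ℕ :=
  lin (fun i => Nat.xor (dt (uv (U j) i) c) (dt (eC i) c)) (nat_lit 0) (nat_lit 24)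

theorem fix {U R : ℕ → ℕ} {m : ℕ} (h : ∀ j < m, okE U R j = 0) {w : L} {c : ℕ} (hw : w.1 = vec c)
    (h2 : lin (fxE U c) (nat_lit 0) m = 0) : gen (lt U) m ≤ stabilizer Co0 w := gen_le fun j hj =>
  mk_fix (okE_zero (h j hj)).1 hw fun i hi => xor_eq_zero' (lin_zero (lin_zero h2 j hj) i hi)

noncomputable def srtE (σ : ℕ → ℕ) (c : ℕ) : ℕ := ltE (σ c) (σ (Nat.add c (nat_lit 1)))

/-- relabelling along an increasing list of codes -/
theorem res {G : Type*} [Group G] [MulAction G X2] {g : ℕ → G} {T T' : ℕ → ℕ → ℕ} {m n : ℕ} {σ : ℕ → ℕ}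
    (R : Reps ptc 16777216 g T m) (h : ∀ c < n, Nat.add (srtE σ c) (resE T T' σ 16777216 n m c) = 0) :
    Inj (fun c => ptc (σ c)) n ∧ Reps (fun c => ptc (σ c)) n g T' m := by
  have a := fun c hc => add_eq_zero' (add_eq_zero' (h c hc)).2
  exact ⟨Inj.of_key σ (fun i hi j hj e => inj _ (ltE_zero (a i hi).1) _ (ltE_zero (a j hj).1) e)
    fun i hi => ltE_zero (add_eq_zero' (h i (by omega))).1, R.restrict fun c hc => ⟨ltE_zero (a c hc).1, fun j hj =>
      ⟨ltE_zero (add_eq_zero' (lin_zero (a c hc).2 j hj)).1, xor_eq_zero' (add_eq_zero' (lin_zero (a c hc).2 j hj)).2⟩⟩⟩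

theorem ctr_of {g : Co0} (h : ∀ k < 24, g • ptc (2 ^ k) = ptc (2 ^ k)) : g ∈ Subgroup.center Co0 := by
  have a : ∀ k : Fin 24, red (eL k) = ptc (2 ^ (k : ℕ)) := fun k => funext fun j => by
    show ((co j _ : ℤ) : ZMod 2) = bt _ _
    rw [co_e, bt, Nat.testBit_two_pow]
    simp [Fin.ext_iff]
  have b : ∀ x : L, cl (g • x : L) = cl x := fun x => by
    obtain ⟨z, e⟩ := two_of_red (x := g • x) (y := x) (by
      rw [← smul_red, smul_exp]
      refine Eq.trans (sum_congr rfl fun j _ => ?_) ((smul_exp 1 _).symm.trans (one_smul _ _))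
      rw [one_smul, ← smul_red, a, h j j.2])
    exact cl_eq.2 ⟨z, z.2, (congrArg Subtype.val e).trans (two_nsmul _).symm⟩
  exact center_of_pm ((mem_Nstd_cl none).2 (b (E8 none))) fun v hv => pm_of_cl hv (b v)

noncomputable def φ1 : Spor.Co1 →* Equiv.Perm X2 := QuotientGroup.lift _ (toPermHom Co0 X2) fun z hz => Equiv.ext fun a => by
  show z • a = a
  rcases mem_center_iff.1 hz with rfl | rfl
  · exact one_smul _ _
  · rw [← red_lft a, smul_red, neg1_smul, map_neg, neg_eq_iff_add_eq_zero, two]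

noncomputable instance act1 : MulAction Spor.Co1 X2 := .compHom _ φ1

def B1 : List ℕ := (List.range 24).map (2 ^ ·)

theorem md1 {U R : ℕ → ℕ} {m : ℕ} (h : ∀ j < m, okE U R j = 0) :
    Md ptc 16777216 B1 (fun j => (QuotientGroup.mk (lt U j) : Spor.Co1)) (mv R) m :=
  ⟨inj, by decide, fun a ha => by
    obtain ⟨g, rfl⟩ := QuotientGroup.mk_surjective a
    exact (QuotientGroup.eq_one_iff g).2 (ctr_of fun k hk => ha _ (List.mem_map.2 ⟨k, List.mem_range.2 hk, rfl⟩)),
    reps h⟩

end Cfsg.Agent.Ct.Lee
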