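import Cfsg.Agent.Lib.Cert.Lee
import Cfsg.Agent.Lib.Cert.Mat
import Cfsg.Agent.S0402
import Cfsg.Agent.S0403
import Cfsg.Agent.S0404
import Cfsg.Agent.S0405

/-! The vector stabilizers acting modulo two. -/

set_option autoImplicit false

namespace Cfsg.Agent.Ct.Lee

open Cfsg.Agent.PC Cfsg.Agent.Fi Cfsg.Agent.Leech MulAction Cfsg.Spor

theorem le2 : Co2 ≤ Co0 := inf_le_left
theorem le3 : Co3 ≤ Co0 := inf_le_left
theorem leM : McL ≤ Co0 := inf_le_left.trans le3
theorem leH : HS ≤ Co0 := inf_le_left.trans le3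

noncomputable instance act2 : MulAction Co2 X2 := .compHom _ (Subgroup.inclusion le2)
noncomputable instance act3 : MulAction Co3 X2 := .compHom _ (Subgroup.inclusion le3)
noncomputable instance actM : MulAction McL X2 := .compHom _ (Subgroup.inclusion leM)
noncomputable instance actH : MulAction HS X2 := .compHom _ (Subgroup.inclusion leH)

noncomputable def ltK (K : Subgroup (Equiv.Perm L)) (U : ℕ → ℕ) : ℕ → K := PC.sub K fun j => (lt U j).1

theorem repsK {K : Subgroup (Equiv.Perm L)} (hK : K ≤ Co0) {U R : ℕ → ℕ} {m : ℕ} (h : ∀ j < m, okE U R j = 0)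
    (h2 : gen (lt U) m ≤ K.subgroupOf Co0) :
    letI := MulAction.compHom X2 (Subgroup.inclusion hK); Reps ptc 16777216 (ltK K U) (mv R) m :=
  reps_hom _ (reps h) fun _ hj => Subtype.ext (coe_sub (L := K) (g := fun j => (lt U j).1) (h2 (mem_gen _ hj)))

theorem sc {K : Subgroup (Equiv.Perm L)} (hK : K ≤ Co0) {H : Subgroup Co0} (e : K.subgroupOf Co0 = H) {n : ℕ}
    (h : IsSimpleGroup H ∧ Nat.card H = n) : IsSimpleGroup K ∧ Nat.card K = n :=
  simple_card_of (Subgroup.subgroupOfEquivOfLe hK).symm (e ▸ h)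

theorem e2 : Co2.subgroupOf Co0 = stabilizer Co0 leechU := Subgroup.ext fun a => ⟨fun h => h.2, fun h => ⟨a.2, h⟩⟩
theorem e3 : Co3.subgroupOf Co0 = stabilizer Co0 leechV := Subgroup.ext fun a => ⟨fun h => h.2, fun h => ⟨a.2, h⟩⟩
theorem eM : McL.subgroupOf Co0 = stabilizer Co0 leechV ⊓ stabilizer Co0 leechU :=
  Subgroup.ext fun a => ⟨fun h => ⟨h.1.2, h.2⟩, fun h => ⟨⟨a.2, h.1⟩, h.2⟩⟩
theorem eH : HS.subgroupOf Co0 = stabilizer Co0 leechV ⊓ stabilizer Co0 leechU' :=
  Subgroup.ext fun a => ⟨fun h => ⟨h.1.2, h.2⟩, fun h => ⟨⟨a.2, h.1⟩, h.2⟩⟩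

theorem st_add (v w : L) : stabilizer Co0 v ⊓ stabilizer Co0 w = stabilizer Co0 v ⊓ stabilizer Co0 (-(v + w)) :=
  Subgroup.ext fun a => and_congr_right fun h => by
    simp only [Subgroup.mem_toSubmonoid, mem_stabilizer_iff, SetLike.mem_coe] at h ⊢
    rw [smul_neg, smul_add, h, neg_inj, add_right_inj]

theorem sc2 : IsSimpleGroup Co2 ∧ Nat.card Co2 = 42305421312000 := sc le2 e2 (S0402.result _ (by decide +kernel))
theorem sc3 : IsSimpleGroup Co3 ∧ Nat.card Co3 = 495766656000 := sc le3 e3 (S0403.result _ (by decide +kernel))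
theorem scM : IsSimpleGroup McL ∧ Nat.card McL = 898128000 := sc leM ((eM.trans (inf_comm _ _)).trans (st_add _ _))
  (S0404.result _ _ (by decide +kernel) (by decide +kernel) (by decide +kernel))
theorem scH : IsSimpleGroup HS ∧ Nat.card HS = 44352000 := sc leH (eH.trans (st_add _ _))
  (S0405.result _ _ (by decide +kernel) (by decide +kernel) (by decide +kernel))

theorem cardLE_top {G : Type*} [Group G] {n : ℕ} (h : Nat.card G = n) (h0 : n ≠ 0) : CardLE (⊤ : Subgroup G) n :=
  ⟨Nat.finite_of_card_ne_zero (by rw [Subgroup.card_top, h]; exact h0), by rw [Subgroup.card_top, h]⟩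

theorem hU : leechU.1 = vec 0xc8888888888888888888888c := by decide +kernel
theorem hV : leechV.1 = vec 0x377777777777777777777777 := by decide +kernel
theorem hU' : leechU'.1 = vec 0xc88888888888888888888884 := by decide +kernel

end Cfsg.Agent.Ct.Lee
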