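import Cfsg.Agent.Lib.Cert.Lin

/-! Words in matrices over a small ring, computed on packed columns. -/

set_option autoImplicit false
set_option linter.unusedSectionVars false

namespace Cfsg.Agent.Ct

open Cfsg.Agent.PC Cfsg.Agent.Fi Subgroup Matrix Finset

/-- words in a monoid -/
def evM {R : Type*} [Monoid R] (M : ℕ → R) : List ℕ → R
  | [] => 1
  | j :: w => evM M w * M j

theorem evM_hom {H R S : Type*} [Group H] [Monoid R] [Monoid S] (ρ : H →* S) (f : R →* S) {h : ℕ → H} {M : ℕ → R} {w : List ℕ}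
    (e : ∀ j ∈ w, ρ (h j) = f (M j)) : ρ (ev h w) = f (evM M w) := by
  induction w with
  | nil => simp [evM]
  | cons j w ih => rw [ev_cons, evM, map_mul, map_mul, e j (by simp), ih fun i hi => e i (by simp [hi])]

def lane (n i : ℕ) : ℕ := Nat.land (Nat.shiftRight n (Nat.mul (nat_lit 32) i)) (nat_lit 4294967295)

theorem lane_eq (n i : ℕ) : lane n i = n / 2 ^ (32 * i) % 2 ^ 32 :=
  (Nat.and_two_pow_sub_one_eq_mod _ 32).trans (congrArg (· % 2 ^ 32) (Nat.shiftRight_eq_div_pow _ _))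

theorem lane_pk (K : ℕ) : ∀ c : ℕ → ℕ, (∀ i, c i < 2 ^ 32) → ∀ i < K, lane (pk K c) i = c i := by
  induction K with
  | zero => exact fun _ _ _ h => absurd h (Nat.not_lt_zero _)
  | succ K ih =>
    rintro c hc (_ | i) hi
    · rw [lane_eq, mul_zero, pow_zero, Nat.div_one, (pk_div (hc 0)).2]
    · rw [lane_eq, mul_add, mul_one, add_comm (32 * i), pow_add, ← Nat.div_div_eq_div_mul, (pk_div (hc 0)).1, ← lane_eq,
        ih _ (fun i => hc (i + 1)) i (by omega)]

theorem Pk.val {A : Type*} [CommGroup A] {t : ℕ → A} {K n b : ℕ} {z : A} (h : Pk t K n z b) (hb : b < 2 ^ 32) :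
    z = ∏ i ∈ range K, t i ^ lane n i := by
  obtain ⟨c, rfl, rfl, h3⟩ := h
  exact prod_congr rfl fun i hi => by rw [lane_pk K c (fun i => (h3 i).trans_lt hb) i (mem_range.mp hi)]

noncomputable def mvP (p K : ℕ) (C : ℕ → ℕ) (x : ℕ) : ℕ :=
  lin (fun i => Nat.mul (Nat.mod (lane x i) p) (C i)) (nat_lit 0) K

theorem Pk.mv {A : Type*} [CommGroup A] {t : ℕ → A} {K x b p h : ℕ} {z : A} (hx : Pk t K x z b) (hb : b < 2 ^ 32)
    (hp : ∀ a : A, a ^ p = 1) (h0 : 0 < p) (f : A →* A) {C : ℕ → ℕ} (hC : ∀ i < K, Pk t K (C i) (f (t i)) h) :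
    Pk t K (mvP p K C x) (f z) (K * (p * h)) := by
  rw [hx.val hb, map_prod, mvP, lin_eq]
  suffices ∀ n ≤ K, Pk t K (∑ i ∈ range n, Nat.mul (Nat.mod (lane x (nat_lit 0 + i)) p) (C (nat_lit 0 + i)))
    (∏ i ∈ range n, f (t i ^ lane x i)) (n * (p * h)) from this K le_rfl
  intro n hn
  induction n with
  | zero => simpa using Pk.zero
  | succ n ih =>
    rw [sum_range_succ, prod_range_succ, add_mul, one_mul, map_pow, pow_eq_pow_mod _ (hp _), show nat_lit 0 + n = n from zero_add n]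
    exact (ih (by omega)).add (((hC n hn).mul _).mono (Nat.mul_le_mul_right _ (Nat.mod_lt _ h0).le))

noncomputable def bit32 (i : ℕ) : ℕ := Nat.shiftLeft (nat_lit 1) (Nat.mul (nat_lit 32) i)

/-- the words agree on the basis vectors -/
noncomputable def eqL (p e d m : ℕ) (C : ℕ → ℕ → ℕ) (u v : List ℕ) : ℕ :=
  Nat.add (Nat.add (lettE m u) (lettE m v)) (lin (fun a => force (Nat.mul e d) fun K => force (bit32 (Nat.mul e a)) fun x =>
    Nat.xor (mvP p K bit32 (trF (fun j => mvP p K (C j)) u x)) (mvP p K bit32 (trF (fun j => mvP p K (C j)) v x))) (nat_lit 0) d)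

variable {ι R : Type} [Fintype ι] [DecidableEq ι] [CommRing R] (ix : ι → ℕ) (ω : R) (e : ℕ)

/-- the additive generators of the column space -/
def tv (i : ℕ) : Multiplicative (ι → R) := .ofAdd fun r => if i / e = ix r then ω ^ (i % e) else 0

/-- a coordinate of a packed vector -/
def cd (n : ℕ) (r : ι) : R := ∑ s ∈ range e, (lane n (e * ix r + s) : R) * ω ^ s

/-- the matrix with packed columns -/
def mx (C : ℕ → ℕ) : Matrix ι ι R := of fun r c => cd ix ω e (C (e * ix c)) r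

variable {ix ω e}

theorem tv_cd {d : ℕ} (he : 0 < e) (h : ∀ r, ix r < d) (n : ℕ) :
    ∏ i ∈ range (e * d), tv ix ω e i ^ lane n i = .ofAdd (cd ix ω e n) := by
  apply Multiplicative.toAdd.injective
  ext r
  rw [toAdd_prod, Finset.sum_apply, toAdd_ofAdd, cd]
  simp only [toAdd_pow, tv, toAdd_ofAdd, Pi.smul_apply, smul_ite, smul_zero, nsmul_eq_mul]
  rw [← sum_filter]
  symm
  refine sum_bij' (fun s _ => e * ix r + s) (fun i _ => i % e) (fun s hs => ?_) (fun i _ => mem_range.mpr (Nat.mod_lt _ he))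
    (fun s hs => by rw [Nat.mul_add_mod, Nat.mod_eq_of_lt (mem_range.mp hs)]) (fun i hi => by rw [← (mem_filter.mp hi).2, Nat.div_add_mod])
    fun s hs => by rw [Nat.mul_add_mod, Nat.mod_eq_of_lt (mem_range.mp hs)]
  have h1 := mem_range.mp hs
  have h2 := Nat.mul_le_mul_left e (Nat.succ_le_of_lt (h r))
  rw [mem_filter, mem_range, Nat.mul_add_div he, Nat.div_eq_of_lt h1]
  exact ⟨by rw [Nat.mul_succ] at h2; omega, rfl⟩

/-- a model of matrices -/
structure Lm (ix : ι → ℕ) (ω : R) (p e d : ℕ) (M : ℕ → Matrix ι ι R) (C : ℕ → ℕ → ℕ) (m : ℕ) : Prop where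
  ch : (p : R) = 0
  num : 0 < p ∧ 0 < e ∧ e * d * (p * 3) < 2 ^ 32
  nx : (∀ r, ix r < d) ∧ (∀ a < d, ∃ c, ix c = a) ∧ ∀ r c, ix r = ix c → r = c
  tab : ∀ j < m, ∀ c, ∀ s < e, bdE (msk 3 (e * d)) (C j (e * ix c + s)) = 0 ∧ ∀ r, M j r c * ω ^ s = cd ix ω e (C j (e * ix c + s)) r

variable {p d m : ℕ} {M : ℕ → Matrix ι ι R} {C : ℕ → ℕ → ℕ}

/-- the action on columns -/
def mh (A : Matrix ι ι R) : Multiplicative (ι → R) →* Multiplicative (ι → R) := AddMonoidHom.toMultiplicative (mulVecLin A).toAddMonoidHom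

theorem Lm.col (L : Lm ix ω p e d M C m) (A : Matrix ι ι R) (c : ι) {s : ℕ} (hs : s < e) :
    mh A (tv ix ω e (e * ix c + s)) = .ofAdd fun r => A r c * ω ^ s := by
  have : tv ix ω e (e * ix c + s) = .ofAdd (Pi.single c (ω ^ s)) := congrArg Multiplicative.ofAdd (funext fun r => by
    rw [Nat.mul_add_div L.num.2.1, Nat.div_eq_of_lt hs, Nat.mul_add_mod, Nat.mod_eq_of_lt hs, add_zero, Pi.single_apply]
    exact if_congr ⟨fun h => (L.nx.2.2 _ _ h).symm, fun h => h ▸ rfl⟩ rfl rfl)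
  rw [this]
  exact congrArg Multiplicative.ofAdd (funext fun r => by simp)

theorem Lm.pw (L : Lm ix ω p e d M C m) (a : Multiplicative (ι → R)) : a ^ p = 1 :=
  Multiplicative.toAdd.injective (by ext r; simp [L.ch])

theorem Lm.tr (L : Lm ix ω p e d M C m) (w : List ℕ) (hw : ∀ j ∈ w, j < m) : ∀ x z b, b < 2 ^ 32 → Pk (tv ix ω e) (e * d) x z b →
    ∃ b < 2 ^ 32, Pk (tv ix ω e) (e * d) (trF (fun j => mvP p (e * d) (C j)) w x) (mh (evM M w) z) b := by
  induction w with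
  | nil => exact fun x z b hb h => ⟨b, hb, by simpa [evM, mh, trF] using h⟩
  | cons j w ih =>
    intro x z b hb h
    obtain ⟨b', h1, h2⟩ := ih (fun i hi => hw i (by simp [hi])) _ _ _ L.num.2.2 (h.mv hb L.pw L.num.1 (mh (M j)) (C := C j) fun i hi => by
      obtain ⟨c, hc⟩ := L.nx.2.1 (i / e) (Nat.div_lt_of_lt_mul hi)
      obtain ⟨h1, h2⟩ := L.tab j (hw j (by simp)) c _ (Nat.mod_lt i L.num.2.1)
      rw [← Nat.div_add_mod i e, ← hc]
      obtain ⟨z, hz⟩ := Pk.of (t := tv ix ω e) (by norm_num) h1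
      rw [L.col _ _ (Nat.mod_lt i L.num.2.1), funext h2, ← tv_cd L.num.2.1 L.nx.1, ← hz.val (by norm_num)]
      exact hz)
    refine ⟨b', h1, ?_⟩
    rw [show mh (evM M (j :: w)) z = mh (evM M w) (mh (M j) z) from congrArg Multiplicative.ofAdd (mulVec_mulVec _ _ _).symm]
    exact h2

theorem Lm.eq (L : Lm ix ω p e d M C m) {u v : List ℕ} (h : eqL p e d m C u v = 0) : evM M u = evM M v := by
  obtain ⟨h1, h2⟩ := add_eq_zero' h
  obtain ⟨h3, h4⟩ := add_eq_zero' h1
  ext r c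
  have h5 := xor_eq_zero' (lin_zero h2 _ (L.nx.1 c))
  have h6 : e * ix c < e * d := Nat.mul_lt_mul_of_pos_left (L.nx.1 c) L.num.2.1
  have k : ∀ w, lettE m w = 0 → mh (evM M w) (tv ix ω e (e * ix c)) = _ := fun w hw => by
    obtain ⟨b, a1, a2⟩ := L.tr w (lettE_zero hw) _ _ 1 (by norm_num) (Pk.one h6)
    exact (a2.mv a1 L.pw L.num.1 (MonoidHom.id _) (C := bit32) fun i hi => (Pk.one hi).mono (by norm_num : 1 ≤ 3)).val L.num.2.2
  have h7 := (k u h3).trans ((congrArg (fun n => ∏ i ∈ range (e * d), tv ix ω e i ^ lane n i) h5).trans (k v h4).symm)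
  have h8 := fun A => L.col A c L.num.2.1
  rw [add_zero] at h8
  rw [h8, h8] at h7
  simpa using congrFun (Multiplicative.ofAdd.injective h7) r

variable {F H : Type*} [CommRing F] [Group H] {ρ : H →* Matrix ι ι F} {f : R →+* F} {h : ℕ → H} {m0 : ℕ}

theorem Lm.ev (L : Lm ix ω p e d M C m) (hh : ∀ j < m0, ρ (h j) = (M j).map f) {w v : List ℕ} (h1 : lettE m0 w = 0)
    (h2 : eqL p e d m C w v = 0) : ρ (ev h w) = (evM M v).map f :=
  (evM_hom ρ f.mapMatrix.toMonoidHom fun j hj => hh j (lettE_zero h1 j hj)).trans (congrArg (fun A : Matrix ι ι R => A.map f) (L.eq h2))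

theorem Lm.cen (L : Lm ix ω p e d M C m) (hρ : Function.Injective ρ) (hh : ∀ j < m0, ρ (h j) = (M j).map f) (r0 : ι) {m1 : ℕ}
    (hs : ∀ s < m1, m0 ≤ s → M s = scalar ι (M s r0 r0)) (ws : List (List ℕ × ℕ))
    (hw : allE (fun w => Nat.add (Nat.add (lettE m0 w.1) (Nat.add (ltE w.2 m1) (Nat.sub m0 w.2))) (eqL p e d m C w.1 [w.2])) ws = 0) :
    ∀ w ∈ ws.map Prod.fst, PC.ev h w ∈ center H := fun w hw' => by
  obtain ⟨w, a, rfl⟩ := List.mem_map.mp hw'
  obtain ⟨h1, h2⟩ := add_eq_zero' (allE_zero hw w a)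
  obtain ⟨h3, h4⟩ := add_eq_zero' h1
  obtain ⟨h5, h6⟩ := add_eq_zero' h4
  refine mem_center_iff.mpr fun y => hρ ?_
  rw [map_mul, map_mul, L.ev hh h3 h2, evM, evM, one_mul, hs _ (ltE_zero h5) (Nat.sub_eq_zero_iff_le.mp h6), scalar_apply,
    diagonal_map (map_zero f)]
  exact ((scalar_commute _ (fun _ => Commute.all _ _) _).eq).symm

theorem ncen [Nontrivial F] {A B : Matrix ι ι R} {x y : H} (hx : ρ x = A.map f) (hy : ρ y = B.map f) (r c : ι)
    (h : (A * B) r c = (B * A) r c + 1) : y ∉ center H := fun t => by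
  have := congrFun (congrFun (congrArg ρ (mem_center_iff.mp t x)) r) c
  rw [map_mul, map_mul, hx, hy, ← Matrix.map_mul, ← Matrix.map_mul, map_apply, map_apply, h] at this
  simp at this

/-- a unit from a pair of matrices -/
def mkU (f : R →+* F) (A B : Matrix ι ι R) (h : A * B = 1) : GL ι F :=
  ⟨A.map f, B.map f, by rw [← Matrix.map_mul, h, Matrix.map_one _ (map_zero f) (map_one f)],
    by rw [← Matrix.map_mul, mul_eq_one_comm.mp h, Matrix.map_one _ (map_zero f) (map_one f)]⟩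

end Cfsg.Agent.Ct
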