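import Cfsg.Agent.Lib.Cert.Lin3
import Cfsg.Prelude.Def_LieTwisted

/-! Letters that are words in root elements. -/

set_option autoImplicit false
set_option linter.unusedSectionVars false

namespace Cfsg.Agent.Ct

open Cfsg.Agent.PC Cfsg.Agent.Fi Subgroup Matrix Cfsg.Lie

variable {ι R : Type} [Fintype ι] [DecidableEq ι] [CommRing R] {ix : ι → ℕ} {ω : R} {p e d m : ℕ} {M : ℕ → Matrix ι ι R}
  {C : ℕ → ℕ → ℕ} {F : Type*} [Field F] (f : R →+* F)

theorem Lm.wds (L : Lm ix ω p e d M C m) {n : ℕ → ℕ} {lo k m0 : ℕ} {W : ℕ → List ℕ}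
    (hu : lin (fun j => eqL p e d m C [n (Nat.add lo j), Nat.add lo j] []) (nat_lit 0) k = 0)
    (hw : lin (fun j => Nat.add (lettE k (W j)) (eqL p e d m C ((W j).map (Nat.add lo)) [j])) (nat_lit 0) m0 = 0)
    {H : Subgroup (GL ι F)} (mem : ∀ j < k, ∀ u : GL ι F, (u : Matrix ι ι F) = (M (lo + j)).map f → u ∈ H) :
    ∀ j < m0, mat H (PC.ev (fun i => PC.sub H (Ct.uL f M n) (lo + i)) (W j)) = (M j).map f := fun j hj => by
  obtain ⟨h1, h2⟩ := add_eq_zero' (lin_zero hw j hj)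
  have t := L.eq h2
  have t2 : ∀ w : List ℕ, evM M (w.map (Nat.add lo)) = evM (fun i => M (lo + i)) w := fun w => by
    induction w with
    | nil => rfl
    | cons a w ih => exact congrArg (· * M (lo + a)) ih
  rw [evM, evM, one_mul, t2] at t
  rw [← t]
  refine evM_hom (mat H) (f.mapMatrix (m := ι)).toMonoidHom fun i hi => ?_
  have s := L.uL f (lin_zero hu i (lettE_zero h1 i hi))
  exact (congrArg Units.val (coe_sub (mem i (lettE_zero h1 i hi) _ s))).trans s

theorem mem_chev (D : ChevalleyDatum) {K : Type} [Field K] {f : K →+* F} {A : Matrix D.Idx D.Idx K} {r : ℕ} {t : K}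
    (h : r < D.nroots ∧ A = D.x K r t) (u : GL D.Idx F) (hu : (u : Matrix _ _ F) = A.map f) : u ∈ D.group F := by
  obtain ⟨h, rfl⟩ := h
  refine subset_closure ⟨⟨r, h⟩, f t, ?_⟩
  rw [hu, ChevalleyDatum.x, dif_pos h]
  ext a b
  rcases a with a | a <;> rcases b with b | b <;>
    simp [ChevalleyDatum.xMat, apply_ite f, map_list_sum, Function.comp_def]

end Cfsg.Agent.Ct
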