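import Cfsg.Agent.Lib.Cert.Lin4

/-! Matrix groups given by generators. -/

set_option autoImplicit false
set_option linter.unusedSectionVars false

namespace Cfsg.Agent.Ct

open Cfsg.Agent.PC Cfsg.Agent.Fi Subgroup Matrix Cfsg.Lie MulAction

theorem lin_of {f : ℕ → ℕ} {n : ℕ} (h : ∀ i < n, f i = 0) : lin f (nat_lit 0) n = 0 := by
  rw [lin_eq]
  exact Finset.sum_eq_zero fun i hi => by simpa using h i (Finset.mem_range.mp hi)

theorem x_zero (D : ChevalleyDatum) (F : Type*) [Field F] (r : ℕ) : D.x F r 0 = 1 := by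
  rw [ChevalleyDatum.x]
  split_ifs with h
  · ext a b
    rcases a with a | a <;> rcases b with b | b <;> simp only [ChevalleyDatum.xMat, of_apply, one_apply]
    · simp
    · split_ifs <;> simp_all
    · simp
    · rw [List.sum_eq_zero (fun x hx => by
        simp only [ChevalleyDatum.chainCoeff, List.mem_map, List.mem_flatMap] at hx
        obtain ⟨_, ⟨_, _, _, _, rfl⟩, rfl⟩ := hx
        simp)]
      split_ifs <;> simp_all
  · rfl

section
variable {G X : Type*} [Group G] [MulAction G X] {pt : ℕ → X} {N r M : ℕ} {q : ℕ → G} {Q : ℕ → ℕ → ℕ} {t : List Lev}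

theorem no_two {x : G} {p : ℕ} (hx : x ^ (2 * p + 1) = 1) (hg : normalClosure {x} = ⊤) (K : Subgroup G) : K.index ≠ 2 := fun h => by
  have := normal_of_index_eq_two h
  have h1 : x ∈ K := by
    have := K.mul_mem (K.inv_mem (K.pow_mem (sq_mem_of_index_two h x) p)) (hx ▸ K.one_mem)
    rwa [← pow_mul, pow_succ, inv_mul_cancel_left] at this
  rw [show K = ⊤ from eq_top_iff.mpr (hg ▸ normalClosure_le_normal (Set.singleton_subset_iff.mpr h1)), index_top] at h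
  cases h

theorem Ch.coatom2 {l : Lev} (C : Ch pt N q Q r M (l :: t)) (hn : l.n = N ∧ 1 < N) {k : ℕ} {V O rt : ℕ → ℕ}
    (h : ∀ c < N, soE Q l.m' N M k V O rt c = 0) (s : ℕ → ℕ) (hs : ∀ i ≤ k, 1 ≤ i → cnt O i N = s i) {k0 : ℕ}
    (h0 : O l.β = k0) (h2 : ∀ K : Subgroup G, K.index ≠ 2)
    (h' : ∀ S ∈ (Finset.Icc 1 k).powerset, k0 ∈ S → (∑ i ∈ S, s i) ∣ N → S = {k0} ∨ S = Finset.Icc 1 k ∨ (∑ i ∈ S, s i) * 2 = N) :
    IsCoatom (stabilizer G (pt l.β)) := by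
  classical
  have hinj := C.inj
  have hc0 := (chain_cons C.reps C.chain).2.1
  have horb := C.orb hn.1
  have hO : ∀ c < N, 1 ≤ O c ∧ O c ≤ k := fun c hc =>
    have := add_eq_zero' (add_eq_zero' (h c hc)).2; ⟨ltE_zero this.1, sub_eq_zero' this.2⟩
  have hconj : ∀ c < N, ∀ d < N, O c = O d → ∃ a ∈ stabilizer G (pt l.β), a • pt c = pt d := fun c hc d hd e => by
    obtain ⟨a, ha⟩ := (C.sub h hc).ge ⟨d, ⟨hd, e.symm⟩, rfl⟩
    exact ⟨a, a.2, ha⟩
  subst h0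
  generalize l.β = c0 at *
  have hidx : (stabilizer G (pt c0)).index = N := by
    rw [index_stabilizer, horb, hinj.ncard_Iio]
  refine ⟨fun h => by rw [h, Subgroup.index_top] at hidx; omega, fun K hK => ?_⟩
  let S := (Finset.Icc 1 k).filter fun k => ∃ c < N, O c = k ∧ pt c ∈ orbit K (pt c0)
  have hKo : orbit K (pt c0) = pt '' {d | d < N ∧ O d ∈ S} := by
    ext x
    constructor
    · rintro ⟨a, rfl⟩
      have : (a : G) • pt c0 ∈ orbit G (pt c0) := mem_orbit _ _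
      rw [horb] at this
      obtain ⟨d, hd, he⟩ := this
      refine ⟨d, ⟨hd, ?_⟩, he⟩
      simp only [S, Finset.mem_filter, Finset.mem_Icc]
      exact ⟨hO d hd, d, hd, rfl, ⟨a, he.symm⟩⟩
    · rintro ⟨d, ⟨hd, h1⟩, rfl⟩
      simp only [S, Finset.mem_filter] at h1
      obtain ⟨-, c, hc, h2, ⟨a, h3⟩⟩ := h1
      obtain ⟨b, hb, h4⟩ := hconj c hc d hd h2
      refine ⟨⟨b, hK.le hb⟩ * a, ?_⟩
      simp only at h3 ⊢
      rw [mul_smul, h3]; exact h4
  have hcard : (orbit K (pt c0)).ncard = ∑ k ∈ S, s k := by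
    rw [hKo, hinj.ncard_image, Finset.card_eq_sum_card_fiberwise (f := O) (t := S)
      (s := (Finset.range N).filter fun d => O d ∈ S) (fun d hd => (Finset.mem_filter.mp hd).2)]
    refine Finset.sum_congr rfl fun j hj => ?_
    have t := Finset.mem_Icc.mp (Finset.mem_filter.mp hj).1
    rw [← hs j t.2 t.1, cnt_eq, Finset.filter_filter]
    congr 1
    ext d
    simp only [Finset.mem_filter, and_congr_right_iff, and_iff_right_iff_imp]
    rintro - rfl; exact hj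
  have hrel : (∑ k ∈ S, s k) * K.index = N := by
    rw [← hcard, ← index_stabilizer, ← hidx, ← Subgroup.relIndex_mul_index hK.le]; rfl
  have h0 : O c0 ∈ S := by
    simp only [S, Finset.mem_filter, Finset.mem_Icc]
    exact ⟨hO c0 hc0, c0, hc0, rfl, mem_orbit_self _⟩
  rcases h' S (Finset.mem_powerset.mpr (Finset.filter_subset _ _)) h0 ⟨_, hrel.symm⟩ with h1 | h1 | h1
  · exfalso
    apply hK.not_ge
    intro a ha
    have : a • pt c0 ∈ orbit K (pt c0) := ⟨⟨a, ha⟩, rfl⟩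
    rw [hKo, h1] at this
    obtain ⟨d, ⟨hd, h2⟩, h3⟩ := this
    obtain ⟨b, hb, h4⟩ := hconj c0 hc0 d hd (Finset.mem_singleton.mp h2).symm
    rw [mem_stabilizer_iff] at hb ⊢
    rw [← h3, ← h4, hb]
  · rw [eq_top_iff]
    intro a _
    have : a • pt c0 ∈ orbit K (pt c0) := by
      have h2 : a • pt c0 ∈ orbit G (pt c0) := mem_orbit _ _
      rw [horb] at h2
      obtain ⟨d, hd, he⟩ := h2
      rw [hKo, h1]
      exact ⟨d, ⟨hd, Finset.mem_Icc.mpr (hO d hd)⟩, he⟩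
    obtain ⟨b, hb⟩ := this
    have h3 : (b : G)⁻¹ * a ∈ stabilizer G (pt c0) := by
      rw [mem_stabilizer_iff, mul_smul, inv_smul_eq_iff]; exact hb.symm
    have := K.mul_mem b.2 (hK.le h3)
    simpa using this
  · exact absurd (Nat.eq_of_mul_eq_mul_left (Nat.pos_of_ne_zero fun e => by rw [e] at h1; omega) (hrel.trans h1.symm)) (h2 K)

end

variable {ι R : Type} [Fintype ι] [DecidableEq ι] [CommRing R] {ix : ι → ℕ} {ω : R} {p e d m : ℕ} {M : ℕ → Matrix ι ι R}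
  {C : ℕ → ℕ → ℕ} {F : Type*} [Field F] {f : R →+* F} {H : Subgroup (GL ι F)} {h : ℕ → H} {m0 : ℕ}

theorem lm_one (h1 : (p : R) = 0) (h2 : 0 < p ∧ 0 < 1 ∧ 1 * d * (p * 3) < 2 ^ 32)
    (h3 : (∀ r, ix r < d) ∧ (∀ a < d, ∃ c, ix c = a) ∧ ∀ r c, ix r = ix c → r = c) (h4 : ∀ j < m, ∀ i < d, bdE (msk 3 (1 * d)) (C j i) = 0) :
    Lm ix (1 : R) p 1 d (fun j => mx ix 1 1 (C j)) C m :=
  ⟨h1, h2, h3, fun j hj c s hs => by
    obtain rfl : s = 0 := by omega
    exact ⟨h4 j hj _ (by simpa using h3.1 c), fun r => by simp [mx]⟩⟩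

theorem Lm.one (L : Lm ix ω p e d M C m) (hh : ∀ j < m0, mat H (h j) = (M j).map f) {w : List ℕ}
    (hw : Nat.add (lettE m0 w) (eqL p e d m C w []) = 0) : PC.ev h w = 1 :=
  mat_inj H ((L.ev hh (add_eq_zero' hw).1 (add_eq_zero' hw).2).trans (by simp [evM]))

theorem Lm.top (L : Lm ix ω p e d M C m) (hh : ∀ j < m0, mat H (h j) = (M j).map f) {S : Set (GL ι F)} (hS : H = closure S)
    {lo k : ℕ} {V : ℕ → List ℕ} (hv : ∀ i < k, Nat.add (lettE m0 (V i)) (eqL p e d m C (V i) [Nat.add lo i]) = 0)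
    (h2 : ∀ u ∈ S, ∃ i < k, (u : Matrix ι ι F) = (M (lo + i)).map f) : gen h m0 = ⊤ := by
  subst hS
  refine eq_top_iff.mpr fun x _ => closure_induction (p := fun y hy => (⟨y, hy⟩ : closure S) ∈ gen h m0) (fun u hu => ?_) (one_mem _)
    (fun _ _ _ _ a b => mul_mem a b) (fun _ _ a => inv_mem a) x.2
  obtain ⟨i, hi, e1⟩ := h2 u hu
  obtain ⟨a, b⟩ := add_eq_zero' (hv i hi)
  have : PC.ev h (V i) = ⟨u, subset_closure hu⟩ := mat_inj _ ((L.ev hh a b).trans (by rw [evM, evM, one_mul]; exact e1.symm))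
  exact this ▸ ev_mem_gen h (lettE_zero a)

theorem Lm.topZ (L : Lm ix ω p e d M C m) (hh : ∀ j < m0, mat H (h j) = (M j).map f) {S : Set (GL ι F)} (hS : H = closure S)
    (r0 : ι) {m1 : ℕ} (hs : ∀ s < m1, m0 ≤ s → M s = scalar ι (M s r0 r0)) {lo k : ℕ} {V : ℕ → List ℕ} {s : ℕ → ℕ}
    (hv : ∀ i < k, Nat.add (Nat.add (lettE m0 (V i)) (Nat.add (ltE (s i) m1) (Nat.sub m0 (s i)))) (eqL p e d m C (V i) [s i, Nat.add lo i]) = 0)
    (h2 : ∀ u ∈ S, ∃ i < k, (u : Matrix ι ι F) = (M (lo + i)).map f) : gen (fun j => QuotientGroup.mk' (center H) (h j)) m0 = ⊤ := by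
  subst hS
  refine eq_top_iff.mpr fun x _ => ?_
  obtain ⟨x, rfl⟩ := QuotientGroup.mk'_surjective _ x
  refine closure_induction (p := fun y hy => QuotientGroup.mk' _ (⟨y, hy⟩ : closure S) ∈ gen (fun j => QuotientGroup.mk' _ (h j)) m0)
    (fun u hu => ?_) (one_mem _) (fun _ _ _ _ a b => mul_mem a b) (fun _ _ a => inv_mem a) x.2
  obtain ⟨i, hi, e1⟩ := h2 u hu
  obtain ⟨a, b⟩ := add_eq_zero' (hv i hi)
  obtain ⟨a, c⟩ := add_eq_zero' a
  obtain ⟨c, c'⟩ := add_eq_zero' c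
  have t := L.ev hh a b
  let x : closure S := ⟨u, subset_closure hu⟩
  rw [evM, evM, evM, one_mul, Matrix.map_mul, hs _ (ltE_zero c) (Nat.sub_eq_zero_iff_le.mp c'), scalar_apply, diagonal_map (map_zero f),
    show (M (Nat.add lo i)).map f = mat _ x from e1.symm] at t
  have t2 : mat _ (x⁻¹ * PC.ev h (V i)) = scalar ι (f (M (s i) r0 r0)) := by
    rw [map_mul, t, ← mul_assoc, ← map_mul, inv_mul_cancel, map_one, one_mul]; rfl
  have : QuotientGroup.mk' (center _) x = QuotientGroup.mk' _ (PC.ev h (V i)) := QuotientGroup.eq.mpr (mem_center_iff.mpr fun y => mat_inj _ (by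
    rw [map_mul, map_mul _ _ y, t2]
    exact ((scalar_commute _ (fun _ => Commute.all _ _) _).eq).symm))
  rw [this, ev_map]
  exact ev_mem_gen _ (lettE_zero a)

variable {P : Type} [Group P] [Finite P] {g : ℕ → P} {inv : ℕ → ℕ} {rels : List (List ℕ)}

theorem Pr.iso (Q : Pr g inv rels m0) {G : Type*} [Group G] [Finite G] {h : ℕ → G} (hi : ∀ j < m0, PC.ev h [j, inv j] = 1)
    (hr : ∀ w ∈ rels, PC.ev h w = 1) (top : gen h m0 = ⊤) {j : ℕ} (hj : j < m0) (hn : h j ≠ 1) :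
    ∃ e : P ≃* G, ∀ j < m0, e (g j) = h j := by
  have := Q.si
  obtain ⟨φ, hφ⟩ := hom_ub Q.top Q.ub Q.hi Q.hr Q.hl hi hr
  exact ⟨.ofBijective φ ⟨inj_simple (x := g j) (hφ j hj ▸ hn),
    MonoidHom.range_eq_top.mp (eq_top_iff.mpr (top ▸ gen_le fun j hj => ⟨_, hφ j hj⟩))⟩, hφ⟩

end Cfsg.Agent.Ct
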