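import Cfsg.Agent.Lib.Cert.Nrm

/-! The action on pairs; all Sylow subgroups are self-normalizing if one is. -/

set_option autoImplicit false
set_option maxHeartbeats 200000

namespace Cfsg.Agent.Ct

open Cfsg.Agent.PC Cfsg.Agent.Fi Subgroup

variable {G X : Type*} [Group G] [MulAction G X] {pt : ℕ → X} {N m : ℕ} {B : List ℕ} {q : ℕ → G} {Q : ℕ → ℕ → ℕ}
  {r : ℕ} {R : ℕ → List ℕ}

theorem Md.prod (M : Md pt N B q Q m) : Md (fun c => (pt (c / N), pt (c % N))) (N * N) (B.map fun b => b * N + b) q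
    (fun j c => Nat.add (Nat.mul (Q j (Nat.div c N)) N) (Q j (Nat.mod c N))) m := by
  have k : ∀ c < N * N, c / N < N ∧ c % N < N := fun c hc => ⟨Nat.div_lt_of_lt_mul hc, Nat.mod_lt _ (Nat.pos_of_ne_zero fun e => by simp [e] at hc)⟩
  have k2 : ∀ a < N, ∀ b < N, a * N + b < N * N ∧ (a * N + b) / N = a ∧ (a * N + b) % N = b := fun a ha b hb =>
    ⟨by nlinarith, by rw [add_comm, Nat.add_mul_div_right _ _ (by omega), Nat.div_eq_of_lt hb, zero_add], by
      rw [add_comm, Nat.add_mul_mod_self_right, Nat.mod_eq_of_lt hb]⟩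
  refine ⟨fun i hi j hj e => ?_, List.forall_mem_map.mpr fun b hb => (k2 b (M.lt b hb) b (M.lt b hb)).1, fun a ha => M.base a fun b hb => ?_,
    fun j hj c hc => ?_⟩
  · rw [← Nat.div_add_mod i N, ← Nat.div_add_mod j N, M.inj _ (k i hi).1 _ (k j hj).1 (congrArg Prod.fst e),
      M.inj _ (k i hi).2 _ (k j hj).2 (congrArg Prod.snd e)]
  · have := congrArg Prod.snd (ha _ (List.mem_map_of_mem hb))
    rwa [(k2 b (M.lt b hb) b (M.lt b hb)).2.2] at this
  · have a := M.reps j hj _ (k c hc).1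
    have b := M.reps j hj _ (k c hc).2
    have t := k2 _ a.1 _ b.1
    exact ⟨t.1, Prod.ext (a.2.trans (congrArg pt t.2.1.symm)) (b.2.trans (congrArg pt t.2.2.symm))⟩

theorem Sy.self [Finite G] (S : Sy q 2 r R) (hN : normalizer (gen q r : Set G) ≤ gen q r) (P : Sylow 2 G) :
    normalizer ((P : Subgroup G) : Set G) = P := by
  obtain ⟨P0, h⟩ := S.sylowIn.exists_sylow_top
  obtain ⟨g, rfl⟩ := MulAction.exists_smul_eq G P0 P
  have : ((g • P0 : Sylow 2 G) : Subgroup G) = (gen q r).map (MulAut.conj g).toMonoidHom := by rw [← h]; rfl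
  rw [this, ← map_equiv_normalizer_eq, le_antisymm hN le_normalizer]

end Cfsg.Agent.Ct
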