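import Cfsg.Agent.Lib.Cert.M24.L
import Cfsg.Agent.Lib.Cert.Nrm2

set_option autoImplicit false
set_option maxRecDepth 100000

namespace Cfsg.Agent.Ct.M24n

open Cfsg.Agent.PC

open Cfsg.Agent.Fi Cfsg.Agent.Ct
def O_t : TN := (TN.node (TN.leaf (nat_lit 0x42342523aa678888a668ba886966968688687aba8669889a686686a68868a7a9866a88ab686686968868ba7a8669889a686686a68868a9a7866a88a9686686b6996a88887668ab886a66a68622322222214222223243232522322222241222223253232488689a9a866788ba686686a6aa6b8888a6687a8869669686996a8888b668a7886a66a68688689a9a866b887a686686a68868aba9866a88a768668696224222222332222212352423aa698888a6689a886766b686223222222452222232132324224222222332222252312423aa698888a6689a886b6676862252222223322222423421238868a9ab866a88a968668676223222222542222232432321)) (TN.leaf (nat_lit 0x7b6a88889668a9886a66a686b76a88889668a9886a66a6862212222223322222)))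
noncomputable def O (i : ℕ) : ℕ := get9 O_t (nat_lit 4) (nat_lit 15) i
def V_t : TN := (TN.node (TN.leaf (nat_lit 0x4cc9ca56c99c255085a2150858a762c50b84285bb16e854274edd0a16ea5bb852dd4a96ec64316cc54b152e1c3162c5bb872cd411224541170e54a972a1c9172e5cb452ddc916c858b142c50b164860a462910a148dd8b662d99318ec99376041a90684ca904e90aa4644123726dc8104459bb74ee11322c899224458b48465911644e1c3268c893364cd1134448912689112352952b646991926ec9ca990a61956454ab872899a56aa4a9532652a24edd3a824a13922449c1270949274ea14294cdd42844863a162d90b762c58b842de4316e850a262dd1314491c3264e10b4449112068892484c91a2044951344cddb274cd93a64ca19a670a13266ccd126709942372a5c2142a50a970a50a942e1ca96ae59b84ce10a12e9dc3252e52324ec8ba76485bb52ec9117445d929528192070a5b20309501830811a06c60c36311922072a512870e58a44460c2842d11333060c3850e51a24c84b2762c9b372cdcb2944993342cdd11664d59293295b208265b23288cca828950234c511b628d0a146cd52b76ee1b38709d3376a953b84b1dc2868954256ec9ba468c9201508d22064c808168811b202a008193093a17045b90640542862c91a150800a52804081))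 (TN.leaf (nat_lit 0x2e5dba66ec533772c58972e5d1b82ee5ca66cd9cc952a53a742d98b842e5ca942a53b94ea54a172ddcc96a953346ea1b336e993a68ce1b38)))
noncomputable def V (i : ℕ) : ℕ := get9 V_t (nat_lit 7) (nat_lit 127) i
def rt (i : ℕ) : ℕ := Nat.land (Nat.shiftRight (nat_lit 0xa2181b658385081000) (Nat.mul (nat_lit 6) i)) (nat_lit 63)
def w_t : TL := (TL.node (TL.node (TL.node (TL.node (TL.node (TL.leaf [nat_lit 10, nat_lit 8, nat_lit 10, nat_lit 10]) (TL.leaf [nat_lit 10, nat_lit 8, nat_lit 10])) (TL.leaf [nat_lit 7, nat_lit 10])) (TL.node (TL.node (TL.leaf [nat_lit 8, nat_lit 7, nat_lit 10]) (TL.leaf [nat_lit 9, nat_lit 8, nat_lit 10])) (TL.leaf [nat_lit 8, nat_lit 10]))) (TL.node (TL.node (TL.node (TL.leaf [nat_lit 7, nat_lit 10, nat_lit 8, nat_lit 10, nat_lit 10]) (TL.leaf [nat_lit 9, nat_lit 7, nat_lit 10])) (TL.leaf [nat_lit 10, nat_lit 10])) (TL.node (TL.leaf [nat_lit 8, nat_lit 9, nat_lit 10]) (TL.leaf [])))) (TL.node (TL.node (TL.node (TL.node (TL.leaf [nat_lit 8, nat_lit 10, nat_lit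 10]) (TL.leaf [nat_lit 9, nat_lit 10, nat_lit 9, nat_lit 8, nat_lit 10])) (TL.leaf [nat_lit 9, nat_lit 10, nat_lit 8, nat_lit 10])) (TL.node (TL.leaf [nat_lit 9, nat_lit 10]) (TL.leaf [nat_lit 10, nat_lit 8, nat_lit 7, nat_lit 10]))) (TL.node (TL.node (TL.node (TL.leaf [nat_lit 10]) (TL.leaf [nat_lit 7, nat_lit 10, nat_lit 8, nat_lit 10])) (TL.leaf [nat_lit 7, nat_lit 10, nat_lit 8, nat_lit 7, nat_lit 10])) (TL.node (TL.leaf [nat_lit 10, nat_lit 10, nat_lit 8, nat_lit 10]) (TL.leaf [nat_lit 10, nat_lit 9, nat_lit 8, nat_lit 10])))))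
noncomputable def w (i : ℕ) : List ℕ := TL.get w_t i
open Cfsg.Agent.Ct.M24 (q md loc sy h3)
theorem nrm : Subgroup.normalizer (gen q 10 : Set Cfsg.M24) ≤ gen q 10 := nrm_le sy (by decide) loc.ctr ((gen_mono q (by decide)).trans loc.cen.ge)
  (md.prod.nrm (by decide) (M' := 16) (k := 11) (n := 20) (V := V) (O := O) (rt := rt) (upTo_beq (by decide +kernel)) (K := [(141, 173), (511, 517), (227, 448), (338, 508), (272, 234), (399, 443)])
    (by decide) (w := w) (upTo_beq (by decide +kernel)) (upTo_beq (by decide +kernel)) loc.cen.ge (by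
      have h := md.cls (by decide +kernel) h3 (L := ⊤) fun _ _ => trivial
      rw [top_inf_eq, Subgroup.card_top, Spor.card_M24] at h
      rw [sy.card Nat.prime_two le_rfl]
      exact Nat.le_of_mul_le_mul_left h (by decide)))

end Cfsg.Agent.Ct.M24n
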