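import Cfsg.Agent.Lib.Cert.Fus
import Cfsg.Agent.Lib.Cert.Mod

/-! Self-normalizing Sylow 2-subgroups by certificate. -/

set_option autoImplicit false
set_option maxHeartbeats 200000
set_option linter.unusedSectionVars false

namespace Cfsg.Agent.Ct

open Cfsg.Agent.PC Cfsg.Agent.Fi Cfsg.Agent.Fusion MulAction Subgroup

variable {G X : Type*} [Group G] [MulAction G X] {pt : ℕ → X} {N m : ℕ} {B : List ℕ} {q : ℕ → G} {Q : ℕ → ℕ → ℕ}
  [Finite G] {r t : ℕ} {R : ℕ → List ℕ}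

noncomputable def nkE (O : ℕ → ℕ) (K : List (ℕ × ℕ)) (f : ℕ → ℕ) : ℕ :=
  List.rec (nat_lit 0) (fun a _ ih => Nat.add (eqI (force (f a.1) O) (force (f a.2) O)) (Nat.mul (nat_lit 2) ih)) K

theorem Md.nrm (M : Md pt N B q Q m) (h0 : r ≤ t ∧ t ≤ m) {M' k n : ℕ} {V O rt : ℕ → ℕ} (h1 : ∀ c < N, soE Q r N M' k V O rt c = 0)
    {K : List (ℕ × ℕ)} (h2 : ∀ a ∈ K, a.1 < N ∧ a.2 < N) {w : ℕ → List ℕ} (h3 : ∀ i < n + 1, lettE t (w i) = 0)
    (h4 : ∀ i < n, ltE (nkE O K (trF Q (w i))) (nkE O K (trF Q (w (Nat.add i (nat_lit 1))))) = 0)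
    {C : Subgroup G} (hC : gen q t ≤ C) (h5 : Nat.card C ≤ (n + 1) * Nat.card (gen q r)) :
    normalizer (gen q r : Set G) ⊓ C ≤ gen q r := by
  have o1 : ∀ c < N, ∀ d < N, O c = O d ↔ ∃ s ∈ gen q r, s • pt d = pt c := fun c hc d hd => by
    have e := orbit_eq_class (M.reps.mono (h0.1.trans h0.2)) M.inj (fun c hc => (add_eq_zero' (add_eq_zero' (h1 c hc)).1).1)
      (fun c hc => (add_eq_zero' (add_eq_zero' (h1 c hc)).1).2) hd (ltE_zero (add_eq_zero' (add_eq_zero' (h1 d hd)).2).1).ne'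
    exact ⟨fun h => let ⟨s, hs⟩ := e.ge ⟨c, ⟨hc, h⟩, rfl⟩; ⟨s, s.2, hs⟩,
      fun ⟨s, hs, h⟩ => let ⟨c', h', e'⟩ := e.le ⟨⟨s, hs⟩, h⟩; M.inj _ h'.1 _ hc e' ▸ h'.2⟩
  have o2 : ∀ {x y : G} {f g : ℕ → ℕ}, Rep pt N x f → Rep pt N y g → x * y⁻¹ ∈ normalizer (gen q r : Set G) → ∀ c < N, ∀ d < N,
      O (g c) = O (g d) → O (f c) = O (f d) := fun {x y f g} hx hy ha c hc d hd h => by
    obtain ⟨s, hs, e⟩ := (o1 _ (hy c hc).1 _ (hy d hd).1).mp h
    refine (o1 _ (hx c hc).1 _ (hx d hd).1).mpr ⟨_, (mem_normalizer_iff.mp ha s).mp hs, ?_⟩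
    rw [← (hx d hd).2, ← (hx c hc).2, ← mul_smul, show x * y⁻¹ * s * (x * y⁻¹)⁻¹ * x = x * y⁻¹ * s * y by group, mul_smul, (hy d hd).2,
      mul_smul, e, ← (hy c hc).2, ← mul_smul, inv_mul_cancel_right]
  have r1 : ∀ i < n + 1, Rep pt N (ev q (w i)) (trF Q (w i)) := fun i hi =>
    trF_eq Q _ ▸ M.reps.ev fun j hj => (lettE_zero (h3 i hi) j hj).trans_le h0.2
  let H := normalizer (gen q r : Set G) ⊓ C
  let y : ℕ → C ⧸ H.subgroupOf C := fun i => QuotientGroup.mk (PC.sub C (fun i => ev q (w i)) i)⁻¹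
  have t5 : Inj y (n + 1) := Inj.of_key (fun i => nkE O K (trF Q (w i))) (fun i hi j hj e => by
    have a : ev q (w i) * (ev q (w j))⁻¹ ∈ normalizer (gen q r : Set G) := by
      have k := fun i hi => coe_sub (g := fun i => ev q (w i)) (hC (ev_mem_gen q (lettE_zero (h3 i hi))))
      rw [← k i hi, ← k j hj]
      have := (mem_inf.mp (mem_subgroupOf.mp (QuotientGroup.eq.mp (show QuotientGroup.mk _ = QuotientGroup.mk _ from e)))).1
      rwa [inv_inv, coe_mul, coe_inv] at this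
    clear e h4
    induction K with
    | nil => rfl
    | cons b K ih =>
      have t := h2 b List.mem_cons_self
      show eqI _ _ + 2 * nkE O K _ = eqI _ _ + 2 * nkE O K _
      rw [ih (fun c hc => h2 c (List.mem_cons_of_mem _ hc)), force_eq, force_eq, force_eq, force_eq, eqI_eq, eqI_eq,
        if_congr ⟨o2 (r1 j hj) (r1 i hi) (by simpa using inv_mem a) _ t.1 _ t.2, o2 (r1 i hi) (r1 j hj) a _ t.1 _ t.2⟩ rfl rfl])
    fun i hi => ltE_zero (h4 i (by omega))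
  have c1 : n + 1 ≤ Nat.card (C ⧸ H.subgroupOf C) := by
    rw [← t5.ncard_Iio, ← Set.ncard_univ]; exact Set.ncard_le_ncard (Set.subset_univ _)
  have c2 := card_eq_card_quotient_mul_card_subgroup (H.subgroupOf C)
  rw [Nat.card_congr (subgroupOfEquivOfLe (inf_le_right : H ≤ C)).toEquiv] at c2
  exact (eq_of_le_of_card_ge (le_inf le_normalizer ((gen_mono q h0.1).trans hC))
    (Nat.le_of_mul_le_mul_left ((Nat.mul_le_mul_right _ c1).trans (c2 ▸ h5)) n.succ_pos)).ge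

theorem Md.ctr (M : Md pt N B q Q m) (S : Sy q 2 r R) (h0 : 0 < r ∧ r ≤ m) {Z : ℕ → ℕ} {pr : ℕ} (hp : pr = 2 ^ r)
    (h1 : ∀ c < pr, ncE Q N r r pr Z c = 0) : ∀ x ∈ gen q r, (∀ j < r, Commute x (q j)) → x = 1 ∨ x = q 0 := fun x hx hc => by
  subst hp
  obtain ⟨c, hc', rfl⟩ := S.nf two_pos le_rfl hx
  rcases mul_eq_zero' (h1 c hc') with e | e
  · obtain ⟨r, rfl⟩ : ∃ r', r = r' + 1 := ⟨r - 1, by omega⟩
    have : c / 2 = 0 := e
    obtain rfl | rfl : c = 0 ∨ c = 1 := by omega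
    all_goals simp [evp, evp_zero]
  obtain ⟨e1, e2⟩ := add_eq_zero' e
  obtain ⟨e1, e4⟩ := add_eq_zero' (add_eq_zero' e1).1
  have r1 := rep_evp M.reps 2 r 0 c (by omega)
  have r2 := M.reps _ ((ltE_zero e4).trans_le h0.2)
  have a1 := r1.mul r2 _ (ltE_zero e1)
  have a2 := r2.mul r1 _ (ltE_zero e1)
  rw [eqI_eq, if_pos (by exact M.inj _ a1.1 _ a2.1 (a1.2.symm.trans ((hc _ (ltE_zero e4)).eq ▸ a2.2)))] at e2
  cases e2

theorem Md.cen (M : Md pt N B q Q m) (h : lin (fun j => eqE Q B m [nat_lit 0, j] [j, nat_lit 0]) (nat_lit 0) t = 0) :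
    gen q t ≤ centralizer {q 0} := gen_le fun j hj => mem_centralizer_singleton_iff.mpr (by simpa using M.eq (lin_zero h j hj))

theorem nrm_le (S : Sy q 2 r R) (r0 : 0 < r) (hc : ∀ x ∈ gen q r, (∀ j < r, Commute x (q j)) → x = 1 ∨ x = q 0)
    (hz : gen q r ≤ centralizer {q 0}) (hN : normalizer (gen q r : Set G) ⊓ centralizer {q 0} ≤ gen q r) :
    normalizer (gen q r : Set G) ≤ gen q r := fun g hg => by
  have z0 := mem_gen q r0
  have n := mem_normalizer_iff.mp hg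
  refine hN ⟨hg, mem_centralizer_singleton_iff.mpr (conj_eq_iff.mp ((hc _ ((n _).mp z0) fun j hj => ?_).resolve_left fun e =>
    S.str 0 r0 (by rw [show q 0 = 1 by simpa using e]; exact one_mem _)))⟩
  have := mem_centralizer_singleton_iff.mp (hz ((n (g⁻¹ * q j * g)).mpr (by simpa [mul_assoc] using mem_gen q hj)))
  show _ * _ = _ * _
  calc _ = g * (q 0 * (g⁻¹ * q j * g)) * g⁻¹ := by group
    _ = _ := by rw [← this]; group

theorem Sy.sylowIn (S : Sy q 2 r R) : SylowIn 2 (gen q r) ⊤ :=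
  sylowIn_of_not_dvd_relIndex le_top (.of_card (S.card Nat.prime_two le_rfl)) (by rw [relIndex_top_right]; exact S.index Nat.prime_two)

theorem fus2 (S : Sy q 2 r R) (r0 : 0 < r) (hc : ∀ x ∈ gen q r, (∀ j < r, Commute x (q j)) → x = 1 ∨ x = q 0)
    (hN : normalizer (gen q r : Set G) ≤ gen q r) (hT : ∀ T ≤ gen q r, SCl (gen q r) T → q 0 ∈ T → gen q r ≤ T)
    {K : Type*} [Group K] (e : G ≃* K) (P : Sylow 2 K) : (groupFusionSystem (P : Subgroup K)).IsSimple 2 :=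
  simple_of_equiv e S.sylowIn (simple_of_cert S.sylowIn (mem_gen q r0) (fun e => S.str 0 r0 (e ▸ one_mem _))
    (fun x hx x1 _ c => ⟨1, by rw [pow_one, (hc x hx fun j hj => (c _ (mem_gen q hj)).symm).resolve_left x1]⟩) hT le_rfl
    (fun _ hc _ => hN (centralizer_le_normalizer _ hc)) fun g hg => subset_closure ⟨hg, r, by
      have := pow_card_eq_one' (x := (⟨g, hN hg⟩ : gen q r))
      rw [S.card Nat.prime_two le_rfl] at this
      exact congrArg Subtype.val this⟩) P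

end Cfsg.Agent.Ct
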