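import Cfsg.Agent.Lib.Cert.McLo.O
import Cfsg.Agent.Lib.Cert.Nrm

set_option autoImplicit false
set_option maxRecDepth 100000

namespace Cfsg.Agent.Ct.McLf

open Cfsg.Agent.PC

open Cfsg.Agent.Fi Cfsg.Agent.Ct
def W_t : TL := (TL.node (TL.node (TL.node (TL.node (TL.node (TL.leaf [nat_lit 2, nat_lit 1, nat_lit 0, nat_lit 2, nat_lit 0, nat_lit 1, nat_lit 0, nat_lit 2, nat_lit 0, nat_lit 1, nat_lit 2, nat_lit 0, nat_lit 1, nat_lit 2, nat_lit 1, nat_lit 0, nat_lit 1, nat_lit 0, nat_lit 1, nat_lit 0, nat_lit 1, nat_lit 0, nat_lit 2, nat_lit 1, nat_lit 2, nat_lit 1, nat_lit 2, nat_lit 0, nat_lit 1, nat_lit 0, nat_lit 2, nat_lit 0, nat_lit 2, nat_lit 1, nat_lit 0, nat_lit 2, nat_lit 0, nat_lit 2, nat_lit 0, nat_lit 2, nat_lit 1, nat_lit 2, nat_lit 0, nat_lit 1, nat_lit 2, nat_lit 1, nat_lit 0, nat_lit 2, nat_lit 1, nat_lit 2, nat_lit 0, nat_lit 1, nat_lit 0, nat_lit 1, nat_lit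 0, nat_lit 1, nat_lit 0, nat_lit 2, nat_lit 1, nat_lit 2, nat_lit 1, nat_lit 2, nat_lit 1, nat_lit 2, nat_lit 0, nat_lit 1, nat_lit 2, nat_lit 0, nat_lit 2, nat_lit 0, nat_lit 1, nat_lit 2, nat_lit 0, nat_lit 1, nat_lit 2, nat_lit 1, nat_lit 2, nat_lit 0, nat_lit 1, nat_lit 2, nat_lit 0, nat_lit 1, nat_lit 0, nat_lit 1, nat_lit 2]) (TL.leaf [nat_lit 0, nat_lit 2, nat_lit 1, nat_lit 0, nat_lit 2, nat_lit 1, nat_lit 2, nat_lit 0, nat_lit 1, nat_lit 2, nat_lit 1, nat_lit 2, nat_lit 1, nat_lit 2, nat_lit 0, nat_lit 2, nat_lit 1, nat_lit 0, nat_lit 1, nat_lit 2, nat_lit 1, nat_lit 2, nat_lit 1, nat_lit 0, nat_lit 1, nat_lit 2, nat_lit 0, nat_lit 1, nat_lit 0, nat_lit 2, nat_lit 0, nat_lit 2, nat_lit 0, nat_lit 1, nat_lit 0, nat_lit 1, nat_lit 0, nat_lit 2, nat_lit 1, nat_lit 2, nat_lit 0, nat_lit 1, nat_lit 0, nat_lit 2, nat_lit 0, nat_lit 1, nat_lit 0, nat_lit 2, nat_lit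 1, nat_lit 0, nat_lit 2, nat_lit 0, nat_lit 1, nat_lit 0, nat_lit 2, nat_lit 0, nat_lit 1, nat_lit 2, nat_lit 1, nat_lit 0, nat_lit 1, nat_lit 0, nat_lit 2, nat_lit 1, nat_lit 0, nat_lit 2, nat_lit 0, nat_lit 1, nat_lit 0, nat_lit 1, nat_lit 2, nat_lit 0, nat_lit 2, nat_lit 1, nat_lit 2, nat_lit 1, nat_lit 0, nat_lit 2, nat_lit 1, nat_lit 2, nat_lit 1])) (TL.leaf [nat_lit 0, nat_lit 1, nat_lit 2, nat_lit 1, nat_lit 0, nat_lit 1, nat_lit 2, nat_lit 0, nat_lit 2, nat_lit 1, nat_lit 2, nat_lit 0, nat_lit 2, nat_lit 1, nat_lit 2, nat_lit 0, nat_lit 2, nat_lit 0, nat_lit 1, nat_lit 0, nat_lit 2, nat_lit 1, nat_lit 0, nat_lit 1, nat_lit 0, nat_lit 1, nat_lit 0, nat_lit 1, nat_lit 2, nat_lit 0, nat_lit 2, nat_lit 1, nat_lit 0, nat_lit 1, nat_lit 0, nat_lit 1, nat_lit 0, nat_lit 1, nat_lit 0, nat_lit 2, nat_lit 1, nat_lit 2, nat_lit 1, nat_lit 2, nat_lit 0, nat_lit 1, nat_lit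 0, nat_lit 2, nat_lit 0, nat_lit 2, nat_lit 1, nat_lit 0, nat_lit 2, nat_lit 1, nat_lit 0, nat_lit 2, nat_lit 1, nat_lit 0, nat_lit 1, nat_lit 2, nat_lit 0, nat_lit 1, nat_lit 2, nat_lit 0, nat_lit 1, nat_lit 0, nat_lit 1, nat_lit 0, nat_lit 1, nat_lit 0, nat_lit 1, nat_lit 2, nat_lit 0, nat_lit 1, nat_lit 0, nat_lit 2, nat_lit 0, nat_lit 2, nat_lit 0, nat_lit 2, nat_lit 1])) (TL.node (TL.leaf [nat_lit 0, nat_lit 1, nat_lit 0, nat_lit 2, nat_lit 1, nat_lit 2, nat_lit 0, nat_lit 2, nat_lit 0, nat_lit 2, nat_lit 0, nat_lit 2, nat_lit 1, nat_lit 2, nat_lit 0, nat_lit 2, nat_lit 0, nat_lit 2, nat_lit 0, nat_lit 2, nat_lit 1, nat_lit 2, nat_lit 0, nat_lit 1, nat_lit 2, nat_lit 1, nat_lit 2, nat_lit 0, nat_lit 2, nat_lit 0, nat_lit 2, nat_lit 1, nat_lit 2, nat_lit 1, nat_lit 2, nat_lit 1, nat_lit 2, nat_lit 0, nat_lit 2, nat_lit 0, nat_lit 2, nat_lit 1, nat_lit 0, nat_lit 1,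 nat_lit 0, nat_lit 2, nat_lit 0]) (TL.leaf []))) (TL.node (TL.node (TL.node (TL.leaf [nat_lit 1, nat_lit 0, nat_lit 1, nat_lit 0, nat_lit 1, nat_lit 2, nat_lit 1, nat_lit 2, nat_lit 1, nat_lit 0, nat_lit 2, nat_lit 0, nat_lit 1, nat_lit 0, nat_lit 1, nat_lit 0, nat_lit 2, nat_lit 0, nat_lit 2, nat_lit 1, nat_lit 0, nat_lit 2, nat_lit 1, nat_lit 2, nat_lit 1, nat_lit 2, nat_lit 0, nat_lit 1, nat_lit 0, nat_lit 1, nat_lit 0, nat_lit 2, nat_lit 0, nat_lit 2, nat_lit 0, nat_lit 1, nat_lit 0, nat_lit 1, nat_lit 0, nat_lit 2, nat_lit 1, nat_lit 2, nat_lit 0, nat_lit 2, nat_lit 0, nat_lit 1, nat_lit 2, nat_lit 1, nat_lit 0, nat_lit 2, nat_lit 0, nat_lit 2, nat_lit 0, nat_lit 2, nat_lit 1, nat_lit 0]) (TL.leaf [nat_lit 0, nat_lit 1, nat_lit 2, nat_lit 0, nat_lit 1, nat_lit 0, nat_lit 2, nat_lit 0, nat_lit 2, nat_lit 1, nat_lit 2, nat_lit 0, nat_lit 2, nat_lit 1, nat_lit 2, nat_lit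 0, nat_lit 2, nat_lit 1, nat_lit 0, nat_lit 1, nat_lit 2, nat_lit 1, nat_lit 0, nat_lit 2, nat_lit 0, nat_lit 1, nat_lit 0, nat_lit 1, nat_lit 0, nat_lit 2, nat_lit 0, nat_lit 2, nat_lit 0, nat_lit 1, nat_lit 0, nat_lit 1, nat_lit 0, nat_lit 2, nat_lit 1, nat_lit 0, nat_lit 1, nat_lit 2, nat_lit 0, nat_lit 1, nat_lit 0, nat_lit 1, nat_lit 0, nat_lit 2, nat_lit 1, nat_lit 2, nat_lit 1, nat_lit 2, nat_lit 0, nat_lit 1, nat_lit 0, nat_lit 2, nat_lit 0, nat_lit 1, nat_lit 2, nat_lit 1, nat_lit 0, nat_lit 1, nat_lit 0, nat_lit 1, nat_lit 2, nat_lit 1, nat_lit 0, nat_lit 1, nat_lit 2, nat_lit 1, nat_lit 2, nat_lit 1, nat_lit 0, nat_lit 2, nat_lit 0, nat_lit 1, nat_lit 0])) (TL.leaf [nat_lit 0, nat_lit 1, nat_lit 2, nat_lit 1, nat_lit 0, nat_lit 2, nat_lit 1, nat_lit 2, nat_lit 0, nat_lit 2, nat_lit 0, nat_lit 2, nat_lit 1, nat_lit 2, nat_lit 0, nat_lit 2, nat_lit 1, nat_lit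 0, nat_lit 2, nat_lit 0, nat_lit 1, nat_lit 0, nat_lit 2, nat_lit 0, nat_lit 1, nat_lit 2, nat_lit 1, nat_lit 2, nat_lit 1, nat_lit 0, nat_lit 2, nat_lit 1, nat_lit 2, nat_lit 0, nat_lit 2, nat_lit 0, nat_lit 2, nat_lit 0, nat_lit 1, nat_lit 2, nat_lit 0, nat_lit 1, nat_lit 2, nat_lit 0, nat_lit 1, nat_lit 2, nat_lit 1, nat_lit 0, nat_lit 1, nat_lit 2, nat_lit 1, nat_lit 0, nat_lit 2, nat_lit 0, nat_lit 1, nat_lit 0, nat_lit 2, nat_lit 1, nat_lit 2, nat_lit 0, nat_lit 1, nat_lit 0, nat_lit 2, nat_lit 0, nat_lit 1, nat_lit 2, nat_lit 1, nat_lit 0, nat_lit 1, nat_lit 0, nat_lit 1, nat_lit 2, nat_lit 0, nat_lit 1, nat_lit 0, nat_lit 1, nat_lit 0, nat_lit 2, nat_lit 1, nat_lit 2, nat_lit 1, nat_lit 2, nat_lit 0, nat_lit 1, nat_lit 0, nat_lit 1, nat_lit 0, nat_lit 1, nat_lit 2, nat_lit 0, nat_lit 1, nat_lit 2, nat_lit 0, nat_lit 2, nat_lit 1, nat_lit 0, nat_lit 1, nat_lit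 0, nat_lit 1, nat_lit 0, nat_lit 2, nat_lit 0, nat_lit 2])) (TL.node (TL.leaf [nat_lit 0, nat_lit 1, nat_lit 2, nat_lit 0, nat_lit 1, nat_lit 0, nat_lit 2, nat_lit 0, nat_lit 2, nat_lit 1, nat_lit 2, nat_lit 0, nat_lit 2, nat_lit 1, nat_lit 2, nat_lit 0, nat_lit 2, nat_lit 1, nat_lit 0, nat_lit 1, nat_lit 2, nat_lit 1, nat_lit 0, nat_lit 1, nat_lit 0, nat_lit 2, nat_lit 0, nat_lit 2, nat_lit 0, nat_lit 1, nat_lit 0, nat_lit 1, nat_lit 0, nat_lit 2, nat_lit 0, nat_lit 2, nat_lit 0, nat_lit 2, nat_lit 1, nat_lit 0, nat_lit 1, nat_lit 0, nat_lit 2, nat_lit 1, nat_lit 0, nat_lit 2, nat_lit 1, nat_lit 2, nat_lit 0, nat_lit 2, nat_lit 1, nat_lit 2, nat_lit 0, nat_lit 2, nat_lit 1, nat_lit 2, nat_lit 1, nat_lit 0, nat_lit 1, nat_lit 2, nat_lit 0]) (TL.leaf [nat_lit 1, nat_lit 2, nat_lit 1, nat_lit 2, nat_lit 0, nat_lit 1, nat_lit 0, nat_lit 2, nat_lit 0, nat_lit 1, nat_lit 2,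 nat_lit 0, nat_lit 1, nat_lit 0, nat_lit 2, nat_lit 1, nat_lit 0, nat_lit 1, nat_lit 0, nat_lit 1, nat_lit 0, nat_lit 1, nat_lit 0, nat_lit 1, nat_lit 2, nat_lit 0, nat_lit 2, nat_lit 1, nat_lit 0, nat_lit 1, nat_lit 0, nat_lit 1, nat_lit 2, nat_lit 0, nat_lit 1, nat_lit 0, nat_lit 1, nat_lit 0, nat_lit 2, nat_lit 1, nat_lit 0, nat_lit 2, nat_lit 1, nat_lit 0, nat_lit 1, nat_lit 2, nat_lit 1, nat_lit 2, nat_lit 1, nat_lit 0, nat_lit 2, nat_lit 1, nat_lit 0, nat_lit 1, nat_lit 2, nat_lit 1, nat_lit 2, nat_lit 0, nat_lit 2])))) (TL.node (TL.node (TL.node (TL.node (TL.leaf [nat_lit 1, nat_lit 0, nat_lit 1, nat_lit 0, nat_lit 1, nat_lit 2, nat_lit 1, nat_lit 2, nat_lit 1, nat_lit 0, nat_lit 2, nat_lit 0, nat_lit 1, nat_lit 0, nat_lit 1, nat_lit 0, nat_lit 2, nat_lit 0, nat_lit 2, nat_lit 1, nat_lit 0, nat_lit 2, nat_lit 1, nat_lit 2, nat_lit 1, nat_lit 2, nat_lit 1, nat_lit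 2, nat_lit 1, nat_lit 0, nat_lit 2, nat_lit 0, nat_lit 1, nat_lit 2, nat_lit 0, nat_lit 2, nat_lit 1, nat_lit 0, nat_lit 2, nat_lit 1, nat_lit 2, nat_lit 1, nat_lit 2, nat_lit 0, nat_lit 1, nat_lit 2, nat_lit 1, nat_lit 2, nat_lit 0, nat_lit 1, nat_lit 0, nat_lit 1, nat_lit 0, nat_lit 1, nat_lit 0, nat_lit 2, nat_lit 1, nat_lit 2, nat_lit 0, nat_lit 1, nat_lit 2, nat_lit 0, nat_lit 1, nat_lit 2, nat_lit 0, nat_lit 1, nat_lit 0, nat_lit 1, nat_lit 0, nat_lit 2, nat_lit 1, nat_lit 0, nat_lit 2, nat_lit 1, nat_lit 2, nat_lit 1]) (TL.leaf [nat_lit 0, nat_lit 1, nat_lit 2, nat_lit 1, nat_lit 0, nat_lit 1, nat_lit 0, nat_lit 2, nat_lit 1, nat_lit 2, nat_lit 0, nat_lit 2, nat_lit 0, nat_lit 2, nat_lit 1, nat_lit 0, nat_lit 1, nat_lit 2, nat_lit 0, nat_lit 1, nat_lit 0, nat_lit 1, nat_lit 0, nat_lit 2, nat_lit 0, nat_lit 2, nat_lit 0, nat_lit 1, nat_lit 0, nat_lit 1, nat_lit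 0, nat_lit 1, nat_lit 0, nat_lit 2, nat_lit 0, nat_lit 1, nat_lit 2, nat_lit 1, nat_lit 0, nat_lit 1, nat_lit 0, nat_lit 1, nat_lit 2, nat_lit 1, nat_lit 2, nat_lit 0, nat_lit 2, nat_lit 1, nat_lit 0, nat_lit 2, nat_lit 1, nat_lit 0, nat_lit 2, nat_lit 1])) (TL.leaf [nat_lit 2, nat_lit 0, nat_lit 1, nat_lit 2, nat_lit 1, nat_lit 0, nat_lit 1, nat_lit 0, nat_lit 1, nat_lit 2, nat_lit 1, nat_lit 0, nat_lit 2, nat_lit 1, nat_lit 0, nat_lit 2, nat_lit 1, nat_lit 0, nat_lit 1, nat_lit 0, nat_lit 2, nat_lit 0, nat_lit 1, nat_lit 0, nat_lit 2, nat_lit 0, nat_lit 1, nat_lit 0, nat_lit 2, nat_lit 1, nat_lit 0, nat_lit 2, nat_lit 0, nat_lit 1, nat_lit 0, nat_lit 2, nat_lit 0, nat_lit 1, nat_lit 0, nat_lit 1, nat_lit 0, nat_lit 1, nat_lit 2, nat_lit 1, nat_lit 2, nat_lit 0, nat_lit 1, nat_lit 2, nat_lit 1, nat_lit 0, nat_lit 2, nat_lit 0, nat_lit 1, nat_lit 0, nat_lit 2, nat_lit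 0, nat_lit 2, nat_lit 0, nat_lit 1, nat_lit 0, nat_lit 2, nat_lit 1, nat_lit 0, nat_lit 2, nat_lit 1, nat_lit 0, nat_lit 2, nat_lit 1, nat_lit 2, nat_lit 1, nat_lit 0, nat_lit 2])) (TL.node (TL.leaf [nat_lit 0, nat_lit 1, nat_lit 2, nat_lit 1, nat_lit 0, nat_lit 1, nat_lit 2, nat_lit 0, nat_lit 2, nat_lit 1, nat_lit 2, nat_lit 0, nat_lit 2, nat_lit 1, nat_lit 2, nat_lit 0, nat_lit 2, nat_lit 0, nat_lit 1, nat_lit 0, nat_lit 2, nat_lit 1, nat_lit 2, nat_lit 0, nat_lit 1, nat_lit 2, nat_lit 1, nat_lit 0, nat_lit 2, nat_lit 0, nat_lit 2, nat_lit 0, nat_lit 1, nat_lit 2, nat_lit 1, nat_lit 0, nat_lit 2, nat_lit 1, nat_lit 2, nat_lit 1, nat_lit 2, nat_lit 0, nat_lit 1, nat_lit 2, nat_lit 0, nat_lit 2, nat_lit 0, nat_lit 2, nat_lit 1, nat_lit 0, nat_lit 2, nat_lit 1, nat_lit 0, nat_lit 2, nat_lit 0, nat_lit 2, nat_lit 1]) (TL.leaf [nat_lit 1, nat_lit 0, nat_lit 1, nat_lit 0,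 nat_lit 1, nat_lit 2, nat_lit 1, nat_lit 2, nat_lit 1, nat_lit 0, nat_lit 2, nat_lit 0, nat_lit 1, nat_lit 0, nat_lit 1, nat_lit 0, nat_lit 2, nat_lit 0, nat_lit 2, nat_lit 1, nat_lit 0, nat_lit 1, nat_lit 2, nat_lit 0, nat_lit 2, nat_lit 0, nat_lit 1, nat_lit 2, nat_lit 0, nat_lit 2, nat_lit 0, nat_lit 2, nat_lit 0, nat_lit 2, nat_lit 1, nat_lit 0, nat_lit 2, nat_lit 0, nat_lit 1, nat_lit 2, nat_lit 1, nat_lit 2, nat_lit 0, nat_lit 1, nat_lit 2, nat_lit 0, nat_lit 2, nat_lit 1, nat_lit 0, nat_lit 2, nat_lit 1, nat_lit 2, nat_lit 1, nat_lit 0, nat_lit 2, nat_lit 1, nat_lit 0, nat_lit 1, nat_lit 2, nat_lit 0, nat_lit 2, nat_lit 0, nat_lit 1, nat_lit 2, nat_lit 0, nat_lit 2, nat_lit 0, nat_lit 1, nat_lit 0]))) (TL.node (TL.node (TL.leaf [nat_lit 0, nat_lit 2, nat_lit 1, nat_lit 0, nat_lit 2, nat_lit 1, nat_lit 2, nat_lit 0, nat_lit 1, nat_lit 2, nat_lit 1, nat_lit 2, nat_lit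 1, nat_lit 2, nat_lit 0, nat_lit 2, nat_lit 1, nat_lit 0, nat_lit 1, nat_lit 2, nat_lit 1, nat_lit 2, nat_lit 1, nat_lit 0, nat_lit 1, nat_lit 2, nat_lit 1, nat_lit 0, nat_lit 2, nat_lit 0, nat_lit 2, nat_lit 1, nat_lit 0, nat_lit 2, nat_lit 1, nat_lit 2, nat_lit 0, nat_lit 2, nat_lit 1, nat_lit 0, nat_lit 2, nat_lit 0, nat_lit 1, nat_lit 0, nat_lit 2, nat_lit 0, nat_lit 2, nat_lit 1, nat_lit 2]) (TL.leaf [nat_lit 0, nat_lit 2, nat_lit 1, nat_lit 2, nat_lit 0, nat_lit 1, nat_lit 0, nat_lit 1, nat_lit 0, nat_lit 1, nat_lit 0, nat_lit 2, nat_lit 1, nat_lit 2, nat_lit 0, nat_lit 1, nat_lit 2, nat_lit 0, nat_lit 2, nat_lit 1, nat_lit 2, nat_lit 0, nat_lit 2, nat_lit 0, nat_lit 2, nat_lit 0, nat_lit 1, nat_lit 2, nat_lit 0, nat_lit 1, nat_lit 0, nat_lit 1, nat_lit 0, nat_lit 2, nat_lit 0, nat_lit 2, nat_lit 1, nat_lit 0, nat_lit 2, nat_lit 1, nat_lit 2, nat_lit 0, nat_lit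 1, nat_lit 2, nat_lit 0, nat_lit 2, nat_lit 1, nat_lit 2, nat_lit 0, nat_lit 2, nat_lit 0, nat_lit 1, nat_lit 2, nat_lit 0, nat_lit 1, nat_lit 2, nat_lit 1, nat_lit 2, nat_lit 0, nat_lit 1, nat_lit 0, nat_lit 1])) (TL.node (TL.leaf [nat_lit 1, nat_lit 2, nat_lit 1, nat_lit 0, nat_lit 1, nat_lit 0, nat_lit 1, nat_lit 2, nat_lit 1, nat_lit 2, nat_lit 0, nat_lit 2, nat_lit 0, nat_lit 2, nat_lit 0, nat_lit 1, nat_lit 0, nat_lit 1, nat_lit 0, nat_lit 2, nat_lit 0, nat_lit 1, nat_lit 2, nat_lit 1, nat_lit 0, nat_lit 1, nat_lit 2, nat_lit 0, nat_lit 1, nat_lit 0, nat_lit 1, nat_lit 0, nat_lit 2, nat_lit 1, nat_lit 2, nat_lit 1, nat_lit 2, nat_lit 0, nat_lit 2, nat_lit 1, nat_lit 0, nat_lit 2, nat_lit 0, nat_lit 1, nat_lit 0, nat_lit 2, nat_lit 0, nat_lit 1, nat_lit 2, nat_lit 1, nat_lit 0, nat_lit 2, nat_lit 0, nat_lit 1, nat_lit 2, nat_lit 1, nat_lit 2, nat_lit 0, nat_lit 1,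 nat_lit 0, nat_lit 2, nat_lit 1, nat_lit 2, nat_lit 1, nat_lit 0, nat_lit 2, nat_lit 0, nat_lit 2, nat_lit 0, nat_lit 1, nat_lit 0, nat_lit 1, nat_lit 2]) (TL.leaf [nat_lit 1, nat_lit 0, nat_lit 1, nat_lit 0, nat_lit 1, nat_lit 2, nat_lit 0, nat_lit 1, nat_lit 2, nat_lit 0, nat_lit 1, nat_lit 2, nat_lit 1, nat_lit 0, nat_lit 1, nat_lit 0, nat_lit 1, nat_lit 0, nat_lit 2, nat_lit 0, nat_lit 1, nat_lit 0, nat_lit 2, nat_lit 1, nat_lit 2, nat_lit 1, nat_lit 2, nat_lit 0, nat_lit 2, nat_lit 0, nat_lit 2, nat_lit 1, nat_lit 0, nat_lit 2, nat_lit 0, nat_lit 2, nat_lit 0, nat_lit 2, nat_lit 1, nat_lit 2, nat_lit 0, nat_lit 1, nat_lit 2, nat_lit 0, nat_lit 1, nat_lit 0])))))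
noncomputable def W (i : ℕ) : List ℕ := TL.get W_t i
noncomputable def W' (j : ℕ) : List ℕ := Nat.rec (McLo.W 0) (fun _ _ => W j) j
noncomputable def q (j : ℕ) : Cfsg.Spor.McL := ev McL.al (W' j)
def Qf_t : TN := (TN.node (TN.node (TN.node (TN.node (TN.leaf (nat_lit 0x763a9d6152d39c2e1258b085c8b703d58c2c6a1d1b45b48050dc946e2b1262919431fe8131c00046752229bca3621e9c63a602fe14b8390ecd4b45ebc026b55c8212ae4369e20a1a69875e31012268945664315f05f4e27c4c9d501354e6821a5d24b26ab492c216c23e088d063858e89020d84485019849ccd328e0fc060f915866f57c08e6446d9d978401f1e5acb010041744b4cb26228028b30548330285e50d1e365d103283f94af92a131e8642c0ad049b299a54c0d83bb5de7b3aa603218388fce03d2e2ed83063f8010e35180cda0311a0bdc4056e93cc4d11409d3c255408d0c91361f01cab8086d5a4220b99dce96bad9ca073583c3c494602e100959844fa2d4421194fb1baf6222268bb20616040816655730e5b25a869dc97006715c1ec1090e814ba5c0a4223c140b554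744633d110e54091d28e73c1c02b13e1d5a4e0039c458d05b9820ad81bb5830324c3861edc773fd8651659e59265271018a236687df88d5f9b224725dbe156f76d84d6a1d84a81c87b0316cb0435cbc50ceb4d1085680519a820b24f8c13a9541a9cc4d319a453841458852c9012ba180ef49a0862ed1b2a46a844da28f4a43f86cf0e358205947d81039c4f00f2f1bc70011b88abe2fa88382a339999063322649ada35814b25257410baad7f13e105426171981a2b31cc25380864921702030da2e5629928c6138f87af41dbea0c386ba1d0a264bb51129e17911e4dd529a1ecf31f8d11eea62441250a611cd68693f14094d5244302a005b3edeaa17e9d81a4605be4130b6fabcbc47019bdca14)) (TN.leaf (nat_lit 0x7d9e12c4d1f24c88163fa44b63341b886e641743e006931005d8fe240ac964358a016a854f225e47216064a0ee7eb44d4865f33cbc813c89195071c94d9632399c5bed747b343c707582104d481084deb2450b5289c1398470a9571f0a8c77244572e05b0f030bd100701a677e025b8a6149489887022fde81524aed2e462529184d91b369ee1a2d2a9889555c1524d211999fe8b3f13c4c88742f0be59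6010a129b3280d9255881808a223718e08ef6f1ec040c4e9743ead698c5cc3d61aa118e56715990e13ac29740f89075f477769a0d8f060a61e6587ac31ce8d423e2026b628c0f4d581a95ba745d99cd0d54a9296108533dc982c470102aad2a0dd085e7334c366a1f8e1a8dd2d090467a7e41073000633606a76c00c2631789e42eea3e1c13a105c3c8ac495f8b8610a1eae95cd01f3a03a8c7b081885783084ec7b7cb2474a92f83c88f30b28cc826191f954664c2244e072db8c3c11442715efd20ad0ef0b14ac620360333d322800259725884b31b859558ac04721529536b32991d20bc231d5bcc727b0c161977b20d83446829506539bfc02e05e9219c554537db60d04889e8503c12d049143a911eda27431ce427d3b84ae23f94a1ac2372d93e35303b0bad6228f10a1416a787681812f83e7d029bdca933a3c21c834b8609a86289c4d2b2313b5aeb783a2e1ee431a5080c10e02196d26cc14346b090ce02c05034544c536bf900437c3acb8ac7a985342f74a49f6a1893858cb588b281cd15b262007b7ba2466672fb39543509129cc5a3839dbc315e9e8461436925b902))) (TN.leaf (nat_lit 0x5b80ce2565e91574f25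215490b14abf05aff562bdbd0a82401e60e3e229d46a3ba0d227a14810dc08069a60af9309ce127271aba1a8e60875160f5c9d46c9a70a8960e62ba1868cd4a274442e362f8183368ad946301f331fa466735566c4119bdbcbe77ba84d112d90454e553b0c5c407fbc1683f22bac0c47621d45a8e55bf5dc7b1f1350eaf7baa1d0cc878ea0c804e8662504143e438a53410914bd6e2652aa944afc06692fc1c188f868102a0735b4120db69401260174a6848847c03ca0da3f13840ac2a02cb8c6011b0921a2189d10446b955f68b56985ac4c0506e1c81531a8267a73074ec9e411f090147f2ec6cb83a094e6c8110ede2c76285d60c01bb7d6c8d68ad55c3c698d5ce771c3603e78158a4a50b490ca04107e0e45e715d1956eaa7b178590c64990bab25895dda940c14496d94b1b8ce8c36981487d31285c84a390149efa4e20d9a9f76021c0d55e19a02c22b07a061606c29c2096a0448c7071218685a71960fef50004982637a41446a284a6d9cf279a812eb959c40f308108f4600e65a8d0a314c33cb23329a45baca49ba4448061a2096f62bb219eac22c144ced0f85a00ff1003d825c129a5a46a85844f28679079984c2ac0d9aa83f445047f218092ce34e2e8dc600a178084103b653ead6b190b24f7c2908f08673b1e03d1e026123028314330e3bbf11a495f22d78b570ae544945b2ed346550a4560061b35e0eab398a1d61d21121a22f5c2c820d827275c4355a224ac78721d56f12492c5203a45300a6bd472661a5b79a0d0885741ea1ee7750ccf87b)))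 (TN.node (TN.node (TN.leaf (nat_lit 0x592d4609d4e245b499513fd0695822e49a9b62c0830bc75aacc636768c552e442258c88040998267b891f548795809480e278379801e38009ac0636341a61c1519cfec341228c42153b70b0597716c825d2f3cc7412703f59ec716be998920792c52150891dd4af222e9a25a3b4187c2f86400ac2788acd12b11a33942874f0f45c5076304d04a7f0e44c77062a84461852e0e2d234ad9e4f6473d5e849041f8aa486a1318ce91202dca090a398daad0200cdef98590600a456aa9bd0c081d8bef57dc38c4c2389f950c511bcd34b95c075beb76a941d05258a9866430e33c5cf14f0d222e35f8497a85843b54ae0820807e144c131323b1080dcc37378acb00077312206451a887c9c272f9d2dd113e556877387928c01c36d8218698953efa35b346adc4d9a1ecca7e25cca3007815c2b20a9d0fac35a9185e8184bf55c02832c0f4482b114f6bb099f06c6927a28e44418b20ae6e59a090ca0069dc9a55682a4d4610dc0d10ac2ea3614c97c2106473033c048d93832d2a516616e16535786480f41507d8c291424c22546d0f0c70f45b1c106075bc920e53a92da8473c9782e6c6719d3a5c3fad1d84949225fcef1cb5d780c0481084276941434e47fa316c2616200da0e0516474ea813445b0700858cc9647bdd1c7853c35b1010581c7aa12d20c94e26b2ea24910bb1564f64b882187881abdd0b85516df30a3b8c1d22c58bf582181d411a6e687b8c7835028e4f2ea77010664677c0210e77ba50aef517385c0c2073392c02302b8fe6d6b04924f8690a522cf6ea90a2153a19d02c7))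 (TN.leaf (nat_lit 0xaf4e938247e5ca9836b751831f80a7305c94957a3e182ca69b704a05174117a6e7393dd2fa54161969b1503d4e8504934382941109a10c7cae940dd3900902fb2012dd45333a1e146c549bd06f63833c1a165a89cb820352edace519334cce23c12223032a1cc3e7711bd58a000e878bcff358e97eeb))) (TN.leaf (nat_lit 0x439952a82b9508e516844a231087c3a1b0c85c2a130883c1a0b0481c0a03007fbf9fafc7dbe9f2f87bbd9eaf479bc9e2f077bb9daec75ba9d2e873b99cae471b89c2e06fb79badc6db69b2d86bb59aad469b49a2d067b399acc65b2992c863b198ac461b0982c05faf97abc5dae972b85bad96ab459ac962b057ab95aac55aa952a853a994aa451a8942a04fa793a9c4da6932984ba592a9449a49229047a391a8c45a29128843a190a8441a0902803f9f8fa7c3d9e8f2783b9d8ea74399c8e270379b8da6c359a8d26833998ca6431988c2602f978ba5c2d968b2582b958aa5429948a250279389a4c259289248239188a442190882401f8f87a3c1d8e872381b8d86a34198c86230178b85a2c158a85228138984a241188842200f8783a1c0d86832180b8582a14098482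210078381a0c058281208038180a040180802008524ddab328b855ab646189c03d3202c2e922fa811c87832e458be7e05602b5023dda254193cd74714239cc2f5141544a5c7e8f0c0ff3abc8fcf424c20cc006f2e0f6957130588af290fcdeb038370d09b50bec761c3733c8cf02f39856e535b653a370d3a45ec91a0160a21032a9780261a5dd881132c43d0448afd2c0e03841450d14c0d6e13860243a0851bf85aa57c4410af92541c4e8f0a201e219590e436d44d341527753b16000a1f31916c287b61c6e45e9d19645451e4fa24088c084ae21ba0f8313291cd4ee7b3303e4f6ec393c44102985c6d19889069455a35ae860699c309026830fec02d04a22bb89339387300ab0eca824139688931a7d32a4)))) (TN.node (TN.node (TN.node (TN.leaf (nat_lit 0xf4447e806fbf062bf2c9210e494c2ae0e6f5b2d43a06883f829096c94144b98325418a7252959a6656134449f258250c5f4d1a1750e6e2a5ca936a340708f2aa24488b452348ebc4e0a1086b4132186d80d820220032bc217023891194401b1d87cb73735cba832189932c9519e8c66415041b49b169b0a505052f834e42b238a84c2e3315a4f27284a6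9e532ed7a88758dcea6a0c804e6c4380bde80d7d3c52045393cc38ec10b02023d71179fe2b313450a23348951827500ca1a07632d0687e2c109f7120b32d60136a9f0c20f6f0ed500b2d274fa1f59bc9da036d904f67c1d9740a27433d15e9c3c0600e2c31005529a4f0e154b10da2dd0e14a10c3e2d240586af67f9e5d65c220fd180c480497edf823fa24471d1520ea483244048f4c854f66e8408544fa2f258a4f107138fef03390198c8068ccecf749a25cea0718d8ccac15b08de535a93cfabe2bb5c102a533e14ace86bbe04585c9c49298309b13e4b04880be77829a988dc85029f8d4683a4c0fb18aa18263468b9790379a10d6640f37996fd84af46e733a2cd4ecd023290287401c1b6d60a2c936d31a2b992bb6322904d908095070f1133cd0e588109c8b46ab8026ee638643a5150ad8605051844eaea0022174ad7c9961c3e17c3222d26ec016072140704692604047aed148e5565b79215d8696d1192e5919255707a2b0981e4a0d155ea3c6c114988e0b934fcc36289016414e819cd0b68b8806b72d1b5ee6654bda1c5d67c257d0b0512072ae47164ee1c65b38aefd7d005f8555144a1edf293ccbcaa5b9182c47)) (TN.leaf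 (nat_lit 0x142680edf03272020e4f35cda194b2b5dc801bc20309915b0d664429131e4613e2421246180f0ae892b0bcb6ef16a50f6d81135224e16c80482b882a94bede789258ea247330fef73ab0842ec1fa3db41423a182a2c1cb260c7167040f25d4604c6a8457169d06245234d03362021b6ac2cbce1ea471954ca69870696c8b5f27c48362831964fe132ad603168b90fa7a1f0e02307693007688323c220a164146010d4b80e16b422af20460700d086761ea61246305bf5aa93551d122ed022c4e27554bedb2c9039a6102672b680507559c0b62406b6e02450c25608e85f351f2174888044c81994570cb5720cd6501f0b8fc7d50a645109713d436814106438417a09458394d3f442bd638048687768f2145c2d1318a542b9c978483a235ccb23da7cca0503109ace78783046005b9fd1cfa86178d89636bf85a3d09380f44a1fb849cb5553e16278478ac20f113b7960141d918ce9866282010d748c010ba5d9e42a68892b46e63312b0548032414ecf3762489a602c30c34a24a438b28c0f12488e3428d5a0f075a5d5eb96307d681d7e3a874f74493d38474eb04eed32b12da2c033409206f0233de4c4519b9fed285afcf86a6e83ddeca53a956ccd4502d100e2e8250c115200c26346bb90e6616f8d966294f17c5ef683444aace7721080d55326e20311c22d849354029b0322994a06dc0b0ec683a07418802a682d06af1662bd469a3b06c26b7581042eb35129d58f91401cae1217ae1ece308421403f2e02932142393a1c9f28a3a170d483a40a6d08ba9b0db6b02c4a7d508018c06)))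 (TN.leaf (nat_lit 0x6d329d4563d34c702a84b4880db1a9a5acd50b164b0034414cb63a3c37dde5020b20970b7588d300f66be8ae6c1b1c904c781174983e20244ec594fa681f12133751afe5a29d3a027c1f1c695733e9920947a49ea5e75b7de2e14430c285f882b01c2c5c995dac15f9cce8d686c202ada2d334462e5e9d498200fa0c52257a2058a3d05174e02d5b84406793eb515c776a90d4afb392c07ef07eb65390b7b8d21e8654b3da667860e49cb1400dcfc55498bd2ca06540462585e0f19682180315aa46b93e23035311d170026c28f06e19869fe4b483b8a00455a2488e036191b02a36858fe38711c4760577b39a0c62981d7c6010b3092dc3141865097639204c200b9c30420e870102b74bcc32d28704cb63523000208e6f0d8c2c43795ccc6809091a27a83b959017428a17606112d8a4f2319a570544a3f180274f3a918aa741ac1a5159958b8a84c31d08ba43922081e7ca2936413528416a3251160a7b4ca5d44b25abd836af1d36dcb0c093ad42cf301c0641b08349d21e720d4da396340d26f635aa488e25fbbcc6240f85c30898143dea591fbfa1cc3769e537082489c56311ea0a22016db2178543b2ad4a3c179ed8e7f6501832417602c005f4622168877dc1870214235a20dc1da48ce1448195027e8084cb85b42bc0faa75c3dcc8d87741d3ee026828384a0b10130e72186984da03854a6d92c314de0264b41f080282a1bad756bc45409601092ea074095764c4b3d138113a1e132fa47a348e6816448a44f5932d3cd46f94474662f08096a62734cc45d5ac2c5005131686eaa)))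 (TN.node (TN.leaf (nat_lit 0x40bd12ec23b254a2aa39000cc01700e4d8447bbe45467382cdaa1818935be2e6e8c9f6871a3506f0a4c3b8a88c091d18cd34f185df0c11afd4ad023418d6e65336c34270ab2d943b479b470585726cb47d2e9898ea32f8b40a1734021523f823e8364a88085fd0278a9c142420310c62b808f9bc13293d540fd0703418030e32452da578b1b80b729bce2c35da392627090a8fa410328148f129441f69a133a5ba7207978b2f24aa60f4d238c1580fc1c9e5d699318fc8cef65a18a880868d8e68268afc80076725804602e1fd603e10248d50f45a44c42c5c3b42adb01c1cea11068cdee7602bcdc01866bf8ccd32c204de4c5a9415ef94385010f40eae95b0682032042b0c9209243308293f0104c2020770b28846d42a9b1ecdc190e11ea9142a0524442991c85a44b25422e5e85d207e8487801125bacd4ee34532984576fb59e0706bb5536ac183b9083b730108f0c2fb6906fa7296c782200ad178425939d6cae442e54ce23584c684f62b2198ea1bb1df0a55f3d5d86e17b66222d55360f6b1189a588211a92c7a4e60bfc94cf70a361c1c12a312ee8682501c1f0d27836ab2b428ca68801b4a65d6f135fa7c51890169c4e9e18d0b1d144ce7481914f83888299bb0d1e00040d77db7c7ed94a40d1f011da5c505352c209e015630832170b15c34c43a2a0b888162308c0d6ab9c0e0a42af4eab42a41ce70e2fb6d350551c24dce8081a83a423594866c8272ed94c9669441c9078995ee2b392fd7ce346b2c86930fadc369f708dd40353c1155c057c22c4686779821efc3d3613032))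 (TN.leaf (nat_lit 0x868d90e434409803050c001cafc45b35ad063c2b8a0db76b492e9084914a4536a84d228f201088c04748dcb60e0f885266337308c2ca411100e8332c4016b8149b056bb58a58b866278b9363c6ca5434e325b61fc4728a50fd11388e9faa816bd1c308273e07e1b123ad02ff69bc8508016229f2a4591050abe6a3ed42cc1531d88590ebe9dc1581ab552b4324281479011a41a5d1c00c689a87c1cfa0c472dca8cf6f889408c63130110104a65eaa64ea7980b36e95a2468192880c100f05c7cda4fa7022b97b3a8fec5029d0aee0539c97eb07983da04d310bd9019493a04aef352bcec6f3baf1c83d82304eaba61b24d63b7115596ac301cd0c8d5a8e546271017890f052aad08d70b3b21c58181f2181c85bc5062f63b7e12992dacd0e92648041c4f5c9a0f4fc7e888766f0a1c1ca6340a5096b05703610062e2e8eed185bc1583d4d0fdf664770de1ef70d85dd4dc51941482b199e1b4b65520224f562c090d012f3b0740b060b40e0f488717ad70c88c9c61254399a7b6a961b6890c258701650441963085114fabc5bc0e089b6125e1b063fb01e8bf3124cb21532901162a559ac5ce1478814e423504108ff14b74e4cf5ab480655718d5447600271f2c139b0dd0f61e0994ceb623b4fcde41444ba8852b81e68c6b1b9d2756419848d829c0168901a2ee0e673026098f20f9200a4421be9de2850bf994c658af91c1d08a544e3182894241e04abc590c569c5e2ce29235c80a6a134ac6924ac8346c6988514e21b2e13c41023e0f8460997db285191d07c6d1c9e4b49d0139d989f)))))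
noncomputable def Qf (i : ℕ) : ℕ := get9 Qf_t (nat_lit 9) (nat_lit 511) i
noncomputable def Q (j c : ℕ) : ℕ := Qf (Nat.add (Nat.mul j (nat_lit 275)) c)
theorem md : Md McL.pt 275 [nat_lit 0, nat_lit 1, nat_lit 2, nat_lit 3, nat_lit 4] q Q 19 := (McL.md0).words (by decide +kernel) (upTo_beq (by decide +kernel))
def R_t1 : TL := (TL.node (TL.node (TL.node (TL.node (TL.node (TL.node (TL.leaf []) (TL.leaf [nat_lit 0])) (TL.node (TL.leaf [nat_lit 0]) (TL.leaf [nat_lit 0]))) (TL.node (TL.node (TL.leaf [nat_lit 0]) (TL.leaf [nat_lit 0])) (TL.leaf [nat_lit 0]))) (TL.node (TL.node (TL.node (TL.leaf []) (TL.leaf [])) (TL.node (TL.leaf []) (TL.leaf []))) (TL.node (TL.node (TL.leaf []) (TL.leaf [])) (TL.leaf [])))) (TL.node (TL.node (TL.node (TL.node (TL.leaf []) (TL.leaf [])) (TL.node (TL.leaf []) (TL.leaf []))) (TL.node (TL.node (TL.leaf []) (TL.leaf [])) (TL.leaf []))) (TL.node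 (TL.node (TL.node (TL.leaf []) (TL.leaf [])) (TL.node (TL.leaf []) (TL.leaf []))) (TL.node (TL.node (TL.leaf []) (TL.leaf [])) (TL.leaf []))))) (TL.node (TL.node (TL.node (TL.node (TL.node (TL.leaf []) (TL.leaf [nat_lit 3])) (TL.node (TL.leaf []) (TL.leaf [nat_lit 0, nat_lit 1, nat_lit 2, nat_lit 3, nat_lit 4]))) (TL.node (TL.node (TL.leaf []) (TL.leaf [nat_lit 1, nat_lit 3, nat_lit 4])) (TL.leaf []))) (TL.node (TL.node (TL.node (TL.leaf []) (TL.leaf [])) (TL.node (TL.leaf []) (TL.leaf []))) (TL.node (TL.node (TL.leaf []) (TL.leaf [])) (TL.leaf [])))) (TL.node (TL.node (TL.node (TL.node (TL.leaf []) (TL.leaf [])) (TL.node (TL.leaf []) (TL.leaf []))) (TL.node (TL.node (TL.leaf []) (TL.leaf [])) (TL.leaf []))) (TL.node (TL.node (TL.node (TL.leaf []) (TL.leaf [])) (TL.node (TL.leaf []) (TL.leaf []))) (TL.node (TL.node (TL.leaf []) (TL.leaf [])) (TL.leaf []))))))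
def R_t2 : TL := (TL.node (TL.node (TL.node (TL.node (TL.node (TL.node (TL.leaf []) (TL.leaf [nat_lit 1, nat_lit 2])) (TL.node (TL.leaf [nat_lit 0]) (TL.leaf [nat_lit 0, nat_lit 1, nat_lit 2]))) (TL.node (TL.node (TL.leaf []) (TL.leaf [nat_lit 0, nat_lit 2])) (TL.leaf [nat_lit 0, nat_lit 2]))) (TL.node (TL.node (TL.node (TL.leaf []) (TL.leaf [])) (TL.node (TL.leaf []) (TL.leaf []))) (TL.node (TL.node (TL.leaf []) (TL.leaf [])) (TL.leaf [])))) (TL.node (TL.node (TL.node (TL.node (TL.leaf []) (TL.leaf [])) (TL.node (TL.leaf []) (TL.leaf []))) (TL.node (TL.node (TL.leaf []) (TL.leaf [])) (TL.leaf []))) (TL.node (TL.node (TL.node (TL.leaf []) (TL.leaf [])) (TL.node (TL.leaf []) (TL.leaf []))) (TL.node (TL.node (TL.leaf []) (TL.leaf [])) (TL.leaf []))))) (TL.node (TL.node (TL.node (TL.node (TL.node (TL.leaf []) (TL.leaf [])) (TL.node (TL.leaf []) (TL.leaf [nat_lit 1]))) (TL.node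 (TL.node (TL.leaf []) (TL.leaf [])) (TL.leaf []))) (TL.node (TL.node (TL.node (TL.leaf []) (TL.leaf [])) (TL.node (TL.leaf []) (TL.leaf []))) (TL.node (TL.node (TL.leaf []) (TL.leaf [])) (TL.leaf [])))) (TL.node (TL.node (TL.node (TL.node (TL.leaf []) (TL.leaf [])) (TL.node (TL.leaf []) (TL.leaf []))) (TL.node (TL.node (TL.leaf []) (TL.leaf [])) (TL.leaf []))) (TL.node (TL.node (TL.node (TL.leaf []) (TL.leaf [])) (TL.node (TL.leaf []) (TL.leaf []))) (TL.node (TL.node (TL.leaf []) (TL.leaf [])) (TL.leaf []))))))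
def R_t3 : TL := (TL.node R_t1 R_t2)
def R_t4 : TL := (TL.node (TL.node (TL.node (TL.node (TL.node (TL.node (TL.leaf []) (TL.leaf [nat_lit 0, nat_lit 1])) (TL.node (TL.leaf [nat_lit 1]) (TL.leaf [nat_lit 1]))) (TL.node (TL.node (TL.leaf []) (TL.leaf [nat_lit 0, nat_lit 1])) (TL.leaf [nat_lit 1]))) (TL.node (TL.node (TL.node (TL.leaf []) (TL.leaf [])) (TL.node (TL.leaf []) (TL.leaf []))) (TL.node (TL.node (TL.leaf []) (TL.leaf [])) (TL.leaf [])))) (TL.node (TL.node (TL.node (TL.node (TL.leaf []) (TL.leaf [])) (TL.node (TL.leaf []) (TL.leaf []))) (TL.node (TL.node (TL.leaf []) (TL.leaf [])) (TL.leaf []))) (TL.node (TL.node (TL.node (TL.leaf []) (TL.leaf [])) (TL.node (TL.leaf []) (TL.leaf []))) (TL.node (TL.node (TL.leaf []) (TL.leaf [])) (TL.leaf []))))) (TL.node (TL.node (TL.node (TL.node (TL.node (TL.leaf []) (TL.leaf [])) (TL.node (TL.leaf []) (TL.leaf [nat_lit 2, nat_lit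 3, nat_lit 5]))) (TL.node (TL.node (TL.leaf []) (TL.leaf [])) (TL.leaf []))) (TL.node (TL.node (TL.node (TL.leaf []) (TL.leaf [])) (TL.node (TL.leaf []) (TL.leaf []))) (TL.node (TL.node (TL.leaf []) (TL.leaf [])) (TL.leaf [])))) (TL.node (TL.node (TL.node (TL.node (TL.leaf []) (TL.leaf [])) (TL.node (TL.leaf []) (TL.leaf []))) (TL.node (TL.node (TL.leaf []) (TL.leaf [])) (TL.leaf []))) (TL.node (TL.node (TL.node (TL.leaf []) (TL.leaf [])) (TL.node (TL.leaf []) (TL.leaf []))) (TL.node (TL.node (TL.leaf []) (TL.leaf [])) (TL.leaf []))))))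
def R_t5 : TL := (TL.node (TL.node (TL.node (TL.node (TL.node (TL.node (TL.leaf []) (TL.leaf [nat_lit 3])) (TL.node (TL.leaf []) (TL.leaf [nat_lit 1, nat_lit 3]))) (TL.node (TL.node (TL.leaf []) (TL.leaf [nat_lit 0, nat_lit 3])) (TL.leaf []))) (TL.node (TL.node (TL.node (TL.leaf []) (TL.leaf [])) (TL.node (TL.leaf []) (TL.leaf []))) (TL.node (TL.node (TL.leaf []) (TL.leaf [])) (TL.leaf [])))) (TL.node (TL.node (TL.node (TL.node (TL.leaf []) (TL.leaf [])) (TL.node (TL.leaf []) (TL.leaf []))) (TL.node (TL.node (TL.leaf []) (TL.leaf [])) (TL.leaf []))) (TL.node (TL.node (TL.node (TL.leaf []) (TL.leaf [])) (TL.node (TL.leaf []) (TL.leaf []))) (TL.node (TL.node (TL.leaf []) (TL.leaf [])) (TL.leaf []))))) (TL.node (TL.node (TL.node (TL.node (TL.node (TL.leaf []) (TL.leaf [])) (TL.node (TL.leaf []) (TL.leaf []))) (TL.node (TL.node (TL.leaf []) (TL.leaf [])) (TL.leaf []))) (TL.node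 (TL.node (TL.node (TL.leaf []) (TL.leaf [])) (TL.node (TL.leaf []) (TL.leaf []))) (TL.node (TL.node (TL.leaf []) (TL.leaf [])) (TL.leaf [])))) (TL.node (TL.node (TL.node (TL.node (TL.leaf []) (TL.leaf [])) (TL.node (TL.leaf []) (TL.leaf []))) (TL.node (TL.node (TL.leaf []) (TL.leaf [])) (TL.leaf []))) (TL.node (TL.node (TL.node (TL.leaf []) (TL.leaf [])) (TL.node (TL.leaf []) (TL.leaf []))) (TL.node (TL.node (TL.leaf []) (TL.leaf [])) (TL.leaf []))))))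
def R_t6 : TL := (TL.node R_t4 R_t5)
def R_t : TL := (TL.node R_t3 R_t6)
noncomputable def R (i : ℕ) : List ℕ := TL.get R_t i
def Zm_t : TN := (TN.leaf (nat_lit 0x1800000000000008000))
noncomputable def Zm (i : ℕ) : ℕ := get9 Zm_t (nat_lit 1) (nat_lit 1) i
def Zc_t : TN := (TN.leaf (nat_lit 0x6db6db4924922492492492492492492492494924924924924924924924922492492492492492492492494924926db900))
noncomputable def Zc (i : ℕ) : ℕ := get9 Zc_t (nat_lit 3) (nat_lit 7) i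
def O_t : TN := (TN.leaf (nat_lit 0x9423344c088221358212d2a6b966118431184c719a34b0ad4a5427884e114cf109a11ad8a09041198c16344550c822894d108ce7884e50cc21ae06089c10b0c333449598c250c22824e20ad83684423042a589c9315c5709c40944252c2208861588a3138441902208d2c228452b02b0984c608467184f5b0a63142b499422a42519842690ec519aa0b9c9685c9394cd330ce6a56968822108c9598c2131415884158949408e1104c520c41))
noncomputable def O (i : ℕ) : ℕ := get9 O_t (nat_lit 5) (nat_lit 31) i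
def V_t : TN := (TN.leaf (nat_lit 0x1349829264835645551368a4584d530d2162563566d254a20b51a4492d34ca3593912136d168a52661429449444c71451648c4158d448939e59e2886d43905936d545351c49531e55651355635458d58b30c79e49271e05029e75038c39c69079451571238949e58971e2c971675631055b2de45351c29261669421449b55a51159664e59051574841569539531d44141245559970d4912502082904542de41c4902d655425e29129158c30c2545594812d474d05259e71471429151130154849149d059041052055652041041041))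
noncomputable def V (i : ℕ) : ℕ := get9 V_t (nat_lit 6) (nat_lit 63) i
def rt (i : ℕ) : ℕ := Nat.land (Nat.shiftRight (nat_lit 0x9f542823160f0d0c0b0905040302010000) (Nat.mul (nat_lit 8) i)) (nat_lit 255)
def w_t1 : TL := (TL.node (TL.node (TL.node (TL.node (TL.node (TL.node (TL.leaf [nat_lit 2, nat_lit 1, nat_lit 7]) (TL.leaf [nat_lit 7, nat_lit 6, nat_lit 7, nat_lit 4, nat_lit 2, nat_lit 7])) (TL.leaf [nat_lit 5, nat_lit 7, nat_lit 6, nat_lit 7, nat_lit 6, nat_lit 4, nat_lit 7])) (TL.node (TL.leaf [nat_lit 3, nat_lit 6, nat_lit 2, nat_lit 7, nat_lit 4, nat_lit 6, nat_lit 1, nat_lit 7]) (TL.leaf [nat_lit 4, nat_lit 1, nat_lit 7, nat_lit 6, nat_lit 7, nat_lit 4, nat_lit 1, nat_lit 7]))) (TL.node (TL.node (TL.node (TL.leaf [nat_lit 2, nat_lit 1, nat_lit 7, nat_lit 6, nat_lit 4, nat_lit 2, nat_lit 7]) (TL.leaf [nat_lit 6, nat_lit 7, nat_lit 6, nat_lit 4, nat_lit 7, nat_lit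 2, nat_lit 7])) (TL.leaf [nat_lit 3, nat_lit 1, nat_lit 7, nat_lit 3, nat_lit 6, nat_lit 4, nat_lit 7])) (TL.node (TL.leaf [nat_lit 6, nat_lit 2, nat_lit 7, nat_lit 6, nat_lit 1, nat_lit 7]) (TL.leaf [nat_lit 3, nat_lit 1, nat_lit 7, nat_lit 6, nat_lit 2, nat_lit 4, nat_lit 7])))) (TL.node (TL.node (TL.node (TL.node (TL.leaf [nat_lit 1, nat_lit 7, nat_lit 4, nat_lit 2, nat_lit 7]) (TL.leaf [nat_lit 6, nat_lit 7])) (TL.leaf [nat_lit 4, nat_lit 2, nat_lit 7, nat_lit 6, nat_lit 2, nat_lit 7])) (TL.node (TL.leaf [nat_lit 7, nat_lit 4, nat_lit 6, nat_lit 7]) (TL.leaf [nat_lit 4, nat_lit 6, nat_lit 7, nat_lit 4, nat_lit 2, nat_lit 7]))) (TL.node (TL.node (TL.node (TL.leaf [nat_lit 3, nat_lit 6, nat_lit 2, nat_lit 7, nat_lit 6, nat_lit 4, nat_lit 7]) (TL.leaf [nat_lit 4, nat_lit 6, nat_lit 2, nat_lit 7, nat_lit 6, nat_lit 4, nat_lit 1, nat_lit 7])) (TL.leaf [nat_lit 5, nat_lit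 7, nat_lit 6, nat_lit 2, nat_lit 4, nat_lit 7])) (TL.node (TL.leaf [nat_lit 6, nat_lit 7, nat_lit 2, nat_lit 4, nat_lit 7, nat_lit 4, nat_lit 6, nat_lit 1, nat_lit 7]) (TL.leaf [nat_lit 4, nat_lit 6, nat_lit 7, nat_lit 4, nat_lit 6, nat_lit 1, nat_lit 7]))))) (TL.node (TL.node (TL.node (TL.node (TL.node (TL.leaf [nat_lit 4, nat_lit 5, nat_lit 1, nat_lit 7]) (TL.leaf [nat_lit 6, nat_lit 7, nat_lit 4, nat_lit 7, nat_lit 6, nat_lit 1, nat_lit 7])) (TL.leaf [nat_lit 6, nat_lit 2, nat_lit 7, nat_lit 4, nat_lit 1, nat_lit 7])) (TL.node (TL.leaf [nat_lit 6, nat_lit 7, nat_lit 4, nat_lit 5, nat_lit 7]) (TL.leaf [nat_lit 5, nat_lit 7, nat_lit 6, nat_lit 4, nat_lit 7]))) (TL.node (TL.node (TL.node (TL.leaf [nat_lit 4, nat_lit 2, nat_lit 7, nat_lit 6, nat_lit 4, nat_lit 1, nat_lit 7]) (TL.leaf [nat_lit 3, nat_lit 1, nat_lit 7, nat_lit 6, nat_lit 4, nat_lit 2, nat_lit 7])) (TL.leaf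 [nat_lit 1, nat_lit 7, nat_lit 6, nat_lit 4, nat_lit 1, nat_lit 7])) (TL.node (TL.leaf [nat_lit 4, nat_lit 3, nat_lit 7]) (TL.leaf [nat_lit 7, nat_lit 6, nat_lit 7, nat_lit 2, nat_lit 7])))) (TL.node (TL.node (TL.node (TL.node (TL.leaf [nat_lit 6, nat_lit 2, nat_lit 7, nat_lit 4, nat_lit 2, nat_lit 7]) (TL.leaf [nat_lit 6, nat_lit 3, nat_lit 7])) (TL.leaf [nat_lit 4, nat_lit 7, nat_lit 6, nat_lit 4, nat_lit 1, nat_lit 7])) (TL.node (TL.leaf [nat_lit 6, nat_lit 5, nat_lit 7, nat_lit 2, nat_lit 4, nat_lit 7]) (TL.leaf [nat_lit 7, nat_lit 5, nat_lit 7, nat_lit 4, nat_lit 1, nat_lit 7]))) (TL.node (TL.node (TL.node (TL.leaf [nat_lit 6, nat_lit 4, nat_lit 1, nat_lit 7]) (TL.leaf [nat_lit 2, nat_lit 4, nat_lit 7, nat_lit 6, nat_lit 7, nat_lit 4, nat_lit 2, nat_lit 7])) (TL.leaf [nat_lit 4, nat_lit 1, nat_lit 7, nat_lit 6, nat_lit 5, nat_lit 7])) (TL.node (TL.leaf []) (TL.leaf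 [nat_lit 7, nat_lit 6, nat_lit 2, nat_lit 7, nat_lit 4, nat_lit 1, nat_lit 7]))))))
def w_t2 : TL := (TL.node (TL.node (TL.node (TL.node (TL.node (TL.node (TL.leaf [nat_lit 6, nat_lit 3, nat_lit 7, nat_lit 6, nat_lit 4, nat_lit 7]) (TL.leaf [nat_lit 2, nat_lit 7, nat_lit 6, nat_lit 7])) (TL.leaf [nat_lit 7, nat_lit 2, nat_lit 7])) (TL.node (TL.leaf [nat_lit 6, nat_lit 7, nat_lit 4, nat_lit 2, nat_lit 7]) (TL.leaf [nat_lit 4, nat_lit 5, nat_lit 1, nat_lit 7, nat_lit 4, nat_lit 6, nat_lit 1, nat_lit 7]))) (TL.node (TL.node (TL.node (TL.leaf [nat_lit 3, nat_lit 7, nat_lit 6, nat_lit 4, nat_lit 7]) (TL.leaf [nat_lit 5, nat_lit 1, nat_lit 7, nat_lit 6, nat_lit 2, nat_lit 4, nat_lit 7])) (TL.leaf [nat_lit 3, nat_lit 6, nat_lit 7, nat_lit 6, nat_lit 4, nat_lit 7])) (TL.node (TL.leaf [nat_lit 6, nat_lit 1, nat_lit 7, nat_lit 6, nat_lit 1, nat_lit 7]) (TL.leaf [nat_lit 7, nat_lit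 3, nat_lit 6, nat_lit 4, nat_lit 7])))) (TL.node (TL.node (TL.node (TL.node (TL.leaf [nat_lit 5, nat_lit 1, nat_lit 7]) (TL.leaf [nat_lit 7, nat_lit 4, nat_lit 5, nat_lit 1, nat_lit 7, nat_lit 6, nat_lit 4, nat_lit 1, nat_lit 7])) (TL.leaf [nat_lit 2, nat_lit 7, nat_lit 6, nat_lit 5, nat_lit 7])) (TL.node (TL.leaf [nat_lit 2, nat_lit 6, nat_lit 7, nat_lit 2, nat_lit 4, nat_lit 7]) (TL.leaf [nat_lit 4, nat_lit 3, nat_lit 7, nat_lit 6, nat_lit 4, nat_lit 1, nat_lit 7]))) (TL.node (TL.node (TL.node (TL.leaf [nat_lit 7, nat_lit 2, nat_lit 7, nat_lit 6, nat_lit 4, nat_lit 7]) (TL.leaf [nat_lit 3, nat_lit 7])) (TL.leaf [nat_lit 5, nat_lit 7, nat_lit 4, nat_lit 6, nat_lit 1, nat_lit 7])) (TL.node (TL.leaf [nat_lit 2, nat_lit 7, nat_lit 4, nat_lit 6, nat_lit 1, nat_lit 7, nat_lit 6, nat_lit 1, nat_lit 7]) (TL.leaf [nat_lit 4, nat_lit 7, nat_lit 2, nat_lit 7, nat_lit 6, nat_lit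 7, nat_lit 4, nat_lit 1, nat_lit 7]))))) (TL.node (TL.node (TL.node (TL.node (TL.node (TL.leaf [nat_lit 2, nat_lit 1, nat_lit 7, nat_lit 6, nat_lit 7, nat_lit 4, nat_lit 1, nat_lit 7]) (TL.leaf [nat_lit 3, nat_lit 7, nat_lit 6, nat_lit 4, nat_lit 1, nat_lit 7])) (TL.leaf [nat_lit 7, nat_lit 3, nat_lit 7])) (TL.node (TL.leaf [nat_lit 7, nat_lit 4, nat_lit 6, nat_lit 7, nat_lit 4, nat_lit 6, nat_lit 1, nat_lit 7]) (TL.leaf [nat_lit 7, nat_lit 6, nat_lit 5, nat_lit 1, nat_lit 7]))) (TL.node (TL.node (TL.node (TL.leaf [nat_lit 1, nat_lit 7, nat_lit 6, nat_lit 4, nat_lit 2, nat_lit 7]) (TL.leaf [nat_lit 2, nat_lit 1, nat_lit 7, nat_lit 4, nat_lit 6, nat_lit 7])) (TL.leaf [nat_lit 4, nat_lit 7, nat_lit 6, nat_lit 5, nat_lit 7])) (TL.node (TL.leaf [nat_lit 7, nat_lit 2, nat_lit 4, nat_lit 7]) (TL.leaf [nat_lit 7, nat_lit 4, nat_lit 7, nat_lit 6, nat_lit 1, nat_lit 7])))) (TL.node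 (TL.node (TL.node (TL.node (TL.leaf [nat_lit 6, nat_lit 1, nat_lit 7, nat_lit 4, nat_lit 6, nat_lit 2, nat_lit 7]) (TL.leaf [nat_lit 7, nat_lit 6, nat_lit 7])) (TL.leaf [nat_lit 5, nat_lit 4, nat_lit 7, nat_lit 6, nat_lit 7])) (TL.node (TL.leaf [nat_lit 2, nat_lit 7, nat_lit 2, nat_lit 4, nat_lit 7]) (TL.leaf [nat_lit 6, nat_lit 2, nat_lit 7, nat_lit 2, nat_lit 4, nat_lit 7, nat_lit 6, nat_lit 4, nat_lit 1, nat_lit 7]))) (TL.node (TL.node (TL.leaf [nat_lit 3, nat_lit 7, nat_lit 6, nat_lit 4, nat_lit 2, nat_lit 7]) (TL.leaf [nat_lit 7, nat_lit 6, nat_lit 2, nat_lit 7])) (TL.node (TL.leaf [nat_lit 7, nat_lit 4, nat_lit 1, nat_lit 7]) (TL.leaf [nat_lit 6, nat_lit 4, nat_lit 2, nat_lit 7]))))))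
def w_t3 : TL := (TL.node w_t1 w_t2)
def w_t4 : TL := (TL.node (TL.node (TL.node (TL.node (TL.node (TL.node (TL.leaf [nat_lit 6, nat_lit 4, nat_lit 7, nat_lit 4, nat_lit 6, nat_lit 1, nat_lit 7]) (TL.leaf [nat_lit 2, nat_lit 1, nat_lit 7, nat_lit 6, nat_lit 7])) (TL.leaf [nat_lit 7, nat_lit 4, nat_lit 5, nat_lit 7])) (TL.node (TL.leaf [nat_lit 4, nat_lit 6, nat_lit 7, nat_lit 6, nat_lit 4, nat_lit 7]) (TL.leaf [nat_lit 7, nat_lit 6, nat_lit 5, nat_lit 7, nat_lit 4, nat_lit 1, nat_lit 7]))) (TL.node (TL.node (TL.node (TL.leaf [nat_lit 1, nat_lit 7, nat_lit 4, nat_lit 6, nat_lit 7]) (TL.leaf [nat_lit 6, nat_lit 7, nat_lit 4, nat_lit 7, nat_lit 2, nat_lit 7])) (TL.leaf [nat_lit 4, nat_lit 5, nat_lit 7, nat_lit 6, nat_lit 7, nat_lit 4, nat_lit 1, nat_lit 7])) (TL.node (TL.leaf [nat_lit 4, nat_lit 6, nat_lit 7, nat_lit 6, nat_lit 1, nat_lit 7]) (TL.leaf [nat_lit 6, nat_lit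 7, nat_lit 2, nat_lit 4, nat_lit 7])))) (TL.node (TL.node (TL.node (TL.node (TL.leaf [nat_lit 2, nat_lit 4, nat_lit 7]) (TL.leaf [nat_lit 2, nat_lit 7, nat_lit 6, nat_lit 1, nat_lit 7])) (TL.leaf [nat_lit 2, nat_lit 4, nat_lit 5, nat_lit 7, nat_lit 6, nat_lit 4, nat_lit 1, nat_lit 7])) (TL.node (TL.leaf [nat_lit 7, nat_lit 6, nat_lit 4, nat_lit 7]) (TL.leaf [nat_lit 7, nat_lit 4, nat_lit 6, nat_lit 7, nat_lit 4, nat_lit 2, nat_lit 7]))) (TL.node (TL.node (TL.node (TL.leaf [nat_lit 7, nat_lit 2, nat_lit 7, nat_lit 4, nat_lit 6, nat_lit 2, nat_lit 7]) (TL.leaf [nat_lit 6, nat_lit 7, nat_lit 6, nat_lit 4, nat_lit 7])) (TL.leaf [nat_lit 4, nat_lit 5, nat_lit 7, nat_lit 4, nat_lit 6, nat_lit 2, nat_lit 7])) (TL.node (TL.leaf [nat_lit 6, nat_lit 7, nat_lit 3, nat_lit 7]) (TL.leaf [nat_lit 4, nat_lit 7, nat_lit 6, nat_lit 7, nat_lit 4, nat_lit 2, nat_lit 7]))))) (TL.node (TL.node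 (TL.node (TL.node (TL.node (TL.leaf [nat_lit 5, nat_lit 6, nat_lit 4, nat_lit 7, nat_lit 4, nat_lit 6, nat_lit 1, nat_lit 7]) (TL.leaf [nat_lit 1, nat_lit 7, nat_lit 4, nat_lit 5, nat_lit 1, nat_lit 7])) (TL.leaf [nat_lit 7, nat_lit 6, nat_lit 4, nat_lit 1, nat_lit 7, nat_lit 4, nat_lit 6, nat_lit 1, nat_lit 7])) (TL.node (TL.leaf [nat_lit 4, nat_lit 6, nat_lit 7, nat_lit 4, nat_lit 6, nat_lit 2, nat_lit 7]) (TL.leaf [nat_lit 6, nat_lit 5, nat_lit 1, nat_lit 7]))) (TL.node (TL.node (TL.node (TL.leaf [nat_lit 6, nat_lit 3, nat_lit 7, nat_lit 4, nat_lit 6, nat_lit 7]) (TL.leaf [nat_lit 2, nat_lit 7, nat_lit 4, nat_lit 6, nat_lit 7])) (TL.leaf [nat_lit 7, nat_lit 6, nat_lit 3, nat_lit 7])) (TL.node (TL.leaf [nat_lit 1, nat_lit 7, nat_lit 2, nat_lit 4, nat_lit 7]) (TL.leaf [nat_lit 7, nat_lit 4, nat_lit 7, nat_lit 2, nat_lit 7])))) (TL.node (TL.node (TL.node (TL.node (TL.leaf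 [nat_lit 6, nat_lit 1, nat_lit 7, nat_lit 4, nat_lit 6, nat_lit 1, nat_lit 7]) (TL.leaf [nat_lit 4, nat_lit 2, nat_lit 7, nat_lit 4, nat_lit 2, nat_lit 7])) (TL.leaf [nat_lit 4, nat_lit 2, nat_lit 7, nat_lit 4, nat_lit 6, nat_lit 7])) (TL.node (TL.leaf [nat_lit 3, nat_lit 1, nat_lit 7, nat_lit 6, nat_lit 4, nat_lit 7]) (TL.leaf [nat_lit 7, nat_lit 6, nat_lit 4, nat_lit 7, nat_lit 2, nat_lit 7]))) (TL.node (TL.node (TL.node (TL.leaf [nat_lit 3, nat_lit 6, nat_lit 4, nat_lit 7]) (TL.leaf [nat_lit 5, nat_lit 4, nat_lit 7, nat_lit 4, nat_lit 6, nat_lit 1, nat_lit 7])) (TL.leaf [nat_lit 5, nat_lit 7, nat_lit 3, nat_lit 6, nat_lit 4, nat_lit 7])) (TL.node (TL.leaf [nat_lit 7, nat_lit 4, nat_lit 5, nat_lit 1, nat_lit 7]) (TL.leaf [nat_lit 5, nat_lit 7]))))))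
def w_t5 : TL := (TL.node (TL.node (TL.node (TL.node (TL.node (TL.node (TL.leaf [nat_lit 7, nat_lit 6, nat_lit 7, nat_lit 6, nat_lit 2, nat_lit 4, nat_lit 7]) (TL.leaf [nat_lit 3, nat_lit 7, nat_lit 6, nat_lit 2, nat_lit 4, nat_lit 7])) (TL.leaf [nat_lit 6, nat_lit 5, nat_lit 7, nat_lit 4, nat_lit 1, nat_lit 7])) (TL.node (TL.leaf [nat_lit 3, nat_lit 1, nat_lit 7, nat_lit 4, nat_lit 6, nat_lit 2, nat_lit 7]) (TL.leaf [nat_lit 5, nat_lit 7, nat_lit 4, nat_lit 6, nat_lit 7]))) (TL.node (TL.node (TL.node (TL.leaf [nat_lit 5, nat_lit 4, nat_lit 7, nat_lit 6, nat_lit 7, nat_lit 4, nat_lit 1, nat_lit 7]) (TL.leaf [nat_lit 2, nat_lit 7, nat_lit 4, nat_lit 6, nat_lit 2, nat_lit 7])) (TL.leaf [nat_lit 4, nat_lit 1, nat_lit 7])) (TL.node (TL.leaf [nat_lit 6, nat_lit 1, nat_lit 7, nat_lit 6, nat_lit 2, nat_lit 4, nat_lit 7]) (TL.leaf [nat_lit 7, nat_lit 2, nat_lit 7, nat_lit 4,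 nat_lit 6, nat_lit 1, nat_lit 7])))) (TL.node (TL.node (TL.node (TL.node (TL.leaf [nat_lit 4, nat_lit 7, nat_lit 6, nat_lit 5, nat_lit 7, nat_lit 4, nat_lit 1, nat_lit 7]) (TL.leaf [nat_lit 7, nat_lit 2, nat_lit 4, nat_lit 7, nat_lit 6, nat_lit 4, nat_lit 1, nat_lit 7])) (TL.leaf [nat_lit 4, nat_lit 5, nat_lit 7, nat_lit 6, nat_lit 4, nat_lit 2, nat_lit 7])) (TL.node (TL.leaf [nat_lit 4, nat_lit 6, nat_lit 7, nat_lit 2, nat_lit 4, nat_lit 7]) (TL.leaf [nat_lit 4, nat_lit 3, nat_lit 7, nat_lit 4, nat_lit 6, nat_lit 1, nat_lit 7]))) (TL.node (TL.node (TL.node (TL.leaf [nat_lit 4, nat_lit 7, nat_lit 5, nat_lit 4, nat_lit 7, nat_lit 6, nat_lit 4, nat_lit 1, nat_lit 7]) (TL.leaf [nat_lit 7])) (TL.leaf [nat_lit 3, nat_lit 1, nat_lit 7, nat_lit 4, nat_lit 6, nat_lit 1, nat_lit 7])) (TL.node (TL.leaf [nat_lit 7, nat_lit 6, nat_lit 7, nat_lit 6, nat_lit 4, nat_lit 7]) (TL.leaf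 [nat_lit 2, nat_lit 7, nat_lit 6, nat_lit 4, nat_lit 7, nat_lit 4, nat_lit 2, nat_lit 7]))))) (TL.node (TL.node (TL.node (TL.node (TL.node (TL.leaf [nat_lit 4, nat_lit 7, nat_lit 6, nat_lit 7, nat_lit 4, nat_lit 7, nat_lit 2, nat_lit 7]) (TL.leaf [nat_lit 7, nat_lit 6, nat_lit 1, nat_lit 7, nat_lit 4, nat_lit 2, nat_lit 7])) (TL.leaf [nat_lit 2, nat_lit 7, nat_lit 6, nat_lit 4, nat_lit 1, nat_lit 7])) (TL.node (TL.leaf [nat_lit 4, nat_lit 1, nat_lit 7, nat_lit 4, nat_lit 6, nat_lit 1, nat_lit 7]) (TL.leaf [nat_lit 3, nat_lit 6, nat_lit 7]))) (TL.node (TL.node (TL.node (TL.leaf [nat_lit 1, nat_lit 7, nat_lit 6, nat_lit 7, nat_lit 4, nat_lit 2, nat_lit 7]) (TL.leaf [nat_lit 4, nat_lit 6, nat_lit 7])) (TL.leaf [nat_lit 7, nat_lit 6, nat_lit 7, nat_lit 4, nat_lit 7, nat_lit 2, nat_lit 7])) (TL.node (TL.leaf [nat_lit 5, nat_lit 7, nat_lit 4, nat_lit 1, nat_lit 7]) (TL.leaf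 [nat_lit 4, nat_lit 7, nat_lit 2, nat_lit 7])))) (TL.node (TL.node (TL.node (TL.node (TL.leaf [nat_lit 7, nat_lit 2, nat_lit 7, nat_lit 6, nat_lit 7, nat_lit 4, nat_lit 1, nat_lit 7]) (TL.leaf [nat_lit 4, nat_lit 1, nat_lit 7, nat_lit 4, nat_lit 2, nat_lit 7])) (TL.leaf [nat_lit 2, nat_lit 7, nat_lit 6, nat_lit 2, nat_lit 4, nat_lit 7])) (TL.node (TL.leaf [nat_lit 6, nat_lit 7, nat_lit 2, nat_lit 7]) (TL.leaf [nat_lit 7, nat_lit 5, nat_lit 4, nat_lit 7, nat_lit 4, nat_lit 6, nat_lit 1, nat_lit 7]))) (TL.node (TL.node (TL.leaf [nat_lit 1, nat_lit 7, nat_lit 6, nat_lit 7, nat_lit 4, nat_lit 1, nat_lit 7]) (TL.leaf [nat_lit 1, nat_lit 7, nat_lit 6, nat_lit 7])) (TL.node (TL.leaf [nat_lit 4, nat_lit 2, nat_lit 7]) (TL.leaf [nat_lit 7, nat_lit 5, nat_lit 7, nat_lit 6, nat_lit 4, nat_lit 1, nat_lit 7]))))))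
def w_t6 : TL := (TL.node w_t4 w_t5)
def w_t7 : TL := (TL.node w_t3 w_t6)
def w_t8 : TL := (TL.node (TL.node (TL.node (TL.node (TL.node (TL.node (TL.leaf [nat_lit 4, nat_lit 2, nat_lit 7, nat_lit 4, nat_lit 6, nat_lit 1, nat_lit 7]) (TL.leaf [nat_lit 4, nat_lit 5, nat_lit 7])) (TL.leaf [nat_lit 5, nat_lit 7, nat_lit 2, nat_lit 4, nat_lit 7])) (TL.node (TL.leaf [nat_lit 2, nat_lit 1, nat_lit 7, nat_lit 4, nat_lit 6, nat_lit 1, nat_lit 7]) (TL.leaf [nat_lit 5, nat_lit 7, nat_lit 6, nat_lit 4, nat_lit 2, nat_lit 7]))) (TL.node (TL.node (TL.node (TL.leaf [nat_lit 4, nat_lit 3, nat_lit 1, nat_lit 7, nat_lit 6, nat_lit 4, nat_lit 1, nat_lit 7]) (TL.leaf [nat_lit 1, nat_lit 7, nat_lit 6, nat_lit 4, nat_lit 7, nat_lit 2, nat_lit 7])) (TL.leaf [nat_lit 7, nat_lit 2, nat_lit 7, nat_lit 6, nat_lit 4, nat_lit 1, nat_lit 7])) (TL.node (TL.leaf [nat_lit 6, nat_lit 4, nat_lit 1, nat_lit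 7, nat_lit 6, nat_lit 1, nat_lit 7]) (TL.leaf [nat_lit 6, nat_lit 7, nat_lit 4, nat_lit 5, nat_lit 1, nat_lit 7])))) (TL.node (TL.node (TL.node (TL.node (TL.leaf [nat_lit 2, nat_lit 7, nat_lit 6, nat_lit 7, nat_lit 4, nat_lit 6, nat_lit 1, nat_lit 7]) (TL.leaf [nat_lit 4, nat_lit 1, nat_lit 7, nat_lit 6, nat_lit 1, nat_lit 7])) (TL.leaf [nat_lit 2, nat_lit 7, nat_lit 6, nat_lit 2, nat_lit 7])) (TL.node (TL.leaf [nat_lit 7, nat_lit 4, nat_lit 6, nat_lit 2, nat_lit 7]) (TL.leaf [nat_lit 4, nat_lit 6, nat_lit 7, nat_lit 4, nat_lit 5, nat_lit 7]))) (TL.node (TL.node (TL.node (TL.leaf [nat_lit 3, nat_lit 1, nat_lit 7, nat_lit 4, nat_lit 6, nat_lit 7]) (TL.leaf [nat_lit 6, nat_lit 7, nat_lit 4, nat_lit 6, nat_lit 2, nat_lit 7])) (TL.leaf [nat_lit 2, nat_lit 1, nat_lit 7, nat_lit 6, nat_lit 4, nat_lit 7])) (TL.node (TL.leaf [nat_lit 7, nat_lit 6, nat_lit 4, nat_lit 1, nat_lit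 7, nat_lit 6, nat_lit 1, nat_lit 7]) (TL.leaf [nat_lit 2, nat_lit 7]))))) (TL.node (TL.node (TL.node (TL.node (TL.node (TL.leaf [nat_lit 1, nat_lit 7, nat_lit 4, nat_lit 7, nat_lit 6, nat_lit 1, nat_lit 7]) (TL.leaf [nat_lit 6, nat_lit 7, nat_lit 6, nat_lit 2, nat_lit 4, nat_lit 7])) (TL.leaf [nat_lit 7, nat_lit 6, nat_lit 5, nat_lit 7, nat_lit 6, nat_lit 4, nat_lit 7])) (TL.node (TL.leaf [nat_lit 4, nat_lit 2, nat_lit 7, nat_lit 6, nat_lit 1, nat_lit 7]) (TL.leaf [nat_lit 2, nat_lit 4, nat_lit 7, nat_lit 4, nat_lit 6, nat_lit 1, nat_lit 7]))) (TL.node (TL.node (TL.node (TL.leaf [nat_lit 4, nat_lit 5, nat_lit 7, nat_lit 4, nat_lit 6, nat_lit 1, nat_lit 7]) (TL.leaf [nat_lit 2, nat_lit 7, nat_lit 6, nat_lit 4, nat_lit 7])) (TL.leaf [nat_lit 4, nat_lit 5, nat_lit 7, nat_lit 6, nat_lit 4, nat_lit 1, nat_lit 7])) (TL.node (TL.leaf [nat_lit 6, nat_lit 3, nat_lit 7, nat_lit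 6, nat_lit 2, nat_lit 4, nat_lit 7]) (TL.leaf [nat_lit 5, nat_lit 7, nat_lit 6, nat_lit 7, nat_lit 4, nat_lit 1, nat_lit 7])))) (TL.node (TL.node (TL.node (TL.node (TL.leaf [nat_lit 6, nat_lit 1, nat_lit 7, nat_lit 4, nat_lit 2, nat_lit 7]) (TL.leaf [nat_lit 4, nat_lit 7, nat_lit 4, nat_lit 6, nat_lit 1, nat_lit 7])) (TL.leaf [nat_lit 2, nat_lit 1, nat_lit 7, nat_lit 6, nat_lit 4, nat_lit 1, nat_lit 7])) (TL.node (TL.leaf [nat_lit 2, nat_lit 4, nat_lit 7, nat_lit 6, nat_lit 7]) (TL.leaf [nat_lit 4, nat_lit 6, nat_lit 1, nat_lit 7, nat_lit 6, nat_lit 1, nat_lit 7]))) (TL.node (TL.node (TL.node (TL.leaf [nat_lit 3, nat_lit 7, nat_lit 4, nat_lit 6, nat_lit 2, nat_lit 7]) (TL.leaf [nat_lit 2, nat_lit 4, nat_lit 3, nat_lit 7, nat_lit 4, nat_lit 6, nat_lit 1, nat_lit 7])) (TL.leaf [nat_lit 6, nat_lit 2, nat_lit 7, nat_lit 6, nat_lit 4, nat_lit 1, nat_lit 7])) (TL.node (TL.leaf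 [nat_lit 7, nat_lit 4, nat_lit 6, nat_lit 2, nat_lit 7, nat_lit 4, nat_lit 6, nat_lit 1, nat_lit 7]) (TL.leaf [nat_lit 4, nat_lit 7, nat_lit 4, nat_lit 2, nat_lit 7]))))))
def w_t9 : TL := (TL.node (TL.node (TL.node (TL.node (TL.node (TL.node (TL.leaf [nat_lit 3, nat_lit 1, nat_lit 7]) (TL.leaf [nat_lit 4, nat_lit 3, nat_lit 7, nat_lit 6, nat_lit 4, nat_lit 2, nat_lit 7])) (TL.leaf [nat_lit 2, nat_lit 6, nat_lit 7, nat_lit 6, nat_lit 4, nat_lit 7])) (TL.node (TL.leaf [nat_lit 7, nat_lit 6, nat_lit 7, nat_lit 4, nat_lit 6, nat_lit 1, nat_lit 7]) (TL.leaf [nat_lit 5, nat_lit 7, nat_lit 4, nat_lit 6, nat_lit 2, nat_lit 7]))) (TL.node (TL.node (TL.node (TL.leaf [nat_lit 1, nat_lit 7, nat_lit 6, nat_lit 4, nat_lit 7]) (TL.leaf [nat_lit 1, nat_lit 7, nat_lit 4, nat_lit 6, nat_lit 1, nat_lit 7])) (TL.leaf [nat_lit 7, nat_lit 6, nat_lit 7, nat_lit 4, nat_lit 1, nat_lit 7])) (TL.node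 (TL.leaf [nat_lit 7, nat_lit 5, nat_lit 7]) (TL.leaf [nat_lit 1, nat_lit 7, nat_lit 3, nat_lit 6, nat_lit 4, nat_lit 7])))) (TL.node (TL.node (TL.node (TL.node (TL.leaf [nat_lit 6, nat_lit 1, nat_lit 7, nat_lit 6, nat_lit 4, nat_lit 7]) (TL.leaf [nat_lit 4, nat_lit 7, nat_lit 6, nat_lit 5, nat_lit 1, nat_lit 7])) (TL.leaf [nat_lit 4, nat_lit 1, nat_lit 7, nat_lit 6, nat_lit 4, nat_lit 1, nat_lit 7])) (TL.node (TL.leaf [nat_lit 5, nat_lit 1, nat_lit 7, nat_lit 6, nat_lit 4, nat_lit 7]) (TL.leaf [nat_lit 2, nat_lit 4, nat_lit 7, nat_lit 6, nat_lit 4, nat_lit 1, nat_lit 7]))) (TL.node (TL.node (TL.node (TL.leaf [nat_lit 5, nat_lit 4, nat_lit 7, nat_lit 6, nat_lit 2, nat_lit 7]) (TL.leaf [nat_lit 4, nat_lit 6, nat_lit 2, nat_lit 7, nat_lit 4, nat_lit 6, nat_lit 1, nat_lit 7])) (TL.leaf [nat_lit 6, nat_lit 2, nat_lit 4, nat_lit 7])) (TL.node (TL.leaf [nat_lit 7, nat_lit 6,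 nat_lit 7, nat_lit 4, nat_lit 6, nat_lit 2, nat_lit 7]) (TL.leaf [nat_lit 2, nat_lit 7, nat_lit 6, nat_lit 7, nat_lit 4, nat_lit 7, nat_lit 2, nat_lit 7]))))) (TL.node (TL.node (TL.node (TL.node (TL.node (TL.leaf [nat_lit 7, nat_lit 6, nat_lit 7, nat_lit 4, nat_lit 7, nat_lit 6, nat_lit 1, nat_lit 7]) (TL.leaf [nat_lit 6, nat_lit 7, nat_lit 4, nat_lit 6, nat_lit 1, nat_lit 7])) (TL.leaf [nat_lit 4, nat_lit 2, nat_lit 7, nat_lit 6, nat_lit 5, nat_lit 7])) (TL.node (TL.leaf [nat_lit 4, nat_lit 7, nat_lit 4, nat_lit 6, nat_lit 7, nat_lit 4, nat_lit 2, nat_lit 7]) (TL.leaf [nat_lit 6, nat_lit 1, nat_lit 7]))) (TL.node (TL.node (TL.node (TL.leaf [nat_lit 1, nat_lit 7, nat_lit 4, nat_lit 6, nat_lit 2, nat_lit 7]) (TL.leaf [nat_lit 7, nat_lit 2, nat_lit 7, nat_lit 4, nat_lit 6, nat_lit 7])) (TL.leaf [nat_lit 4, nat_lit 3, nat_lit 1, nat_lit 7])) (TL.node (TL.leaf [nat_lit 7,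 nat_lit 4, nat_lit 3, nat_lit 1, nat_lit 7]) (TL.leaf [nat_lit 7, nat_lit 2, nat_lit 4, nat_lit 7, nat_lit 4, nat_lit 6, nat_lit 1, nat_lit 7])))) (TL.node (TL.node (TL.node (TL.node (TL.leaf [nat_lit 6, nat_lit 4, nat_lit 2, nat_lit 7, nat_lit 4, nat_lit 6, nat_lit 1, nat_lit 7]) (TL.leaf [nat_lit 7, nat_lit 6, nat_lit 4, nat_lit 7, nat_lit 4, nat_lit 2, nat_lit 7])) (TL.leaf [nat_lit 4, nat_lit 2, nat_lit 7, nat_lit 6, nat_lit 4, nat_lit 2, nat_lit 7])) (TL.node (TL.leaf [nat_lit 7, nat_lit 6, nat_lit 4, nat_lit 7, nat_lit 6, nat_lit 1, nat_lit 7]) (TL.leaf [nat_lit 4, nat_lit 7, nat_lit 5, nat_lit 7]))) (TL.node (TL.node (TL.leaf [nat_lit 4, nat_lit 6, nat_lit 2, nat_lit 7]) (TL.leaf [nat_lit 6, nat_lit 4, nat_lit 1, nat_lit 7, nat_lit 4, nat_lit 6, nat_lit 1, nat_lit 7])) (TL.node (TL.leaf [nat_lit 6, nat_lit 7, nat_lit 4, nat_lit 3, nat_lit 1, nat_lit 7]) (TL.leaf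 [nat_lit 5, nat_lit 1, nat_lit 7, nat_lit 4, nat_lit 6, nat_lit 1, nat_lit 7]))))))
def w_t10 : TL := (TL.node w_t8 w_t9)
def w_t11 : TL := (TL.node (TL.node (TL.node (TL.node (TL.node (TL.node (TL.leaf [nat_lit 4, nat_lit 7, nat_lit 6, nat_lit 7, nat_lit 4, nat_lit 1, nat_lit 7]) (TL.leaf [nat_lit 2, nat_lit 7, nat_lit 6, nat_lit 3, nat_lit 7])) (TL.leaf [nat_lit 4, nat_lit 7])) (TL.node (TL.leaf [nat_lit 4, nat_lit 2, nat_lit 7, nat_lit 6, nat_lit 4, nat_lit 7]) (TL.leaf [nat_lit 4, nat_lit 7, nat_lit 6, nat_lit 7, nat_lit 4, nat_lit 6, nat_lit 1, nat_lit 7]))) (TL.node (TL.node (TL.node (TL.leaf [nat_lit 4, nat_lit 3, nat_lit 1, nat_lit 7, nat_lit 4, nat_lit 6, nat_lit 1, nat_lit 7]) (TL.leaf [nat_lit 3, nat_lit 7, nat_lit 4, nat_lit 7, nat_lit 6, nat_lit 1, nat_lit 7])) (TL.leaf [nat_lit 7, nat_lit 2, nat_lit 7, nat_lit 3, nat_lit 6, nat_lit 4, nat_lit 7])) (TL.node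 (TL.leaf [nat_lit 2, nat_lit 7, nat_lit 6, nat_lit 4, nat_lit 1, nat_lit 7, nat_lit 6, nat_lit 1, nat_lit 7]) (TL.leaf [nat_lit 7, nat_lit 4, nat_lit 6, nat_lit 1, nat_lit 7])))) (TL.node (TL.node (TL.node (TL.node (TL.leaf [nat_lit 2, nat_lit 4, nat_lit 7, nat_lit 6, nat_lit 7, nat_lit 4, nat_lit 1, nat_lit 7]) (TL.leaf [nat_lit 1, nat_lit 7, nat_lit 6, nat_lit 1, nat_lit 7])) (TL.leaf [nat_lit 3, nat_lit 1, nat_lit 7, nat_lit 6, nat_lit 4, nat_lit 1, nat_lit 7])) (TL.node (TL.leaf [nat_lit 5, nat_lit 1, nat_lit 7, nat_lit 6, nat_lit 4, nat_lit 1, nat_lit 7]) (TL.leaf [nat_lit 4, nat_lit 7, nat_lit 6, nat_lit 1, nat_lit 7]))) (TL.node (TL.node (TL.node (TL.leaf [nat_lit 7, nat_lit 2, nat_lit 7, nat_lit 6, nat_lit 4, nat_lit 2, nat_lit 7]) (TL.leaf [nat_lit 6, nat_lit 7, nat_lit 6, nat_lit 1, nat_lit 7])) (TL.leaf [nat_lit 4, nat_lit 6, nat_lit 1, nat_lit 7])) (TL.node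 (TL.leaf [nat_lit 7, nat_lit 4, nat_lit 6, nat_lit 1, nat_lit 7, nat_lit 6, nat_lit 1, nat_lit 7]) (TL.leaf [nat_lit 6, nat_lit 5, nat_lit 7, nat_lit 4, nat_lit 6, nat_lit 2, nat_lit 7]))))) (TL.node (TL.node (TL.node (TL.node (TL.node (TL.leaf [nat_lit 6, nat_lit 3, nat_lit 7, nat_lit 4, nat_lit 6, nat_lit 1, nat_lit 7]) (TL.leaf [nat_lit 3, nat_lit 7, nat_lit 4, nat_lit 6, nat_lit 1, nat_lit 7])) (TL.leaf [nat_lit 7, nat_lit 4, nat_lit 1, nat_lit 7, nat_lit 6, nat_lit 7, nat_lit 4, nat_lit 1, nat_lit 7])) (TL.node (TL.leaf [nat_lit 4, nat_lit 2, nat_lit 7, nat_lit 4, nat_lit 6, nat_lit 2, nat_lit 7]) (TL.leaf [nat_lit 2, nat_lit 6, nat_lit 7]))) (TL.node (TL.node (TL.node (TL.leaf [nat_lit 4, nat_lit 2, nat_lit 7, nat_lit 6, nat_lit 7]) (TL.leaf [nat_lit 4, nat_lit 7, nat_lit 6, nat_lit 7])) (TL.leaf [nat_lit 4, nat_lit 7, nat_lit 6, nat_lit 2, nat_lit 7])) (TL.node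 (TL.leaf [nat_lit 6, nat_lit 5, nat_lit 7, nat_lit 6, nat_lit 2, nat_lit 4, nat_lit 7]) (TL.leaf [nat_lit 7, nat_lit 2, nat_lit 7, nat_lit 6, nat_lit 2, nat_lit 4, nat_lit 7])))) (TL.node (TL.node (TL.node (TL.node (TL.leaf [nat_lit 6, nat_lit 2, nat_lit 7, nat_lit 4, nat_lit 6, nat_lit 1, nat_lit 7]) (TL.leaf [nat_lit 6, nat_lit 4, nat_lit 7, nat_lit 4, nat_lit 2, nat_lit 7])) (TL.leaf [nat_lit 2, nat_lit 7, nat_lit 3, nat_lit 6, nat_lit 4, nat_lit 7])) (TL.node (TL.leaf [nat_lit 2, nat_lit 7, nat_lit 2, nat_lit 4, nat_lit 7, nat_lit 6, nat_lit 4, nat_lit 1, nat_lit 7]) (TL.leaf [nat_lit 6, nat_lit 4, nat_lit 7, nat_lit 2, nat_lit 7]))) (TL.node (TL.node (TL.leaf [nat_lit 5, nat_lit 1, nat_lit 7, nat_lit 4, nat_lit 6, nat_lit 2, nat_lit 7]) (TL.leaf [nat_lit 5, nat_lit 7, nat_lit 6, nat_lit 4, nat_lit 1, nat_lit 7])) (TL.node (TL.leaf [nat_lit 6, nat_lit 7, nat_lit 4,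 nat_lit 1, nat_lit 7]) (TL.leaf [nat_lit 7, nat_lit 2, nat_lit 7, nat_lit 4, nat_lit 1, nat_lit 7]))))))
def w_t12 : TL := (TL.node (TL.node (TL.node (TL.node (TL.node (TL.node (TL.leaf [nat_lit 2, nat_lit 7, nat_lit 4, nat_lit 2, nat_lit 7]) (TL.leaf [nat_lit 3, nat_lit 7, nat_lit 3, nat_lit 6, nat_lit 4, nat_lit 7])) (TL.leaf [nat_lit 2, nat_lit 7, nat_lit 4, nat_lit 1, nat_lit 7])) (TL.node (TL.leaf [nat_lit 6, nat_lit 4, nat_lit 7]) (TL.leaf [nat_lit 5, nat_lit 1, nat_lit 7, nat_lit 4, nat_lit 6, nat_lit 7]))) (TL.node (TL.node (TL.node (TL.leaf [nat_lit 6, nat_lit 2, nat_lit 7, nat_lit 6, nat_lit 4, nat_lit 7]) (TL.leaf [nat_lit 2, nat_lit 7, nat_lit 6, nat_lit 4, nat_lit 2, nat_lit 7])) (TL.leaf [nat_lit 4, nat_lit 1, nat_lit 7, nat_lit 6, nat_lit 4, nat_lit 2, nat_lit 7])) (TL.node (TL.leaf [nat_lit 7, nat_lit 4, nat_lit 2, nat_lit 7]) (TL.leaf [nat_lit 7, nat_lit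 6, nat_lit 4, nat_lit 1, nat_lit 7])))) (TL.node (TL.node (TL.node (TL.node (TL.leaf [nat_lit 1, nat_lit 7]) (TL.leaf [nat_lit 6, nat_lit 2, nat_lit 7])) (TL.leaf [nat_lit 2, nat_lit 7, nat_lit 4, nat_lit 6, nat_lit 1, nat_lit 7])) (TL.node (TL.leaf [nat_lit 6, nat_lit 2, nat_lit 7, nat_lit 2, nat_lit 4, nat_lit 7]) (TL.leaf [nat_lit 1, nat_lit 7, nat_lit 6, nat_lit 5, nat_lit 7]))) (TL.node (TL.node (TL.node (TL.leaf [nat_lit 7, nat_lit 4, nat_lit 6, nat_lit 2, nat_lit 7, nat_lit 6, nat_lit 4, nat_lit 1, nat_lit 7]) (TL.leaf [nat_lit 5, nat_lit 4, nat_lit 7, nat_lit 6, nat_lit 4, nat_lit 1, nat_lit 7])) (TL.leaf [nat_lit 2, nat_lit 1, nat_lit 7, nat_lit 4, nat_lit 6, nat_lit 2, nat_lit 7])) (TL.node (TL.leaf [nat_lit 7, nat_lit 2, nat_lit 4, nat_lit 7, nat_lit 6, nat_lit 7, nat_lit 4, nat_lit 2, nat_lit 7]) (TL.leaf [nat_lit 6, nat_lit 5, nat_lit 7, nat_lit 6, nat_lit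 4, nat_lit 7]))))) (TL.node (TL.node (TL.node (TL.node (TL.node (TL.leaf [nat_lit 4, nat_lit 7, nat_lit 6, nat_lit 3, nat_lit 7]) (TL.leaf [nat_lit 6, nat_lit 5, nat_lit 7])) (TL.leaf [nat_lit 7, nat_lit 2, nat_lit 7, nat_lit 6, nat_lit 2, nat_lit 7])) (TL.node (TL.leaf [nat_lit 7, nat_lit 6, nat_lit 4, nat_lit 2, nat_lit 7]) (TL.leaf [nat_lit 7, nat_lit 6, nat_lit 1, nat_lit 7]))) (TL.node (TL.node (TL.node (TL.leaf [nat_lit 3, nat_lit 7, nat_lit 4, nat_lit 6, nat_lit 7]) (TL.leaf [nat_lit 6, nat_lit 1, nat_lit 7, nat_lit 2, nat_lit 4, nat_lit 7])) (TL.leaf [nat_lit 2, nat_lit 4, nat_lit 5, nat_lit 7, nat_lit 4, nat_lit 6, nat_lit 1, nat_lit 7])) (TL.node (TL.leaf [nat_lit 6, nat_lit 4, nat_lit 7, nat_lit 6, nat_lit 1, nat_lit 7]) (TL.leaf [nat_lit 4, nat_lit 7, nat_lit 6, nat_lit 4, nat_lit 2, nat_lit 7])))) (TL.node (TL.node (TL.node (TL.node (TL.leaf [nat_lit 4, nat_lit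 1, nat_lit 7, nat_lit 6, nat_lit 7]) (TL.leaf [nat_lit 7, nat_lit 6, nat_lit 5, nat_lit 7])) (TL.leaf [nat_lit 7, nat_lit 5, nat_lit 4, nat_lit 7, nat_lit 6, nat_lit 4, nat_lit 1, nat_lit 7])) (TL.node (TL.leaf [nat_lit 1, nat_lit 7, nat_lit 6, nat_lit 4, nat_lit 7, nat_lit 6, nat_lit 1, nat_lit 7]) (TL.leaf [nat_lit 7, nat_lit 6, nat_lit 2, nat_lit 4, nat_lit 7]))) (TL.node (TL.node (TL.leaf [nat_lit 6, nat_lit 2, nat_lit 7, nat_lit 6, nat_lit 2, nat_lit 4, nat_lit 7]) (TL.leaf [nat_lit 4, nat_lit 5, nat_lit 1, nat_lit 7, nat_lit 6, nat_lit 4, nat_lit 1, nat_lit 7])) (TL.node (TL.leaf [nat_lit 2, nat_lit 7, nat_lit 6, nat_lit 7, nat_lit 4, nat_lit 1, nat_lit 7]) (TL.leaf [nat_lit 1, nat_lit 7, nat_lit 6, nat_lit 2, nat_lit 4, nat_lit 7]))))))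
def w_t13 : TL := (TL.node w_t11 w_t12)
def w_t14 : TL := (TL.node w_t10 w_t13)
def w_t : TL := (TL.node w_t7 w_t14)
noncomputable def w (i : ℕ) : List ℕ := TL.get w_t i
theorem sy : Sy q 2 7 R := md.sy' (by decide) (by decide) (upTo_beq (by decide +kernel)) (Z := Zm) (pr := 128) rfl (upTo_beq (by decide +kernel)) (by rw [McL.card]; decide)
theorem ctr : ∀ x ∈ gen q 7, (∀ j < 7, Commute x (q j)) → x = 1 ∨ x = q 0 := md.ctr sy (by decide) (Z := Zc) (pr := 128) rfl (upTo_beq (by decide +kernel))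
theorem cen : gen q 8 ≤ Subgroup.centralizer {q 0} := md.cen (by decide +kernel)
theorem nrm : Subgroup.normalizer (gen q 7 : Set (Cfsg.Spor.McL)) ≤ gen q 7 := nrm_le sy (by decide) ctr ((gen_mono q (by decide)).trans cen)
  (md.nrm (by decide) (M' := 8) (k := 16) (n := 314) (V := V) (O := O) (rt := rt) (upTo_beq (by decide +kernel)) (K := [(262, 204), (54, 123), (127, 21), (266, 268), (256, 73), (274, 146), (27, 235), (144, 103), (140, 194), (19, 12), (110, 3), (217, 98), (214, 62), (263, 20), (194, 90), (245, 176), (273, 197), (40, 105), (235, 76), (15, 69), (100, 85), (234, 250)])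
    (by decide) (w := w) (upTo_beq (by decide +kernel)) (upTo_beq (by decide +kernel)) cen (by
      have h := McLo.md.cls McLo.cs McLo.h3 (L := ⊤) fun _ _ => trivial
      rw [top_inf_eq, Subgroup.card_top, McL.card] at h
      rw [sy.card Nat.prime_two le_rfl]
      exact Nat.le_of_mul_le_mul_left h (by decide)))
def Y_t : TL := (TL.node (TL.node (TL.node (TL.node (TL.leaf [nat_lit 0]) (TL.leaf [nat_lit 2])) (TL.node (TL.leaf [nat_lit 2, nat_lit 3]) (TL.leaf [nat_lit 6]))) (TL.node (TL.node (TL.leaf [nat_lit 1]) (TL.leaf [nat_lit 4])) (TL.leaf [nat_lit 2, nat_lit 4, nat_lit 5]))) (TL.node (TL.node (TL.node (TL.leaf []) (TL.leaf [nat_lit 1, nat_lit 3, nat_lit 4, nat_lit 5])) (TL.leaf [nat_lit 5])) (TL.node (TL.node (TL.leaf [nat_lit 3]) (TL.leaf [nat_lit 3, nat_lit 6])) (TL.leaf [nat_lit 2, nat_lit 6]))))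
noncomputable def Y (i : ℕ) : List ℕ := TL.get Y_t i
def St_t : TL := (TL.node (TL.node (TL.node (TL.node (TL.leaf [nat_lit 0, nat_lit 0]) (TL.leaf [nat_lit 4, nat_lit 6])) (TL.leaf [nat_lit 0, nat_lit 1, nat_lit 16])) (TL.node (TL.node (TL.leaf [nat_lit 0, nat_lit 1, nat_lit 14]) (TL.leaf [nat_lit 4, nat_lit 7])) (TL.leaf [nat_lit 0, nat_lit 1, nat_lit 18]))) (TL.node (TL.node (TL.node (TL.leaf [nat_lit 0, nat_lit 1, nat_lit 13]) (TL.leaf [nat_lit 9, nat_lit 5])) (TL.leaf [nat_lit 0, nat_lit 1, nat_lit 17])) (TL.node (TL.node (TL.leaf [nat_lit 0, nat_lit 1, nat_lit 15]) (TL.leaf [nat_lit 11, nat_lit 3])) (TL.leaf [nat_lit 3, nat_lit 4]))))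
noncomputable def St (i : ℕ) : List ℕ := TL.get St_t i
def F (i : ℕ) : ℕ := Nat.land (Nat.shiftRight (nat_lit 0xc5a3820) (Nat.mul (nat_lit 4) i)) (nat_lit 15)
theorem fus {K : Type*} [Group K] (e : Cfsg.Spor.McL ≃* K) (S : Sylow 2 K) : (groupFusionSystem (S : Subgroup K)).IsSimple 2 :=
  fus2 sy (by decide) ctr nrm (md.scl (Y := Y) (St := St) (F := F) (n := (nat_lit 12)) (by decide +kernel)) e S

end Cfsg.Agent.Ct.McLf
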