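import Cfsg.Agent.Lib.Fischer.Pc2
import Cfsg.Agent.Lib.PermCert.Pres

/-! Faithful labelled models of finite groups; Sylow subgroups and involution centralizers by certificate. -/

set_option autoImplicit false
set_option linter.unusedSectionVars false

namespace Cfsg.Agent.Ct

open Cfsg.Agent.PC Cfsg.Agent.Fi MulAction Subgroup

variable {G X : Type*} [Group G] [MulAction G X] {pt : ℕ → X} {N m : ℕ} {B : List ℕ} {g q : ℕ → G} {T Q : ℕ → ℕ → ℕ}

/-- labelled points with a base, and letters with their tables -/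
structure Md (pt : ℕ → X) (N : ℕ) (B : List ℕ) (g : ℕ → G) (T : ℕ → ℕ → ℕ) (m : ℕ) : Prop where
  inj : Inj pt N
  lt : ∀ b ∈ B, b < N
  base : ∀ a : G, (∀ b ∈ B, a • pt b = pt b) → a = 1
  reps : Reps pt N g T m

theorem Md.eqF (M : Md pt N B g T m) {x y : G} {f f' : ℕ → ℕ} (h1 : Rep pt N x f) (h2 : Rep pt N y f') :
    agF B f f' = 0 ↔ x = y := by
  constructor
  · intro h
    rw [← inv_mul_eq_one]
    refine M.base _ fun b hb => ?_
    rw [mul_smul, (h2 b (M.lt b hb)).2, ← xor_eq_zero' (allE_zero h b hb), ← (h1 b (M.lt b hb)).2, inv_smul_smul]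
  · rintro rfl
    have : ∀ l : List ℕ, (∀ b ∈ l, b < N) → agF l f f' = 0 := fun l => by
      induction l with
      | nil => exact fun _ => rfl
      | cons b l ih =>
        intro h
        have t := h b List.mem_cons_self
        show Nat.xor (f b) (f' b) + agF l f f' = 0
        rw [ih fun c hc => h c (List.mem_cons_of_mem _ hc),
          M.inj _ (h1 b t).1 _ (h2 b t).1 ((h1 b t).2.symm.trans (h2 b t).2)]
        exact Nat.xor_self _
    exact this B M.lt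

/-- two words with letters below `m` agree on the base -/
noncomputable def eqE (T : ℕ → ℕ → ℕ) (B : List ℕ) (m : ℕ) (u w : List ℕ) : ℕ :=
  Nat.add (Nat.add (lettE m u) (lettE m w)) (agF B (trF T u) (trF T w))

theorem Md.rw (M : Md pt N B g T m) {w : List ℕ} (h : lettE m w = 0) : Rep pt N (ev g w) (trF T w) :=
  trF_eq T w ▸ M.reps.ev (lettE_zero h)

theorem Md.eq (M : Md pt N B g T m) {u w : List ℕ} (h : eqE T B m u w = 0) : ev g u = ev g w :=
  have ⟨h1, h2⟩ := add_eq_zero' h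
  (M.eqF (M.rw (add_eq_zero' h1).1) (M.rw (add_eq_zero' h1).2)).mp h2

theorem Md.words (M : Md pt N B g T m) {W : ℕ → List ℕ} {r : ℕ} (h : lin (fun j => lettE m (W j)) (nat_lit 0) r = 0)
    (h2 : ∀ c < N, tabE T Q W r c = 0) : Md pt N B (fun j => ev g (W j)) Q r :=
  ⟨M.inj, M.lt, M.base, reps_tabs M.reps h h2⟩

theorem Md.sub (M : Md pt N B g T m) {L : Subgroup G} {m' : ℕ} (hm : m' ≤ m) (h : gen g m' ≤ L) :
    Md pt N B (PC.sub L g) T m' :=
  ⟨M.inj, M.lt, fun a ha => Subtype.ext (M.base a ha), (M.reps.mono hm).sub h⟩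

/-- the relations of a polycyclic sequence -/
def Rel (q : ℕ → G) (p r : ℕ) (R : ℕ → List ℕ) : Prop :=
  ∀ i < r, ∀ j ≤ i, (∀ k ∈ R (32 * i + j), k < i) ∧
    if j = i then q i ^ p = ev q (R (32 * i + j)) else q i * q j = ev q (R (32 * i + j)) * q i

noncomputable def relE (Q : ℕ → ℕ → ℕ) (B : List ℕ) (m p : ℕ) (R : ℕ → List ℕ) (i : ℕ) : ℕ :=
  lin (fun j => force (Nat.add (Nat.mul (nat_lit 32) i) j) fun k => Nat.add (lettE i (R k))
    (Nat.rec (eqE Q B m (List.replicate p i) (R k)) (fun _ _ => eqE Q B m [j, i] (i :: R k)) (Nat.xor j i)))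
    (nat_lit 0) (Nat.add i (nat_lit 1))

theorem rec_xor {α : Type*} (a b : α) (j i : ℕ) :
    Nat.rec (motive := fun _ => α) a (fun _ _ => b) (Nat.xor j i) = if j = i then a else b := by
  split_ifs with h
  · rw [h, show Nat.xor i i = 0 from Nat.xor_self i]; rfl
  · rcases e : Nat.xor j i with _ | k
    · exact absurd (xor_eq_zero' e) h
    · rfl

theorem Md.rel (M : Md pt N B q Q m) {p r : ℕ} {R : ℕ → List ℕ} (h : ∀ i < r, relE Q B m p R i = 0) : Rel q p r R := by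
  intro i hi j hj
  obtain ⟨h1, h2⟩ := add_eq_zero' (lin_zero (h i hi) j (Nat.lt_succ_of_le hj))
  refine ⟨lettE_zero h1, ?_⟩
  rw [rec_xor] at h2
  split_ifs with e
  · rw [if_pos e] at h2; rw [← ev_replicate]; exact M.eq h2
  · rw [if_neg e] at h2; simpa using M.eq h2

theorem Rel.pc {p r : ℕ} {R : ℕ → List ℕ} (h : Rel q p r R) : Pc q p r :=
  ⟨fun i hi => by have := h i hi i le_rfl; rw [if_pos rfl] at this; exact this.2 ▸ ev_mem_gen q this.1, fun i hi j hj => by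
    have := h i hi j hj.le
    rw [if_neg hj.ne] at this
    rw [this.2, mul_inv_cancel_right]; exact ev_mem_gen q this.1⟩

/-- a Sylow subgroup with its relations -/
structure Sy (q : ℕ → G) (p r : ℕ) (R : ℕ → List ℕ) : Prop where
  rel : Rel q p r R
  str : ∀ i < r, q i ∉ gen q i
  syl : ¬ p ^ (r + 1) ∣ Nat.card G

/-- the checks for a Sylow subgroup -/
noncomputable def syE (Q : ℕ → ℕ → ℕ) (B : List ℕ) (N m p : ℕ) (R O : ℕ → List ℕ) (i : ℕ) : ℕ :=
  Nat.add (relE Q B m p R i) (strE Q N O i)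

theorem Md.sy (M : Md pt N B q Q m) {p r : ℕ} (hr : r ≤ m) {R O : ℕ → List ℕ} (h : ∀ i < r, syE Q B N m p R O i = 0)
    (hn : ¬ p ^ (r + 1) ∣ Nat.card G) : Sy q p r R :=
  ⟨M.rel fun i hi => (add_eq_zero' (h i hi)).1,
    strE_main (M.reps.mono hr) M.inj fun i hi => (add_eq_zero' (h i hi)).2, hn⟩

theorem evp_top (q : ℕ → G) {p : ℕ} (hp : 1 < p) (i : ℕ) : ∀ k j c, c < p ^ i →
    evp q p (i + k + 1) j (p ^ i + c) = q (j + i) * evp q p i j c := by
  induction i with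
  | zero => intro k j c hc; simp [show c = 0 by simpa using hc, evp, Nat.div_eq_of_lt hp, Nat.mod_eq_of_lt hp, evp_zero]
  | succ i ih =>
    intro k j c hc
    rw [show i + 1 + k + 1 = i + k + 1 + 1 by omega, evp, pow_succ', Nat.mul_add_div (by omega), Nat.mul_add_mod,
      ih k _ _ (Nat.div_lt_of_lt_mul (by rwa [pow_succ'] at hc)), evp, mul_assoc, add_assoc, add_comm 1]

/-- the element number `c` moves the point `Z c` -/
noncomputable def mvE (Q : ℕ → ℕ → ℕ) (N p r : ℕ) (Z : ℕ → ℕ) (c : ℕ) : ℕ :=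
  force (Z c) fun b => Nat.mul c (Nat.add (ltE b N) (eqI (trp Q p r (nat_lit 0) c b) b))

variable [Finite G]

theorem Md.sy' (M : Md pt N B q Q m) {p r : ℕ} (hr : r ≤ m) (hp : 1 < p) {R : ℕ → List ℕ}
    (h : ∀ i < r, relE Q B m p R i = 0) {Z : ℕ → ℕ} {pr : ℕ} (e : pr = p ^ r) (h' : ∀ c < pr, mvE Q N p r Z c = 0)
    (hn : ¬ p ^ (r + 1) ∣ Nat.card G) : Sy q p r R := by
  refine ⟨M.rel h, fun i hi hm => ?_, hn⟩
  obtain ⟨c, hc, y, hy, e1⟩ := (M.rel h).pc.nf (by omega) i 0 (by omega) _ (by rw [zero_add]; exact inv_mem hm)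
  rw [gen_zero, mem_bot] at hy
  obtain ⟨k, rfl⟩ : ∃ k, r = i + k + 1 := ⟨r - i - 1, by omega⟩
  have e2 := evp_top q hp i k 0 c hc
  rw [hy, mul_one] at e1
  rw [← e1, zero_add, mul_inv_cancel] at e2
  have e3 : p ^ i + c < p ^ (i + k + 1) :=
    calc _ < p ^ i * 2 := by omega
      _ ≤ p ^ (i + 1) := Nat.mul_le_mul_left _ hp
      _ ≤ _ := Nat.pow_le_pow_right (by omega) (by omega)
  rcases mul_eq_zero' (h' _ (e ▸ e3)) with e4 | e4
  · have := Nat.pow_pos (n := i) (show 0 < p by omega); omega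
  obtain ⟨e4, e5⟩ := add_eq_zero' e4
  have r1 := rep_evp M.reps p _ 0 (p ^ i + c) (by omega : 0 + (i + k + 1) ≤ m) _ (ltE_zero e4)
  rw [e2, one_smul] at r1
  rw [eqI_eq, if_pos (M.inj _ r1.1 _ (ltE_zero e4) r1.2.symm)] at e5
  cases e5

theorem Sy.card {p r : ℕ} {R : ℕ → List ℕ} (S : Sy q p r R) (hp : p.Prime) {s : ℕ} (hs : s ≤ r) :
    Nat.card (gen q s) = p ^ s :=
  Pc.card ⟨fun i hi => S.rel.pc.1 i (by omega), fun i hi => S.rel.pc.2 i (by omega)⟩ hp fun i hi => S.str i (by omega)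

theorem Sy.nf {p r : ℕ} {R : ℕ → List ℕ} (S : Sy q p r R) (hp : 0 < p) {s : ℕ} (hs : s ≤ r) {x : G}
    (hx : x ∈ gen q s) : ∃ c < p ^ s, x = evp q p s 0 c := by
  obtain ⟨c, hc, y, hy, e⟩ := S.rel.pc.nf hp s 0 (by omega) x (by rwa [zero_add])
  rw [gen_zero, mem_bot] at hy
  exact ⟨c, hc, by rw [e, hy, mul_one]⟩

theorem Sy.index {p r : ℕ} {R : ℕ → List ℕ} (S : Sy q p r R) (hp : p.Prime) : ¬ p ∣ (gen q r).index := fun h =>
  S.syl (by rw [← (gen q r).index_mul_card, S.card hp le_rfl, pow_succ']; exact Nat.mul_dvd_mul_right h _)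

theorem Sy.into {p r : ℕ} [Fact p.Prime] {R : ℕ → List ℕ} (S : Sy q p r R) {L P : Subgroup G} (hL : gen q r ≤ L)
    (hP : P ≤ L) (h : IsPGroup p P) : ∃ k ∈ L, ∀ x ∈ P, k * x * k⁻¹ ∈ gen q r := by
  obtain ⟨k, hk⟩ := exists_conj_le (G := L) (a := r) (A := (gen q r).subgroupOf L) (P0 := P.subgroupOf L)
    (h.of_injective (subgroupOfEquivOfLe hP).toMonoidHom (subgroupOfEquivOfLe hP).injective)
    (fun e => S.syl (e.trans (card_subgroup_dvd_card L)))
    (by rw [Nat.card_congr (subgroupOfEquivOfLe hL).toEquiv, S.card Fact.out le_rfl])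
  exact ⟨k, k.2, fun x hx => hk ⟨x, hP hx⟩ hx⟩

theorem evp_lt (q : ℕ → G) {p : ℕ} (hp : 0 < p) (k : ℕ) : ∀ s j c, c < p ^ s → evp q p k j c ∈ gen q (j + s) := by
  induction k with
  | zero => exact fun _ _ _ _ => one_mem _
  | succ k ih =>
    rintro (_ | s) j c hc
    · rw [show c = 0 by simpa using hc, evp_zero]; exact one_mem _
    · refine mul_mem ?_ (pow_mem (mem_gen q (by omega)) _)
      have := ih s (j + 1) (c / p) (Nat.div_lt_of_lt_mul (by rwa [pow_succ'] at hc))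
      rwa [add_assoc, add_comm 1] at this

/-! conjugates by packed words in four letters -/

noncomputable def cjT (A A' : ℕ → ℕ → ℕ) (f : ℕ → ℕ) (l : ℕ) : ℕ → ℕ → ℕ :=
  Nat.rec (motive := fun _ => ℕ → ℕ → ℕ) (fun _ x => f x)
    (fun _ ih n x => force (Nat.land n (nat_lit 3)) fun j => force (Nat.shiftRight n (nat_lit 2)) fun n' =>
      force (A' j x) fun y => force (ih n' y) (A j)) l

def cjw (a : ℕ → G) (z : G) : ℕ → ℕ → G
  | 0, _ => z
  | l + 1, n => a (n &&& 3) * cjw a z l (n >>> 2) * (a (n &&& 3))⁻¹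

theorem rep_cjw {a : ℕ → G} {A A' : ℕ → ℕ → ℕ} (h : ∀ d < 4, Rep pt N (a d) (A d) ∧ Rep pt N (a d)⁻¹ (A' d)) {z : G}
    {f : ℕ → ℕ} (hz : Rep pt N z f) (l : ℕ) : ∀ n, Rep pt N (cjw a z l n) (cjT A A' f l n) := by
  induction l with
  | zero => exact fun _ => hz
  | succ l ih =>
    intro n
    have t := h (n &&& 3) (lt_of_le_of_lt Nat.and_le_right (by norm_num))
    exact (t.1.mul (ih _)).mul t.2

theorem cjw_conj {a : ℕ → G} {L : Subgroup G} (h : ∀ d < 4, a d ∈ L) (z : G) (l : ℕ) :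
    ∀ n, ∃ k ∈ L, k * z * k⁻¹ = cjw a z l n := by
  induction l with
  | zero => exact fun _ => ⟨1, one_mem _, by simp [cjw]⟩
  | succ l ih =>
    intro n
    obtain ⟨k, hk, e⟩ := ih (n >>> 2)
    exact ⟨_, mul_mem (h (n &&& 3) (lt_of_le_of_lt Nat.and_le_right (by norm_num))) hk, by rw [cjw, ← e]; group⟩

noncomputable def keyE (N : ℕ) (K : List ℕ) (f : ℕ → ℕ) : ℕ :=
  List.rec (nat_lit 0) (fun b _ ih => Nat.add (f b) (Nat.mul N ih)) K

theorem keyE_eq (hi : Inj pt N) {K : List ℕ} (hK : ∀ b ∈ K, b < N) {x : G} {f f' : ℕ → ℕ} (h : Rep pt N x f)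
    (h' : Rep pt N x f') : keyE N K f = keyE N K f' := by
  induction K with
  | nil => rfl
  | cons b K ih =>
    have t := hK b List.mem_cons_self
    show f b + N * keyE N K f = f' b + N * keyE N K f'
    rw [ih fun c hc => hK c (List.mem_cons_of_mem _ hc), hi _ (h b t).1 _ (h' b t).1 ((h b t).2.symm.trans (h' b t).2)]

/-- key of the conjugate number `c` -/
noncomputable def clK (Q : ℕ → ℕ → ℕ) (σ σ' : ℕ → ℕ) (N z : ℕ) (K : List ℕ) (V : ℕ → ℕ) (c : ℕ) : ℕ :=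
  force (V c) fun v => force (Nat.land v (nat_lit 31)) fun l => force (Nat.shiftRight v (nat_lit 5)) fun n =>
    keyE N K (cjT (fun d => Q (σ d)) (fun d => Q (σ' d)) (Q z) l n)

noncomputable def clE (Q : ℕ → ℕ → ℕ) (σ σ' : ℕ → ℕ) (N z : ℕ) (K : List ℕ) (V : ℕ → ℕ) (c : ℕ) : ℕ :=
  ltE (clK Q σ σ' N z K V c) (clK Q σ σ' N z K V (Nat.add c (nat_lit 1)))

noncomputable def clS (Q : ℕ → ℕ → ℕ) (B : List ℕ) (σ σ' : ℕ → ℕ) (N m z : ℕ) (K : List ℕ) : ℕ :=
  Nat.add (lin (fun d => eqE Q B m [σ d, σ' d] []) (nat_lit 0) (nat_lit 4)) (Nat.add (ltE z m) (allE (fun b => ltE b N) K))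

theorem Md.cls (M : Md pt N B q Q m) {σ σ' : ℕ → ℕ} {z n : ℕ} {K : List ℕ} {V : ℕ → ℕ} (h1 : clS Q B σ σ' N m z K = 0)
    (h2 : ∀ c < n, clE Q σ σ' N z K V c = 0) {L : Subgroup G} (hL : ∀ d < 4, q (σ d) ∈ L) :
    (n + 1) * Nat.card ↥(L ⊓ centralizer {q z}) ≤ Nat.card L := by
  obtain ⟨t1, t2⟩ := add_eq_zero' h1
  obtain ⟨t2, t3⟩ := add_eq_zero' t2
  have t4 : ∀ d < 4, Rep pt N (q (σ d)) (Q (σ d)) ∧ Rep pt N (q (σ d))⁻¹ (Q (σ' d)) := fun d hd => by
    have s1 := lin_zero t1 d hd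
    have s2 := lettE_zero (add_eq_zero' (add_eq_zero' s1).1).1
    have s3 : q (σ' d) * q (σ d) = 1 := by simpa using M.eq s1
    exact ⟨M.reps _ (s2 _ (by simp)), eq_inv_of_mul_eq_one_left s3 ▸ M.reps _ (s2 _ (by simp))⟩
  let y : ℕ → G := fun c => cjw (fun d => q (σ d)) (q z) (V c &&& 31) (V c >>> 5)
  have t5 : Inj y (n + 1) := Inj.of_key (clK Q σ σ' N z K V) (fun i _ j _ e => keyE_eq M.inj
    (fun b hb => ltE_zero (allE_zero t3 b hb)) (rep_cjw t4 (M.reps z (ltE_zero t2)) _ _)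
    (show Rep pt N (y i) _ from e ▸ rep_cjw t4 (M.reps z (ltE_zero t2)) _ _)) fun i hi => ltE_zero (h2 i (by omega))
  have e2 : stabilizer G (show Cj G from q z) = centralizer {q z} := Subgroup.ext fun g =>
    (conj_eq_iff (G := G)).trans mem_centralizer_singleton_iff.symm
  rw [card_eq_orbit_mul L (show Cj G from q z), e2, ← t5.ncard_Iio]
  refine Nat.mul_le_mul_right _ (Set.ncard_le_ncard (α := G) ?_ (Set.toFinite _))
  rintro _ ⟨c, -, rfl⟩
  obtain ⟨k, hk, e⟩ := cjw_conj hL (q z) (V c &&& 31) (V c >>> 5)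
  exact ⟨⟨k, hk⟩, e⟩

/-- a word of prime order `a.2` -/
noncomputable def ordE (Q : ℕ → ℕ → ℕ) (B : List ℕ) (t : ℕ) (a : List ℕ × ℕ) : ℕ :=
  Nat.add (Nat.add (lettE t a.1) (agF B (itF (trF Q a.1) a.2) fun x => x)) (eqI (agF B (trF Q a.1) fun x => x) (nat_lit 0))

theorem Md.ord (M : Md pt N B q Q m) {t : ℕ} (ht : t ≤ m) {a : List ℕ × ℕ} (h : ordE Q B t a = 0) :
    ev q a.1 ∈ gen q t ∧ ev q a.1 ^ a.2 = 1 ∧ ev q a.1 ≠ 1 := by
  obtain ⟨h1, h2⟩ := add_eq_zero' h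
  obtain ⟨h1, h3⟩ := add_eq_zero' h1
  have r : Rep pt N (ev q a.1) (trF Q a.1) := trF_eq Q _ ▸ M.reps.ev fun j hj => (lettE_zero h1 j hj).trans_le ht
  refine ⟨ev_mem_gen q (lettE_zero h1), (M.eqF (r.itF _) Rep.one).mp h3, fun e => ?_⟩
  rw [(M.eqF r Rep.one).mpr e] at h2
  cases h2

theorem dvd_card {L : Subgroup G} (l : List (G × ℕ)) (h : ∀ a ∈ l, a.1 ∈ L ∧ a.1 ^ a.2 = 1 ∧ a.1 ≠ 1 ∧ a.2.Prime)
    {k : ℕ} (hk : k ∣ Nat.card L) (hc : (k :: l.map Prod.snd).Pairwise Nat.Coprime) :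
    k * (l.map Prod.snd).prod ∣ Nat.card L := by
  induction l generalizing k with
  | nil => simpa using hk
  | cons a l ih =>
    obtain ⟨h1, h2, h3, h4⟩ := h a List.mem_cons_self
    have := Fact.mk h4
    simp only [List.map_cons, List.pairwise_cons, List.mem_cons, forall_eq_or_imp] at hc
    rw [List.map_cons, List.prod_cons, ← mul_assoc]
    refine ih (fun b hb => h b (List.mem_cons_of_mem _ hb)) (hc.1.1.mul_dvd_of_dvd_of_dvd hk ?_)
      (List.pairwise_cons.mpr ⟨fun b hb => Nat.Coprime.mul_left (hc.1.2 b hb) (hc.2.1 b hb), hc.2.2⟩)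
    rw [← orderOf_eq_prime h2 h3]; exact L.orderOf_dvd_natCard h1

theorem Md.dvdC (M : Md pt N B q Q m) {r t : ℕ} {R : ℕ → List ℕ} (S : Sy q 2 r R) (h0 : r ≤ t ∧ t ≤ m)
    {l : List (List ℕ × ℕ)} (h3 : allE (ordE Q B t) l = 0)
    (h4 : (∀ a ∈ l, a.2.Prime) ∧ (2 ^ r :: l.map Prod.snd).Pairwise Nat.Coprime) :
    2 ^ r * (l.map Prod.snd).prod ∣ Nat.card (gen q t) := by
  have := dvd_card (L := gen q t) (l.map fun a => (ev q a.1, a.2)) (by
    simp only [List.forall_mem_map]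
    exact fun a ha => have := M.ord h0.2 (allE_zero h3 a ha); ⟨this.1, this.2.1, this.2.2, h4.1 a ha⟩)
    (k := 2 ^ r) (S.card Nat.prime_two le_rfl ▸ card_dvd_of_le (gen_mono q h0.1)) (by rw [List.map_map]; exact h4.2)
  rwa [List.map_map] at this

/-- local data at the involution `q 0`: `S = gen q r`, `Z(S) = ⟨q 0⟩`, `C(q 0) = gen q t`, normal subgroup `gen q s` -/
structure Loc (q : ℕ → G) (s r t : ℕ) (R : ℕ → List ℕ) : Prop extends Sy q 2 r R where
  s0 : 0 < s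
  sr : s ≤ r
  rt : r ≤ t
  ctr : ∀ x ∈ gen q r, (∀ j < r, Commute x (q j)) → x = 1 ∨ x = q 0
  cR : ∀ x ∈ gen q r, (∀ j < s, Commute x (q j)) → x ∈ gen q s
  cen : centralizer {q 0} = gen q t
  nrm : gen q t ≤ normalizer (gen q s : Set G)

/-- the element number `c` does not commute with a letter; `Z c = 32 * point + letter` -/
noncomputable def ncE (Q : ℕ → ℕ → ℕ) (N s r ps : ℕ) (Z : ℕ → ℕ) (c : ℕ) : ℕ :=
  force (Z c) fun v => force (Nat.land v (nat_lit 31)) fun j => force (Nat.shiftRight v (nat_lit 5)) fun b =>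
    Nat.mul (Nat.shiftRight c (nat_lit 1)) (Nat.add (Nat.add (Nat.add (ltE b N) (ltE j r)) (Nat.mul (ltE c ps) (ltE j s)))
      (eqI (force (Q j b) (trp Q (nat_lit 2) r (nat_lit 0) c)) (force (trp Q (nat_lit 2) r (nat_lit 0) c b) (Q j))))

/-- the letter `j` commutes with the letter `0` and normalizes `gen q s` -/
noncomputable def nmE (Q : ℕ → ℕ → ℕ) (B : List ℕ) (m s : ℕ) (U : ℕ → List ℕ) (j : ℕ) : ℕ :=
  Nat.add (eqE Q B m [nat_lit 0, j] [j, nat_lit 0]) (lin (fun i => force (Nat.add (Nat.mul (nat_lit 32) j) i) fun k =>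
    Nat.add (lettE s (U k)) (eqE Q B m [i, j] (j :: U k))) (nat_lit 0) s)

theorem Md.loc (M : Md pt N B q Q m) {s r t : ℕ} {R : ℕ → List ℕ} (S : Sy q 2 r R) (h0 : 0 < s ∧ s ≤ r ∧ r ≤ t ∧ t ≤ m)
    {Z : ℕ → ℕ} {ps pr : ℕ} (hp : ps = 2 ^ s ∧ pr = 2 ^ r) (h1 : ∀ c < pr, ncE Q N s r ps Z c = 0)
    {U : ℕ → List ℕ} (h2 : ∀ j < t, nmE Q B m s U j = 0) {l : List (List ℕ × ℕ)} (h3 : allE (ordE Q B t) l = 0)
    (h4 : (∀ a ∈ l, a.2.Prime) ∧ (pr :: l.map Prod.snd).Pairwise Nat.Coprime) {n : ℕ}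
    (h5 : (n + 1) * Nat.card ↥(⊤ ⊓ centralizer {q 0}) ≤ Nat.card (⊤ : Subgroup G))
    (h6 : Nat.card G < (n + 1) * (pr * (l.map Prod.snd).prod + 1)) : Loc q s r t R := by
  obtain ⟨s0, sr, rt, tm⟩ := h0
  obtain ⟨rfl, rfl⟩ := hp
  have key : ∀ x ∈ gen q r, (x = 1 ∨ x = q 0) ∨ ∃ j < r, ¬ Commute x (q j) ∧ (x ∈ gen q s ∨ j < s) := fun x hx => by
    obtain ⟨c, hc, rfl⟩ := S.nf two_pos le_rfl hx
    rcases mul_eq_zero' (h1 c hc) with e | e
    · obtain ⟨r, rfl⟩ : ∃ r', r = r' + 1 := ⟨r - 1, by omega⟩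
      have : c / 2 = 0 := e
      obtain rfl | rfl : c = 0 ∨ c = 1 := by omega
      all_goals simp [evp, evp_zero]
    · obtain ⟨e1, e2⟩ := add_eq_zero' e
      obtain ⟨e1, e3⟩ := add_eq_zero' e1
      obtain ⟨e1, e4⟩ := add_eq_zero' e1
      have r1 := rep_evp M.reps 2 r 0 c (by omega)
      have r2 := M.reps _ ((ltE_zero e4).trans_le (rt.trans tm))
      refine Or.inr ⟨_, ltE_zero e4, fun hc => ?_, (mul_eq_zero' e3).imp
        (fun h => by simpa using evp_lt q two_pos r s 0 c (ltE_zero h)) ltE_zero⟩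
      have a1 := r1.mul r2 _ (ltE_zero e1)
      have a2 := r2.mul r1 _ (ltE_zero e1)
      rw [eqI_eq, if_pos (by exact M.inj _ a1.1 _ a2.1 (a1.2.symm.trans (hc.eq ▸ a2.2)))] at e2
      cases e2
  have c1 : gen q t ≤ centralizer {q 0} := gen_le fun j hj => mem_centralizer_singleton_iff.mpr (by
    simpa using M.eq (add_eq_zero' (h2 j hj)).1)
  refine ⟨S, s0, sr, rt, fun x hx hc => (key x hx).elim id fun ⟨j, a, b, _⟩ => absurd (hc j a) b,
    fun x hx hc => (key x hx).elim (fun h => h.elim (fun h => h ▸ one_mem _) fun h => h ▸ mem_gen q s0)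
      fun ⟨j, _, b, c⟩ => c.elim id fun c => absurd (hc j c) b, (eq_of_le_of_card_ge c1 ?_).symm,
    gen_le fun j hj => mem_normalizer_gen fun i hi => ?_⟩
  · have := M.dvdC S ⟨rt, tm⟩ h3 h4
    rw [top_inf_eq, card_top] at h5
    exact (Nat.le_of_lt_succ (Nat.lt_of_mul_lt_mul_left (h5.trans_lt h6))).trans (Nat.le_of_dvd Nat.card_pos this)
  · obtain ⟨a1, a2⟩ := add_eq_zero' (lin_zero (add_eq_zero' (h2 j hj)).2 i hi)
    have a3 := M.eq a2
    simp only [ev_cons, ev_nil, one_mul] at a3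
    rw [a3, mul_inv_cancel_right]; exact ev_mem_gen q (lettE_zero a1)

theorem comm_gen {x : G} {s : ℕ} (h : ∀ j < s, Commute x (q j)) : ∀ y ∈ gen q s, Commute x y := fun y hy =>
  (mem_centralizer_singleton_iff.mp (gen_le (H := centralizer {x}) (fun j hj =>
    mem_centralizer_singleton_iff.mpr (h j hj).symm) hy)).symm

variable {s r t : ℕ} {R : ℕ → List ℕ}

theorem Loc.z1 (L : Loc q s r t R) : q 0 ≠ 1 := fun e => L.str 0 (L.s0.trans_le L.sr) (e ▸ one_mem _)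

theorem Loc.pg (L : Loc q s r t R) {i : ℕ} (hi : i ≤ r) : IsPGroup 2 (gen q i) := .of_card (L.card Nat.prime_two hi)

theorem Loc.cC (L : Loc q s r t R) {c : G} (hc : c ∈ centralizer (gen q s : Set G)) {k : ℕ} (hk : c ^ 2 ^ k = 1) :
    c ∈ gen q s := by
  have c1 : c ∈ gen q t := L.cen ▸ mem_centralizer_singleton_iff.mpr (hc _ (mem_gen q L.s0)).symm
  obtain ⟨a, ha, e⟩ := L.into (gen_mono q L.rt) (zpowers_le.mpr c1) (by
    obtain ⟨b, -, hb⟩ := (Nat.dvd_prime_pow Nat.prime_two).mp (orderOf_dvd_of_pow_eq_one hk)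
    exact .of_card (by rw [Nat.card_zpowers, hb]))
  have n := mem_normalizer_iff.mp (L.nrm ha)
  refine (n c).mpr (L.cR _ (e c (mem_zpowers c)) fun j hj => ?_)
  have := hc (a⁻¹ * q j * a) ((n _).mpr (by simpa [mul_assoc] using mem_gen q hj))
  show _ * _ = _ * _
  calc _ = a * (c * (a⁻¹ * q j * a)) * a⁻¹ := by group
    _ = _ := by rw [← this]; group

end Cfsg.Agent.Ct
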