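import Cfsg.Agent.Lib.Cert.Md
import Cfsg.Agent.Lib.Schur.Two

/-! Collection with tails in a central extension. -/

set_option autoImplicit false
set_option linter.unusedSectionVars false

namespace Cfsg.Agent.Ct

open Cfsg.Agent.PC Cfsg.Agent.Fi MulAction Subgroup

/-- vectors packed in base `2^32` -/
def pk : ℕ → (ℕ → ℕ) → ℕ
  | 0, _ => 0
  | K + 1, c => c 0 + 2 ^ 32 * pk K fun i => c (i + 1)

theorem pk_add (K : ℕ) : ∀ c d : ℕ → ℕ, pk K (fun i => c i + d i) = pk K c + pk K d := by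
  induction K with
  | zero => exact fun _ _ => rfl
  | succ K ih => intro c d; simp only [pk]; rw [ih]; ring

theorem pk_mul (K a : ℕ) : ∀ c : ℕ → ℕ, pk K (fun i => a * c i) = a * pk K c := by
  induction K with
  | zero => exact fun _ => rfl
  | succ K ih => intro c; simp only [pk]; rw [ih]; ring

theorem pk_one (K : ℕ) : ∀ k < K, pk K (fun i => if i = k then 1 else 0) = 2 ^ (32 * k) := by
  induction K with
  | zero => exact fun _ h => absurd h (Nat.not_lt_zero _)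
  | succ K ih =>
    rintro (_ | k) hk
    · have := pk_mul K 0 fun _ => 0
      simp only [zero_mul] at this
      simp [pk, this]
    · simp only [pk, Nat.add_right_cancel_iff]
      rw [ih k (by omega), mul_add, pow_add]; simp [mul_comm]

theorem pk_div {K : ℕ} {c : ℕ → ℕ} (h : c 0 < 2 ^ 32) :
    pk (K + 1) c / 2 ^ 32 = pk K (fun i => c (i + 1)) ∧ pk (K + 1) c % 2 ^ 32 = c 0 := by
  simp only [pk]; omega

theorem pk_inj (K : ℕ) : ∀ c d : ℕ → ℕ, (∀ i, c i < 2 ^ 32) → (∀ i, d i < 2 ^ 32) → pk K c = pk K d →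
    ∀ i < K, c i = d i := by
  induction K with
  | zero => exact fun _ _ _ _ _ _ h => absurd h (Nat.not_lt_zero _)
  | succ K ih =>
    rintro c d hc hd e (_ | i) hi
    · rw [← (pk_div (K := K) (hc 0)).2, e, (pk_div (hd 0)).2]
    · exact ih _ _ (fun i => hc (i + 1)) (fun i => hd (i + 1))
        (by rw [← (pk_div (K := K) (hc 0)).1, e, (pk_div (hd 0)).1]) i (by omega)

theorem pk_lt (K : ℕ) : ∀ c : ℕ → ℕ, (∀ i, c i < 2 ^ 32) → pk K c < 2 ^ (32 * K) := by
  induction K with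
  | zero => exact fun _ _ => Nat.one_pos
  | succ K ih =>
    intro c hc
    have h1 := ih _ fun i => hc (i + 1)
    have h2 := hc 0
    rw [mul_add, pow_add, pk]
    omega

/-- the mask with all digits `h` -/
noncomputable def msk (h K : ℕ) : ℕ := Nat.rec (nat_lit 0) (fun _ ih => Nat.add h (Nat.shiftLeft ih (nat_lit 32))) K

theorem pk_msk {h : ℕ} (hh : h < 2 ^ 32) (K : ℕ) : ∀ n, n &&& msk h K = n → ∃ c, n = pk K c ∧ ∀ i, c i ≤ h := by
  induction K with
  | zero => exact fun n e => ⟨fun _ => 0, by rw [← e]; exact Nat.and_zero n, fun _ => Nat.zero_le _⟩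
  | succ K ih =>
    intro n e
    have e0 : msk h (K + 1) = h + msk h K * 2 ^ 32 := congrArg (h + ·) (Nat.shiftLeft_eq _ _)
    have e1 := congrArg (· / 2 ^ 32) e
    have e2 := congrArg (· % 2 ^ 32) e
    simp only [Nat.and_div_two_pow, Nat.and_mod_two_pow] at e1 e2
    rw [e0, show (h + msk h K * 2 ^ 32) / 2 ^ 32 = msk h K by omega] at e1
    rw [e0, show (h + msk h K * 2 ^ 32) % 2 ^ 32 = h by omega] at e2
    obtain ⟨c, h1, h2⟩ := ih _ e1
    refine ⟨fun i => Nat.casesOn i (n % 2 ^ 32) c, ?_, ?_⟩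
    · show n = n % 2 ^ 32 + 2 ^ 32 * pk K c
      omega
    · rintro (_ | i)
      · exact e2 ▸ Nat.and_le_right
      · exact h2 i

section
variable {A : Type*} [CommGroup A] {t : ℕ → A} {K : ℕ}

/-- `n` packs an exponent vector with entries at most `b` and value `z` -/
def Pk (t : ℕ → A) (K n : ℕ) (z : A) (b : ℕ) : Prop :=
  ∃ c, n = pk K c ∧ z = ∏ i ∈ Finset.range K, t i ^ c i ∧ ∀ i, c i ≤ b

theorem Pk.mono {n b b' : ℕ} {z : A} (h : Pk t K n z b) (hb : b ≤ b') : Pk t K n z b' :=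
  let ⟨c, h1, h2, h3⟩ := h; ⟨c, h1, h2, fun i => (h3 i).trans hb⟩

theorem Pk.add {n n' b b' : ℕ} {z z' : A} (h : Pk t K n z b) (h' : Pk t K n' z' b') :
    Pk t K (n + n') (z * z') (b + b') := by
  obtain ⟨c, rfl, rfl, h3⟩ := h
  obtain ⟨d, rfl, rfl, h4⟩ := h'
  exact ⟨_, (pk_add K c d).symm, by simp only [pow_add, Finset.prod_mul_distrib], fun i => add_le_add (h3 i) (h4 i)⟩

theorem Pk.mul {n b : ℕ} {z : A} (h : Pk t K n z b) (a : ℕ) : Pk t K (a * n) (z ^ a) (a * b) := by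
  obtain ⟨c, rfl, rfl, h3⟩ := h
  exact ⟨_, (pk_mul K a c).symm, by simp only [← Finset.prod_pow, ← pow_mul, mul_comm],
    fun i => Nat.mul_le_mul_left _ (h3 i)⟩

theorem Pk.zero : Pk t K 0 1 0 := ⟨fun _ => 0, by simpa using (pk_mul K 0 fun _ => 0).symm, by simp, fun _ => le_rfl⟩

theorem Pk.one {k : ℕ} (hk : k < K) : Pk t K (Nat.shiftLeft (nat_lit 1) (Nat.mul (nat_lit 32) k)) (t k) 1 :=
  ⟨fun i => if i = k then 1 else 0, by rw [pk_one K k hk]; exact (Nat.shiftLeft_eq _ _).trans (one_mul _),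
    by simp [hk], fun i => by show ite _ _ _ ≤ _; split_ifs <;> simp⟩

theorem Pk.map {A' : Type*} [CommGroup A'] (f : A →* A') {n b : ℕ} {z : A} (h : Pk t K n z b) :
    Pk (fun i => f (t i)) K n (f z) b :=
  let ⟨c, h1, h2, h3⟩ := h; ⟨c, h1, by simp [h2], h3⟩

theorem Pk.lt {n b : ℕ} {z : A} (h : Pk t K n z b) (hb : b < 2 ^ 32) : n < 2 ^ (32 * K) :=
  let ⟨c, h1, _, h3⟩ := h; h1 ▸ pk_lt K c fun i => (h3 i).trans_lt hb

noncomputable def bdE (m n : ℕ) : ℕ := Nat.xor (Nat.land n m) n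

theorem Pk.of {h n : ℕ} (hh : h < 2 ^ 32) (e : bdE (msk h K) n = 0) : ∃ z, Pk t K n z h :=
  let ⟨c, h1, h2⟩ := pk_msk hh K n (xor_eq_zero' e); ⟨_, c, h1, rfl, h2⟩

/-- all digits but the first are multiples of `q` -/
noncomputable def zE (q K n : ℕ) : ℕ :=
  force (Nat.shiftRight n (nat_lit 32)) fun n1 =>
    Nat.add (Nat.mod n1 q) (bdE (msk (nat_lit 16777215) (Nat.sub K (nat_lit 1))) (Nat.div n1 q))

theorem Pk.z {q n b : ℕ} {z : A} (h : Pk t K n z b) (hb : b < 2 ^ 32) (h0 : t 0 = 1) (hq : ∀ a : A, a ^ q = 1)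
    (hq' : q ≤ 256) (e : zE q K n = 0) : z = 1 := by
  obtain ⟨c, rfl, rfl, h3⟩ := h
  rcases K with _ | K
  · simp
  obtain ⟨e1, e2⟩ := add_eq_zero' e
  obtain ⟨d, e3, e4⟩ := pk_msk (h := 16777215) (by norm_num) K _ (xor_eq_zero' e2)
  have e5 : Nat.shiftRight (pk (K + 1) c) 32 = pk K fun i => c (i + 1) :=
    (Nat.shiftRight_eq_div_pow _ _).trans (pk_div ((h3 0).trans_lt hb)).1
  change Nat.shiftRight (pk (K + 1) c) 32 % q = 0 at e1
  change Nat.shiftRight (pk (K + 1) c) 32 / q = _ at e3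
  rw [e5] at e1 e3
  have e6 := pk_inj K (fun i => c (i + 1)) (fun i => q * d i) (fun i => (h3 _).trans_lt hb)
    (fun i => lt_of_le_of_lt (Nat.mul_le_mul hq' (e4 i)) (by norm_num))
    (by rw [pk_mul, ← e3, Nat.mul_div_cancel' (Nat.dvd_of_mod_eq_zero e1)])
  rw [Finset.prod_range_succ', h0, one_pow, mul_one]
  exact Finset.prod_eq_one fun i hi => by rw [e6 i (Finset.mem_range.mp hi), pow_mul', hq]

/-- linear combination with coefficients packed in bytes -/
noncomputable def cmb (D : ℕ → ℕ) (J lam : ℕ) : ℕ :=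
  lin (fun j => force (Nat.land (Nat.shiftRight lam (Nat.mul (nat_lit 8) j)) (nat_lit 255)) fun a =>
    Nat.rec (nat_lit 0) (fun _ _ => Nat.mul a (D j)) a) (nat_lit 0) J

theorem Pk.cmb {T : Subgroup A} {D : ℕ → ℕ} (lam J : ℕ) (h : ∀ j < J, ∃ z ∈ T, Pk t K (D j) z 255) :
    ∃ z ∈ T, Pk t K (cmb D J lam) z (J * 65025) := by
  induction J with
  | zero => exact ⟨1, one_mem _, Pk.zero⟩
  | succ J ih =>
    obtain ⟨z, h1, h2⟩ := ih fun j hj => h j (by omega)
    obtain ⟨y, h3, h4⟩ := h J (by omega)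
    generalize ha : Nat.land (Nat.shiftRight lam (Nat.mul 8 (Nat.add 0 J))) 255 = a
    have e : Ct.cmb D (J + 1) lam = Ct.cmb D J lam + Nat.rec 0 (fun _ _ => a * D (Nat.add 0 J)) a := by
      rw [← ha]; rfl
    have e2 : Nat.rec (motive := fun _ => ℕ) 0 (fun _ _ => a * D (Nat.add 0 J)) a = a * D J := by
      cases a <;> simp
    rw [e, e2]
    exact ⟨_, mul_mem h1 (pow_mem h3 a), (h2.add (h4.mul a)).mono (by
      have : a ≤ 255 := ha ▸ Nat.and_le_right
      omega)⟩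

/-- sum of the vectors of the letters of a word -/
noncomputable def smL (C : ℕ → ℕ) (l : List ℕ) : ℕ := List.rec (nat_lit 0) (fun a _ ih => Nat.add (C a) ih) l

theorem Pk.smL {C : ℕ → ℕ} {c : ℕ → A} {m : ℕ} (h : ∀ a < m, Pk t K (C a) (c a) 255) (l : List ℕ) (hl : ∀ a ∈ l, a < m) :
    Pk t K (smL C l) (l.map c).prod (l.length * 255) := by
  induction l with
  | nil => exact Pk.zero
  | cons a l ih =>
    rw [List.map_cons, List.prod_cons, List.length_cons, add_comm, add_mul, one_mul]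
    exact (h a (hl a List.mem_cons_self)).add (ih fun b hb => hl b (List.mem_cons_of_mem _ hb))

end

/-! words packed in base 64 -/

section
variable {G : Type*} [Group G] {g : ℕ → G}

def evN (g : ℕ → G) (n : ℕ) : G := ev g (Nat.digits 64 n)
def evR (g : ℕ → G) (n : ℕ) : G := ev g (Nat.digits 64 n).reverse

theorem evN_eq (h0 : g 0 = 1) (n : ℕ) : evN g n = evN g (n / 64) * g (n % 64) := by
  rcases n with _ | n
  · simp [evN, h0]
  · rw [evN, Nat.digits_def' (by norm_num) (Nat.succ_pos n)]; rfl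

theorem evR_eq (h0 : g 0 = 1) (n : ℕ) : evR g n = g (n % 64) * evR g (n / 64) := by
  rcases n with _ | n
  · simp [evR, h0]
  · rw [evR, Nat.digits_def' (by norm_num) (Nat.succ_pos n), List.reverse_cons, ev_append]; simp [evR]

theorem evN_app (h0 : g 0 = 1) (m y : ℕ) : ∀ x < 64 ^ m, evN g (x + y * 64 ^ m) = evN g y * evN g x := by
  induction m with
  | zero => intro x hx; simp [show x = 0 by simpa using hx, evN]
  | succ m ih =>
    intro x hx
    rw [pow_succ] at hx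
    rw [evN_eq h0, evN_eq h0 x, pow_succ, ← mul_assoc, Nat.add_mul_div_right _ _ (by norm_num), Nat.add_mul_mod_self_right,
      ih _ (by omega), mul_assoc]

theorem evR_app (h0 : g 0 = 1) (m y : ℕ) : ∀ x < 64 ^ m, evR g (x + y * 64 ^ m) = evR g x * evR g y := by
  induction m with
  | zero => intro x hx; simp [show x = 0 by simpa using hx, evR]
  | succ m ih =>
    intro x hx
    rw [pow_succ] at hx
    rw [evR_eq h0, evR_eq h0 x, pow_succ, ← mul_assoc, Nat.add_mul_div_right _ _ (by norm_num), Nat.add_mul_mod_self_right,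
      ih _ (by omega), mul_assoc]

/-- the first `f` digits -/
noncomputable def dl (f : ℕ) : ℕ → List ℕ :=
  Nat.rec (motive := fun _ => ℕ → List ℕ) (fun _ => []) (fun _ ih n => Nat.mod n (nat_lit 64) :: ih (Nat.div n (nat_lit 64))) f

/-- the same, reversed -/
noncomputable def dr (f : ℕ) : ℕ → List ℕ → List ℕ :=
  Nat.rec (motive := fun _ => ℕ → List ℕ → List ℕ) (fun _ l => l)
    (fun _ ih n l => ih (Nat.div n (nat_lit 64)) (Nat.mod n (nat_lit 64) :: l)) f

theorem ev_dl (h0 : g 0 = 1) (f : ℕ) : ∀ n < 64 ^ f, ev g (dl f n) = evN g n := by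
  induction f with
  | zero => intro n hn; rw [show n = 0 by simpa using hn]; simp [evN, dl]
  | succ f ih =>
    intro n hn
    rw [pow_succ] at hn
    rw [evN_eq h0, ← ih _ (by omega)]; rfl

theorem ev_dr (h0 : g 0 = 1) (f : ℕ) : ∀ n < 64 ^ f, ∀ l, ev g (dr f n l) = ev g l * evR g n := by
  induction f with
  | zero => intro n hn l; rw [show n = 0 by simpa using hn]; simp [evR, dr]
  | succ f ih =>
    intro n hn l
    rw [pow_succ] at hn
    rw [evR_eq h0, ← mul_assoc, ← ev_cons, ← ih _ (by omega)]; rfl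

theorem dl_len (f : ℕ) : ∀ n, (dl f n).length = f := by
  induction f with
  | zero => exact fun _ => rfl
  | succ f ih => exact fun n => congrArg (· + 1) (ih _)

theorem dr_len (f : ℕ) : ∀ n l, (dr f n l).length = f + l.length := by
  induction f with
  | zero => exact fun _ _ => (zero_add _).symm
  | succ f ih => exact fun n l => (ih _ _).trans (by simp; omega)

end

/-- fields of a rule -/
noncomputable def ruA (e : ℕ) : ℕ := Nat.mod e (nat_lit 64)
noncomputable def ruB (e : ℕ) : ℕ := Nat.mod (Nat.div e (nat_lit 64)) (nat_lit 64)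
noncomputable def ruL (e : ℕ) : ℕ := Nat.mod (Nat.shiftRight e (nat_lit 12)) (nat_lit 281474976710656)
noncomputable def ruR (e : ℕ) : ℕ := Nat.shiftRight e (nat_lit 60)
noncomputable def ruU (e : ℕ) : List ℕ := dr (nat_lit 8) (ruL e) []
noncomputable def ruV (e : ℕ) : List ℕ := dl (ruB e) (ruR e)

/-- a block of steps of the collector; the state is `acc + 2^S * (out + 2^512 * inp)` -/
noncomputable def colB (I Ru : ℕ → ℕ) (S s0 f : ℕ) : ℕ → ℕ → ℕ → ℕ :=
  Nat.rec (motive := fun _ => ℕ → ℕ → ℕ → ℕ)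
    (fun o i a => Nat.rec (Nat.add a (Nat.shiftLeft (Nat.add o (Nat.shiftLeft i (nat_lit 512))) S)) (fun _ _ => s0)
      (Nat.shiftRight o (nat_lit 512)))
    (fun _ ih o i a => Nat.rec (ih o i a) (fun _ _ =>
      force (Nat.add (Nat.land i (nat_lit 63)) (Nat.shiftLeft o (nat_lit 6))) fun o1 =>
      force (Nat.shiftRight i (nat_lit 6)) fun i1 => force (I (Nat.land o1 (nat_lit 4095))) fun k =>
        Nat.rec (ih o1 i1 a) (fun _ _ => force (Ru k) fun e => force (Nat.mul (nat_lit 6) (ruA e)) fun n1 =>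
          force (Nat.shiftRight o1 n1) fun o2 =>
            Nat.rec (force (Nat.add (ruR e) (Nat.shiftLeft i1 (Nat.mul (nat_lit 6) (ruB e)))) fun i2 =>
                force (Nat.add (Nat.add a (Nat.shiftLeft (nat_lit 1) (Nat.mul (nat_lit 32) k))) (nat_lit 1)) (ih o2 i2))
              (fun _ _ => ih o1 i1 a) (Nat.xor o1 (Nat.add (ruL e) (Nat.shiftLeft o2 n1)))) k) i) f

noncomputable def colS (I Ru : ℕ → ℕ) (S s : ℕ) : ℕ :=
  force (Nat.shiftRight s S) fun h => colB I Ru S s (nat_lit 32) (Nat.mod h (Nat.shiftLeft (nat_lit 1) (nat_lit 512)))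
    (Nat.shiftRight h (nat_lit 512)) (Nat.mod s (Nat.shiftLeft (nat_lit 1) S))

noncomputable def colT (I Ru : ℕ → ℕ) (S d : ℕ) : ℕ → ℕ :=
  Nat.rec (motive := fun _ => ℕ → ℕ) (colS I Ru S) (fun _ ih s => force (ih s) fun s' =>
    Nat.rec s' (fun _ _ => ih s') (Nat.shiftRight s' (Nat.add S (nat_lit 512)))) d

section
variable {Γ A : Type*} [Group Γ] [CommGroup A] {ι : A →* Γ} {t : ℕ → A} {l : ℕ → Γ} {I Ru : ℕ → ℕ} {K : ℕ}

/-- rules holding up to central tails -/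
structure Tl (ι : A →* Γ) (t : ℕ → A) (l : ℕ → Γ) (I Ru : ℕ → ℕ) (K : ℕ) : Prop where
  cen : ∀ a x, x * ι a = ι a * x
  l0 : l 0 = 1
  t0 : t 0 = 1
  K0 : 0 < K
  idx : ∀ x < 4096, I x < K
  len : ∀ k < K, ruR (Ru k) < 64 ^ ruB (Ru k)
  rule : ∀ k < K, ev l (ruU (Ru k)) = ι (t k) * ev l (ruV (Ru k))

/-- the invariant of the collector -/
def St (ι : A →* Γ) (t : ℕ → A) (l : ℕ → Γ) (K : ℕ) (x : Γ) (o i a b : ℕ) : Prop :=
  ∃ z, Pk t K a z b ∧ x = ι z * (evN l i * evR l o)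

def Sp (ι : A →* Γ) (t : ℕ → A) (l : ℕ → Γ) (K : ℕ) (x : Γ) (s b : ℕ) : Prop :=
  St ι t l K x (s / 2 ^ (32 * K) % 2 ^ 512) (s / 2 ^ (32 * K) / 2 ^ 512) (s % 2 ^ (32 * K)) b

theorem rec_P {P : ℕ → Prop} {a b n : ℕ} (h0 : n = 0 → P a) (h1 : P b) : P (Nat.rec a (fun _ _ => b) n) := by
  cases n
  exacts [h0 rfl, h1]

theorem Tl.blk (H : Tl ι t l I Ru K) {x : Γ} {s0 b : ℕ} (hb : b < 2 ^ 32) (h0 : Sp ι t l K x s0 b) (f : ℕ) :
    ∀ o i a b', b' + 2 * f ≤ b → St ι t l K x o i a b' → Sp ι t l K x (colB I Ru (32 * K) s0 f o i a) b := by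
  induction f with
  | zero =>
    rintro o i a b' hb' ⟨z, h1, h2⟩
    show Sp ι t l K x (Nat.rec (a + (o + i <<< 512) <<< (32 * K)) (fun _ _ => s0) (o >>> 512)) b
    rcases e : o >>> 512 with _ | k
    · have e1 := h1.lt (by omega)
      rw [Nat.shiftRight_eq_div_pow, Nat.div_eq_zero_iff_lt (by positivity)] at e
      show St _ _ _ _ _ ((a + _) / _ % _) ((a + _) / _ / _) ((a + _) % _) _
      rw [Nat.shiftLeft_eq, Nat.shiftLeft_eq, Nat.add_mul_div_right _ _ (by positivity), Nat.add_mul_mod_self_right,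
        Nat.div_eq_of_lt e1, Nat.mod_eq_of_lt e1, zero_add, Nat.add_mul_div_right _ _ (by positivity),
        Nat.add_mul_mod_self_right, Nat.div_eq_of_lt e, Nat.mod_eq_of_lt e, zero_add]
      exact ⟨z, h1.mono (by omega), h2⟩
    · exact h0
  | succ f ih =>
    rintro o i a b' hb' ⟨z, h1, h2⟩
    rcases i with _ | i
    · exact ih o 0 a b' (by omega) ⟨z, h1, h2⟩
    generalize hi : i + 1 = j at h2
    generalize ho1 : Nat.add (Nat.land j 63) (Nat.shiftLeft o 6) = o1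
    generalize hi1 : Nat.shiftRight j 6 = i1
    generalize hk : I (Nat.land o1 4095) = k
    generalize hn : Nat.mul 6 (ruA (Ru k)) = n1
    generalize ho2 : Nat.shiftRight o1 n1 = o2
    have e0 : colB I Ru (32 * K) s0 (f + 1) o j a = Nat.rec (colB I Ru (32 * K) s0 f o1 i1 a) (fun _ _ =>
        Nat.rec (colB I Ru (32 * K) s0 f o2 (ruR (Ru k) + Nat.shiftLeft i1 (Nat.mul 6 (ruB (Ru k))))
          (a + Nat.shiftLeft 1 (Nat.mul 32 k) + 1)) (fun _ _ => colB I Ru (32 * K) s0 f o1 i1 a)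
          (Nat.xor o1 (ruL (Ru k) + Nat.shiftLeft o2 n1))) k := by
      subst ho2 hn hk hi1 ho1 hi; rfl
    have e1 : o1 = j % 64 + o * 64 ^ 1 := by
      rw [← ho1]; exact congrArg₂ (· + ·) (Nat.and_two_pow_sub_one_eq_mod j 6) (Nat.shiftLeft_eq o 6)
    have e2 : x = ι z * (evN l i1 * evR l o1) := by
      rw [h2, evN_eq H.l0, e1, evR_eq H.l0 (_ + _), ← hi1, mul_assoc]
      rw [show (j % 64 + o * 64 ^ 1) % 64 = j % 64 by omega, show (j % 64 + o * 64 ^ 1) / 64 = o by omega]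
      exact congrArg (fun y => ι z * (evN l y * _)) (Nat.shiftRight_eq_div_pow j 6).symm
    have e3 := ih o1 i1 a b' (by omega) ⟨z, h1, e2⟩
    rw [e0]
    refine rec_P (P := fun y => Sp ι t l K x y b) (fun _ => e3) (rec_P (P := fun y => Sp ι t l K x y b) (fun e => ?_) e3)
    have e4 : k < K := hk ▸ H.idx _ (lt_of_le_of_lt Nat.and_le_right (by norm_num))
    have e5 : o1 = ruL (Ru k) + o2 * 64 ^ ruA (Ru k) := by
      rw [xor_eq_zero' e, ← hn, show 64 = 2 ^ 6 from rfl, ← pow_mul]; exact congrArg _ (Nat.shiftLeft_eq _ _)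
    have e6 : o2 = o1 / 64 ^ ruA (Ru k) := by
      rw [← ho2, ← hn, show 64 = 2 ^ 6 from rfl, ← pow_mul]; exact Nat.shiftRight_eq_div_pow _ _
    have e7 : ruL (Ru k) < 64 ^ ruA (Ru k) := by
      have := Nat.mod_add_div' o1 (64 ^ ruA (Ru k))
      have := Nat.mod_lt o1 (show 0 < 64 ^ ruA (Ru k) by positivity)
      rw [← e6] at *
      omega
    have e8 := H.rule k e4
    rw [ruU, ruV, ev_dr H.l0 8 (ruL (Ru k)) (Nat.mod_lt _ (by norm_num)), ev_dl H.l0 _ _ (H.len k e4), ev_nil, one_mul] at e8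
    refine ih _ _ _ (b' + 2) (by omega) ⟨_, ((h1.add (Pk.one e4)).add (Pk.one H.K0)).mono (by omega), ?_⟩
    have e9 : Nat.shiftLeft i1 (Nat.mul 6 (ruB (Ru k))) = i1 * 64 ^ ruB (Ru k) := by
      rw [show 64 = 2 ^ 6 from rfl, ← pow_mul]; exact Nat.shiftLeft_eq _ _
    rw [e2, e5, e9, evR_app H.l0 _ _ _ e7, evN_app H.l0 _ _ _ (H.len k e4), e8, H.t0, mul_one, map_mul, mul_assoc, mul_assoc,
      mul_assoc, ← mul_assoc (evN l i1), H.cen, mul_assoc]

theorem Tl.tree (H : Tl ι t l I Ru K) {x : Γ} (d : ℕ) : ∀ s b, b + 64 * 2 ^ d < 2 ^ 32 → Sp ι t l K x s b →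
    Sp ι t l K x (colT I Ru (32 * K) d s) (b + 64 * 2 ^ d) := by
  have mono : ∀ {s b b'}, Sp ι t l K x s b → b ≤ b' → Sp ι t l K x s b' := fun ⟨z, h1, h2⟩ h => ⟨z, h1.mono h, h2⟩
  induction d with
  | zero =>
    intro s b hb h
    refine H.blk hb (mono h (by omega)) 32 _ _ _ b (by omega) ?_
    show St ι t l K x (s >>> _ % 1 <<< 512) (s >>> _ >>> 512) (s % 1 <<< _) b
    simp only [Nat.shiftRight_eq_div_pow, Nat.shiftLeft_eq, one_mul]
    exact h
  | succ d ih =>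
    intro s b hb h
    have h1 := ih s b (by omega) h
    exact rec_P (P := fun y => Sp ι t l K x y (b + 64 * 2 ^ (d + 1))) (fun _ => mono h1 (by omega))
      (mono (ih _ _ (by omega) h1) (by omega))

/-- a packed word -/
noncomputable def pw (w : List ℕ) : ℕ := List.rec (nat_lit 0) (fun a _ ih => Nat.add a (Nat.shiftLeft ih (nat_lit 6))) w

theorem evN_pw (h0 : l 0 = 1) (w : List ℕ) (h : ∀ a ∈ w, a < 64) : evN l (pw w) = ev l w := by
  induction w with
  | nil => simp [pw, evN]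
  | cons a w ih =>
    have e : pw (a :: w) = a + pw w * 64 := congrArg (a + ·) (Nat.shiftLeft_eq _ 6)
    have := h a List.mem_cons_self
    rw [e, evN_eq h0, show (a + pw w * 64) / 64 = pw w by omega, show (a + pw w * 64) % 64 = a by omega,
      ih fun b hb => h b (List.mem_cons_of_mem _ hb), ev_cons]

/-- collect a word -/
noncomputable def col (I Ru : ℕ → ℕ) (K : ℕ) (w : List ℕ) : ℕ :=
  force (Nat.mul (nat_lit 32) K) fun S => colT I Ru S (nat_lit 12) (Nat.shiftLeft (pw w) (Nat.add S (nat_lit 512)))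

theorem Tl.cl (H : Tl ι t l I Ru K) {w : List ℕ} (h : lettE (nat_lit 64) w = 0) :
    ∃ (z : A) (F : ℕ → Γ), Pk t K (col I Ru K w % 2 ^ (32 * K)) z 262144 ∧ ev l w = ι z * F (col I Ru K w / 2 ^ (32 * K)) ∧
      F = fun n => evN l (n / 2 ^ 512) * evR l (n % 2 ^ 512) := by
  obtain ⟨z, h1, h2⟩ := H.tree (x := ev l w) 12 (pw w <<< (32 * K + 512)) 0 (by norm_num) (by
    rw [Sp, Nat.shiftLeft_eq, add_comm, pow_add, ← mul_assoc, Nat.mul_div_cancel _ (by positivity), Nat.mul_mod_left,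
      Nat.mul_mod_left, Nat.mul_div_cancel _ (by positivity)]
    exact ⟨1, Pk.zero, by simp [evN_pw H.l0 w (lettE_zero h), evR]⟩)
  exact ⟨z, _, h1, h2, rfl⟩

/-- a relation between tails: the words `a`, `b` and `u ++ a`, `u ++ b` collect to the same words -/
noncomputable def rlE (I Ru : ℕ → ℕ) (K q : ℕ) (u a b : List ℕ) (D : ℕ) : ℕ :=
  force (Nat.mul (nat_lit 32) K) fun S => force (Nat.shiftLeft (nat_lit 1) S) fun P =>
  force (col I Ru K a) fun x1 => force (col I Ru K b) fun x2 =>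
  force (col I Ru K (u ++ a)) fun x3 => force (col I Ru K (u ++ b)) fun x4 =>
    Nat.add (Nat.add (Nat.add (lettE (nat_lit 64) u) (Nat.add (lettE (nat_lit 64) a) (lettE (nat_lit 64) b)))
      (Nat.add (Nat.xor (Nat.shiftRight x1 S) (Nat.shiftRight x2 S)) (Nat.xor (Nat.shiftRight x3 S) (Nat.shiftRight x4 S))))
    (Nat.add (bdE (msk (nat_lit 255) K) D) (zE q K (Nat.add (Nat.add (Nat.mod x3 P) (Nat.mod x2 P))
      (Nat.mul (Nat.sub q (nat_lit 1)) (Nat.add (Nat.add (Nat.mod x4 P) (Nat.mod x1 P)) D)))))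

theorem lettE_app {m : ℕ} {u a : List ℕ} (h1 : lettE m u = 0) (h2 : lettE m a = 0) : lettE m (u ++ a) = 0 := by
  induction u with
  | nil => exact h2
  | cons x u ih =>
    obtain ⟨e1, e2⟩ := add_eq_zero' h1
    exact Nat.add_eq_zero_iff.mpr ⟨e1, ih e2⟩

theorem Tl.rl (H : Tl ι t l I Ru K) (hι : Function.Injective ι) {A' : Type*} [CommGroup A'] (f : A →* A') {q : ℕ}
    (hq : ∀ a : A', a ^ q = 1) (hq' : 0 < q ∧ q ≤ 256) {u a b : List ℕ} {D : ℕ} (h : rlE I Ru K q u a b D = 0) :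
    Pk (fun i => f (t i)) K D 1 255 := by
  obtain ⟨h1, h2⟩ := add_eq_zero' h
  obtain ⟨h1, h3⟩ := add_eq_zero' h1
  obtain ⟨h1, h4⟩ := add_eq_zero' h1
  obtain ⟨h4, h5⟩ := add_eq_zero' h4
  obtain ⟨h3, h6⟩ := add_eq_zero' h3
  obtain ⟨h2, h7⟩ := add_eq_zero' h2
  obtain ⟨z1, F, a1, b1, hF⟩ := H.cl h4
  obtain ⟨z2, _, a2, b2, rfl⟩ := H.cl h5
  obtain ⟨z3, _, a3, b3, rfl⟩ := H.cl (lettE_app h1 h4)
  obtain ⟨z4, _, a4, b4, rfl⟩ := H.cl (lettE_app h1 h5)
  rw [← hF] at b2 b3 b4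
  have c1 : col I Ru K a / 2 ^ (32 * K) = col I Ru K b / 2 ^ (32 * K) := by
    simp only [← Nat.shiftRight_eq_div_pow]; exact xor_eq_zero' h3
  have c2 : col I Ru K (u ++ a) / 2 ^ (32 * K) = col I Ru K (u ++ b) / 2 ^ (32 * K) := by
    simp only [← Nat.shiftRight_eq_div_pow]; exact xor_eq_zero' h6
  have c3 : z3 * z2 = z4 * z1 := hι (by
    rw [ev_append, b1, c1] at b3
    rw [ev_append, b2, ← c2] at b4
    rw [map_mul, map_mul, eq_mul_inv_of_mul_eq b3.symm, eq_mul_inv_of_mul_eq b4.symm, H.cen z2, H.cen z1]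
    simp only [← mul_assoc, ← map_mul, mul_comm])
  obtain ⟨z, a5⟩ := Pk.of (t := fun i => f (t i)) (by norm_num) h2
  have c4 := (((a3.add a2).map f).add (((((a4.add a1).map f).add a5)).mul (q - 1))).z (by
    exact lt_of_le_of_lt (Nat.add_le_add_left (Nat.mul_le_mul_right _ (show q - 1 ≤ 256 by omega)) _) (by norm_num))
    (by simp [H.t0]) hq hq'.2 (by simp only [← Nat.one_shiftLeft]; exact h7)
  have c5 : z = 1 := by
    have := hq (f (z4 * z1) * z)
    rw [← Nat.sub_add_cancel hq'.1, pow_succ', ← c4, c3, mul_left_inj, mul_eq_left] at this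
    exact this
  exact c5 ▸ a5

end

end Cfsg.Agent.Ct
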