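import Cfsg.Agent.Lib.Cert.Emb
import Cfsg.Agent.Lib.PU.Tv1
import Cfsg.Agent.Lib.Fusion.SylowIn
import Cfsg.Prelude.Def_CaseTheorems

/-! Involution centralizers that are split extensions of an extraspecial group by a simple group. -/

set_option autoImplicit false
set_option linter.unusedSectionVars false

namespace Cfsg.Agent.Ct

open Cfsg.Agent.PC Cfsg.Agent.Fi Subgroup

variable {G X P : Type*} [Group G] [Group P] [Finite G] [Finite P] {q : ℕ → G} {s t r : ℕ}

def Sh0 {G : Type*} [Group G] (E : Subgroup G) (s : ℕ) (P : Type*) [Group P] : Prop :=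
  IsExtraspecial 2 E ∧ Nat.card E = 2 ^ s ∧ pCore 2 G = E ∧ Nat.card G = 2 ^ s * Nat.card P ∧
    ∃ _ : E.Normal, (∃ H, E.IsComplement' H) ∧ Nonempty (G ⧸ E ≃* P)

theorem shape0 [IsSimpleGroup P] (s1 : 1 < s) (hz : ∀ x, Commute x (q 0)) (ho : orderOf (q 0) = 2) [hn : (gen q s).Normal]
    (h1 : ∀ x ∈ gen q s, (∀ j < s, Commute x (q j)) → x = 1 ∨ x = q 0) (hc : Nat.card (gen q s) = 2 ^ s)
    (h3 : ∀ i < s, ∀ j < s, (q j * q i) ^ 2 ∈ zpowers (q 0)) (φ : P →* G) (i : Function.Injective φ) (h4 : 3 ∣ Nat.card P)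
    (h5 : Nat.card G ≤ 2 ^ s * Nat.card P) : Sh0 (gen q s) s P := by
  have z0 := mem_gen q (zero_lt_one.trans s1)
  have pg : IsPGroup 2 (gen q s) := .of_card hc
  have np : ¬ IsPGroup 2 P := fun h => by
    obtain ⟨k, e⟩ := IsPGroup.iff_card.mp h
    exact absurd (Nat.prime_three.dvd_of_dvd_pow (e ▸ h4)) (by decide)
  have nz : (zpowers (q 0)).Normal := ⟨fun n hn g => by
    obtain ⟨k, rfl⟩ := hn
    rw [((hz g).zpow_right k).eq, mul_inv_cancel_right]; exact ⟨k, rfl⟩⟩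
  let π := QuotientGroup.mk' (zpowers (q 0))
  have k0 : ∀ {x}, π x = 1 ↔ x ∈ zpowers (q 0) := fun {x} => QuotientGroup.eq_one_iff x
  have k1 : ∀ i < s, π (q i) * π (q i) = 1 := fun i hi => by
    have := k0.mpr (h3 i hi 0 (by omega))
    rwa [map_pow, map_mul, k0.mpr (mem_zpowers _), one_mul, sq] at this
  have k2 : ∀ i < s, ∀ j < s, Commute (π (q i)) (π (q j)) := fun i hi j hj => by
    have := k0.mpr (h3 i hi j hj)
    rw [map_pow, map_mul, sq, mul_eq_one_iff_eq_inv, mul_inv_rev, inv_eq_of_mul_eq_one_left (k1 i hi),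
      inv_eq_of_mul_eq_one_left (k1 j hj)] at this
    exact this.symm
  have k3 : ∀ x ∈ gen q s, π x ∈ gen (fun j => π (q j)) s := fun x hx => gen_map π q s ▸ mem_map_of_mem π hx
  have k4 : ∀ x ∈ gen q s, ∀ y ∈ gen q s, Commute (π x) (π y) := fun x hx y hy =>
    comm_gen (fun j hj => (comm_gen (fun i hi => k2 j hj i hi) _ (k3 x hx)).symm) _ (k3 y hy)
  have k5 : ∀ x ∈ gen q s, π x ^ 2 = 1 := fun x hx => by
    induction hx using closure_induction with
    | mem x h => obtain ⟨j, hj, rfl⟩ := h; rw [sq, k1 j hj]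
    | one => simp
    | mul x y hx hy a b => rw [map_mul, (k4 x hx y hy).mul_pow, a, b, one_mul]
    | inv x _ a => rw [map_inv, inv_pow, a, inv_one]
  let ψ := (QuotientGroup.mk' (gen q s)).comp φ
  have i2 : Function.Injective ψ := ψ.ker_eq_bot_iff.mp (ψ.normal_ker.eq_bot_or_eq_top.resolve_right fun e => np
    (pg.of_injective (φ.codRestrict _ fun x => (QuotientGroup.eq_one_iff _).mp (e.ge (mem_top x)))
      fun a b h => i (congrArg Subtype.val h)))
  have c1 := card_eq_card_quotient_mul_card_subgroup (gen q s)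
  have c2 := Nat.card_le_card_of_injective _ i2
  rw [hc, mul_comm] at c1
  have c3 : Nat.card P = Nat.card (G ⧸ gen q s) := le_antisymm c2 (Nat.le_of_mul_le_mul_left (c1 ▸ h5) (by positivity))
  have b := (Nat.bijective_iff_injective_and_card _).mpr ⟨i2, c3⟩
  let e := MulEquiv.ofBijective ψ b
  have := e.symm.isSimpleGroup
  refine ⟨PU.Tv.extra_of pg ho (le_antisymm (fun x hx => ?_) (zpowers_le.mpr ⟨z0, fun y _ => hz y⟩))
    (commutator_le.mpr fun x hx y hy => k0.mp ?_) (fun x hx => k0.mp (by rw [map_pow, k5 x hx])) fun h => ?_, hc,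
    le_antisymm ?_ (Fusion.le_pCore hn pg), c3 ▸ c1, hn, ⟨φ.range, isComplement'_of_card_mul_and_disjoint ?_ ?_⟩, ⟨e.symm⟩⟩
  · exact (h1 x hx.1 fun j hj => (hx.2 _ (mem_gen q hj)).symm).elim (· ▸ one_mem _) (· ▸ mem_zpowers _)
  · rw [map_commutatorElement, commutatorElement_eq_one_iff_commute]; exact k4 x hx y hy
  · have := card_dvd_of_le h
    rw [hc, Nat.card_zpowers, ho] at this
    exact absurd ((Nat.pow_dvd_pow 2 s1).trans this) (by decide)
  · rw [← QuotientGroup.ker_mk' (gen q s), ← Subgroup.map_eq_bot_iff]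
    refine (((pCore_normal 2 G).map _ (QuotientGroup.mk'_surjective _)).eq_bot_or_eq_top).resolve_right fun h => np ?_
    have := (Fusion.pCore_pgroup (p := 2) G).map (QuotientGroup.mk' (gen q s))
    rw [h] at this
    exact this.of_equiv (topEquiv.trans e.symm)
  · rw [hc, ← Nat.card_congr (MonoidHom.ofInjective i).toEquiv, c3, c1]
  · exact disjoint_iff_inf_le.mpr fun x ⟨hx, y, hy⟩ => by
      rw [mem_bot, ← hy, (map_eq_one_iff _ i2).mp ((QuotientGroup.eq_one_iff _).mpr (hy ▸ hx : φ y ∈ _)), map_one]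

variable [MulAction G X] {pt : ℕ → X} {N : ℕ} {B : List ℕ} {Q Q' : ℕ → ℕ → ℕ}

def Shape (q : ℕ → G) (s t : ℕ) (P : Type*) [Group P] : Prop :=
  orderOf (q 0) = 2 ∧ centralizer {q 0} = gen q t ∧ Sh0 (gen (PC.sub (gen q t) q) s) s P

noncomputable def esE (Q : ℕ → ℕ → ℕ) (B : List ℕ) (s i : ℕ) : ℕ :=
  lin (fun j => Nat.mul (eqE Q B s [i, j, i, j] []) (eqE Q B s [i, j, i, j] [nat_lit 0])) (nat_lit 0) s

theorem Md.shape [IsSimpleGroup P] (M : Md pt N B q Q s) (M' : Md pt N B q Q' t) (h0 : 1 < s ∧ s ≤ t)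
    {R U : ℕ → List ℕ} {Zm Zc : ℕ → ℕ} {ps : ℕ} (hp : ps = 2 ^ s)
    (h1 : lin (fun i => Nat.add (Nat.add (relE Q B s (nat_lit 2) R i) (nmE Q B s s U i)) (esE Q B s i)) (nat_lit 0) s = 0 ∧
      eqE Q B s [0, 0] [] = 0)
    (h2 : lin (fun c => Nat.add (mvE Q N (nat_lit 2) s Zm c) (ncE Q N s s ps Zc c)) (nat_lit 0) ps = 0)
    (h3 : lin (nmE Q' B t s U) (nat_lit 0) t = 0)
    (h4 : ∃ φ : P →* G, Function.Injective φ ∧ φ.range ≤ gen q t)
    (h6 : 3 ∣ Nat.card P) (h7 : Nat.card (centralizer {q 0}) ≤ 2 ^ s * Nat.card P) : Shape q s t P := by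
  have st := h0.2
  obtain ⟨φ, i, l⟩ := h4
  have c1 : gen q t ≤ centralizer {q 0} := gen_le fun j hj => mem_centralizer_singleton_iff.mpr (by
    simpa using M'.eq (add_eq_zero' (lin_zero h3 j hj)).1)
  have e0 : (PC.sub (gen q t) q 0 : G) = q 0 := coe_sub (mem_gen q (by omega))
  have M1 := M.sub le_rfl (gen_mono q st)
  have M2 := M'.sub (L := gen q t) le_rfl le_rfl
  have top : gen (PC.sub (gen q t) q) t = ⊤ := gen_sub_top rfl
  unfold Shape
  generalize PC.sub (gen q t) q = u at *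
  have M3 := M1.sub (L := gen u s) le_rfl le_rfl
  have r1 := fun i hi => add_eq_zero' (add_eq_zero' (lin_zero h1.1 i hi)).1
  have r2 := fun i hi => add_eq_zero' (lin_zero h2 i hi)
  have le : Nat.card (gen u s) ≤ 2 ^ s := by
    refine (Nat.card_le_card_of_surjective (fun c : Fin (2 ^ s) => (⟨evp u 2 s 0 c, by simpa using evp_lt u two_pos s s 0 c c.2⟩ : gen u s))
      fun x => ?_).trans (by simp)
    obtain ⟨c, hc, y, hy, e⟩ := (M1.rel fun i hi => (r1 i hi).1).pc.nf two_pos s 0 (by omega) x (by rw [zero_add]; exact x.2)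
    rw [gen_zero, mem_bot] at hy
    exact ⟨⟨c, hc⟩, Subtype.ext (by rw [e, hy, mul_one])⟩
  have K := M3.loc (M3.sy' le_rfl one_lt_two (fun i hi => (r1 i hi).1) hp (fun i hi => (r2 i hi).1) fun h =>
    absurd ((Nat.le_of_dvd Nat.card_pos h).trans le) (by rw [pow_succ]; have := Nat.two_pow_pos s; omega))
    ⟨by omega, le_rfl, le_rfl, le_rfl⟩ ⟨hp, hp⟩ (fun i hi => (r2 i hi).2) (fun i hi => (r1 i hi).2) (l := []) rfl (by simp) (n := 0)
    (by rw [zero_add, one_mul]; exact card_le_of_le inf_le_left) (by simpa [hp, Nat.lt_succ_iff] using le)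
  have t3 : gen (PC.sub (gen u s) u) s = ⊤ := gen_sub_top rfl
  have e1 : ∀ j < s, (PC.sub (gen u s) u j : gen q t) = u j := fun j hj => coe_sub (mem_gen u hj)
  have ho : orderOf (u 0) = 2 := orderOf_eq_prime (by simpa [pow_two] using M1.eq h1.2) fun e => K.z1 (Subtype.ext ((e1 0 (by omega)).trans e))
  have hn : (gen u s).Normal := normalizer_eq_top_iff.mp (eq_top_iff.mpr (top ▸ gen_le fun j hj => mem_normalizer_gen fun i hi => by
    obtain ⟨a1, a2⟩ := add_eq_zero' (lin_zero (add_eq_zero' (lin_zero h3 j hj)).2 i hi)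
    have a3 := M2.eq a2
    simp only [ev_cons, ev_nil, one_mul] at a3
    rw [a3, mul_inv_cancel_right]; exact ev_mem_gen u (lettE_zero a1)))
  have S := shape0 h0.1 (fun x => Subtype.ext (by simpa [e0] using mem_centralizer_singleton_iff.mp (c1 x.2))) ho
    (fun x hx hc => (K.ctr ⟨x, hx⟩ (t3 ▸ mem_top _) fun j hj => Subtype.ext (by simpa [e1 j hj] using (hc j hj).eq)).imp
      (congrArg Subtype.val) fun e => (congrArg Subtype.val e).trans (e1 0 (by omega)))
    (by rw [← card_top, ← t3, K.card Nat.prime_two le_rfl]) (fun i hi j hj => by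
      rcases mul_eq_zero' (lin_zero (add_eq_zero' (lin_zero h1.1 i hi)).2 j hj) with e | e <;> have := M1.eq e <;>
        simp only [ev_cons, ev_nil, one_mul] at this <;> rw [pow_two, ← mul_assoc, this]
      exacts [one_mem _, mem_zpowers _]) (φ.codRestrict _ fun x => l ⟨x, rfl⟩) (fun _ _ h => i (congrArg Subtype.val h)) h6 ((card_le_of_le c1).trans h7)
  exact ⟨e0 ▸ (orderOf_coe _).trans ho, (eq_of_le_of_card_ge c1 (S.2.2.2.1 ▸ h7)).symm, S⟩

end Cfsg.Agent.Ct
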